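import Cfsg.Agent.Lib.Elu.Fix

/-!
Arithmetic for the elusive actions on totally singular and nondegenerate subspaces.
-/

set_option autoImplicit false

namespace Cfsg.Lib.Elu

variable {i c t n m x k s N : ℕ} {T P Q : Prop}

theorem prop_nat (P : Prop) : ∃ b : ℕ, P = (b = 0) := by
  by_cases h : P
  exacts [⟨0, by simp [h]⟩, ⟨1, by simp [h]⟩]

theorem cmp_one (hx : x < c) (hk : k < c) :
    (x + c * s ≤ c * N + k ↔ s < N ∨ s = N ∧ x ≤ k) ∧ (x + c * s = c * N + k ↔ s = N ∧ x = k) := by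
  rcases lt_trichotomy s N with h | rfl | h
  · obtain ⟨u, rfl⟩ := Nat.exists_eq_add_of_lt h
    simp only [mul_add]; omega
  · omega
  · obtain ⟨u, rfl⟩ := Nat.exists_eq_add_of_lt h
    simp only [mul_add]; omega

theorem cmp_two (hx : x < 2 * c) (hk : k < c) :
    (x + c * s ≤ c * N + k ↔ s + 2 ≤ N ∨ s + 1 = N ∧ x ≤ c + k ∨ s = N ∧ x ≤ k) ∧
      (x + c * s = c * N + k ↔ s + 1 = N ∧ x = c + k ∨ s = N ∧ x = k) := by
  by_cases h : x < c
  · have := cmp_one (s := s) (N := N) h hk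
    omega
  · obtain ⟨y, rfl⟩ := Nat.exists_eq_add_of_le (not_lt.1 h)
    have := cmp_one (x := y) (s := s + 1) (N := N) (by omega) hk
    rw [mul_add] at this
    omega

theorem ts_wit (hi : 0 < i) (J A : ℕ) :
    (∃ j ≤ J, ∃ l, l + i * j = m ∧ 2 * l + i * A ≤ n ∧ (2 * l + i * A = n → T)) ↔
      2 * (m % i) + i * (A + 2 * (m / i - J)) ≤ n ∧
        (2 * (m % i) + i * (A + 2 * (m / i - J)) = n → T) := by
  have h0 := Nat.mod_add_div m i
  constructor
  · rintro ⟨j, hj, l, h1, h2⟩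
    obtain ⟨u, hu⟩ : ∃ u, m / i = j + u := Nat.exists_eq_add_of_le
      ((Nat.le_div_iff_mul_le hi).2 (by rw [mul_comm]; omega))
    obtain ⟨v, hv⟩ : ∃ v, u = m / i - J + v := ⟨u - (m / i - J), by omega⟩
    have h3 : i * u = i * (m / i - J) + i * v := by rw [← mul_add, ← hv]
    rw [hu, mul_add] at h0
    rw [mul_add, mul_left_comm]
    exact ⟨by omega, fun h => h2.2 (by omega)⟩
  · intro h
    obtain ⟨u, hu⟩ : ∃ u, m / i = u + (m / i - J) := ⟨min J (m / i), by omega⟩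
    have h3 : i * (m / i) = i * u + i * (m / i - J) := by rw [← mul_add, ← hu]
    rw [mul_add, mul_left_comm] at h
    exact ⟨u, by omega, m % i + i * (m / i - J), by omega, by omega, fun h' => h.2 (by omega)⟩

/-- The arithmetic form of "every element fixes a totally singular `m`-space". -/
def ArT (i t n m : ℕ) (T : ℕ → Prop) : Prop :=
  ∀ J o, o ≤ t → i * (2 * J + o) ≤ n ∧ (i * (2 * J + o) = n → T (2 * J + o)) →
    ∃ j ≤ J, ∃ l, l + i * j = m ∧ 2 * l + i * (2 * J + o) ≤ n ∧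
      (2 * l + i * (2 * J + o) = n → T (2 * J + o))

theorem arT_zero (hi : 0 < i) (h : 2 * m ≤ n) (h' : 2 * m = n → P) : ArT i 0 n m (fun _ => P) ↔
    n % (2 * i) = 0 ∧ ¬ P ∨ 2 * (m % i) ≤ n % (2 * i) ∧ (2 * (m % i) = n % (2 * i) → P) := by
  have h0 := Nat.div_add_mod n (2 * i)
  have h1 := Nat.mod_lt n (show 0 < 2 * i by omega)
  have h2 := Nat.mod_lt m hi
  have h3 := Nat.mod_add_div m i
  have h4 := cmp_one (x := 2 * (m % i)) (s := m / i) (N := n / (2 * i)) (by omega) h1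
  rw [h0, mul_assoc] at h4
  have e : ∀ J, i * (2 * J) = 0 + 2 * i * J := fun J => by ring
  have e' : ∀ J, i * (2 * J + 2 * (m / i - J)) = 2 * i * (J + (m / i - J)) := fun J => by ring
  simp only [ArT, ts_wit hi, nonpos_iff_eq_zero, forall_eq, add_zero, e, e']
  conv_lhs => rw [← h0]
  simp only [cmp_one (show 0 < 2 * i by omega) h1,
    cmp_one (show 2 * (m % i) < 2 * i by omega) h1]
  obtain ⟨b, rfl⟩ := prop_nat P
  exact ⟨fun H => by have := H (n / (2 * i)); omega, fun H J => by omega⟩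

theorem arT_lin (hi : 0 < i) (T : ℕ → Prop) : ArT i t n m T ↔ ∀ J o, o ≤ t →
    (2 * J + o < n / i ∨ 2 * J + o = n / i ∧ (n % i = 0 → T (2 * J + o))) →
      2 * J + o + 2 * (m / i - J) + 2 ≤ n / i ∨ (2 * J + o + 2 * (m / i - J) + 1 = n / i ∧
        2 * (m % i) ≤ i + n % i ∧ (2 * (m % i) = i + n % i → T (2 * J + o))) ∨
        2 * J + o + 2 * (m / i - J) = n / i ∧ 2 * (m % i) ≤ n % i ∧
          (2 * (m % i) = n % i → T (2 * J + o)) := by
  have h0 := Nat.div_add_mod n i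
  have h1 := Nat.mod_lt n hi
  have h2 := Nat.mod_lt m hi
  simp only [ArT, ts_wit hi]
  refine forall₃_congr fun J o _ => ?_
  have h3 := cmp_one (s := 2 * J + o) (N := n / i) hi h1
  have h4 := cmp_two (x := 2 * (m % i)) (s := 2 * J + o + 2 * (m / i - J)) (N := n / i)
    (by omega) h1
  rw [h0] at h3 h4
  rw [zero_add] at h3
  rw [h3.1, h3.2, h4.1, h4.2]
  by_cases hP : T (2 * J + o) <;> simp only [hP, imp_true_iff, imp_false, and_true] <;> omega

theorem two_mul_div (hi : 0 < i) (h : 2 * m ≤ n) : 2 * (m / i) + 2 ≤ n / i ∨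
    (2 * (m / i) + 1 = n / i ∧ 2 * (m % i) + n ≤ i + n % i + 2 * m) ∨
      2 * (m / i) = n / i ∧ 2 * (m % i) + n = n % i + 2 * m := by
  have h0 := Nat.div_add_mod n i
  have h3 := Nat.mod_add_div m i
  have h4 := (cmp_two (x := 2 * (m % i)) (s := 2 * (m / i)) (N := n / i)
    (by have := Nat.mod_lt m hi; omega) (Nat.mod_lt n hi)).1
  rw [mul_left_comm] at h4
  rcases h4.1 (by omega) with h | ⟨h, -⟩ | ⟨h, -⟩
  · exact Or.inl h
  · rw [← h, mul_add, mul_left_comm] at h0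
    omega
  · rw [← h, mul_left_comm] at h0
    omega

theorem arT_sd (hi : 0 < i) (ht : 0 < t) (hm : i ≤ m) (h : 2 * m ≤ n) :
    ArT i t n m (fun _ => True) ↔ 2 * (m % i) ≤ n % i ∧ t + 2 * (m / i) ≤ n / i := by
  have h1 := two_mul_div hi h
  have h2 : 1 ≤ m / i := (Nat.le_div_iff_mul_le hi).2 (by omega)
  have h3 := Nat.mod_lt m hi
  rw [arT_lin hi]
  simp only [imp_true_iff, and_true]
  refine ⟨fun H => ?_, fun H J o => by omega⟩
  have := H (n / i / 2) (n / i % 2)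
  have := H (m / i - 1) (n / i - 2 * (m / i) + 1)
  omega

theorem arT_quad (hi : 0 < i) (ht : 0 < t) (hm : i ≤ m) (h : 2 * m + 2 ≤ n) (he : Even i)
    (hn : Even n) : ArT i t n m (fun a => (P ↔ Even a)) ↔ t + 2 * (m / i) ≤ n / i ∧
      (2 * (m % i) ≤ i ∧ n % i = 0 ∧ ¬ (P ↔ Even (n / i)) ∧ t + 2 * (m / i) < n / i ∨
        2 * (m % i) ≤ n % i ∧ (P ↔ Even (n / i)) ∨
        2 * (m % i) < n % i ∧ ¬ (P ↔ Even (n / i))) := by
  have h1 := two_mul_div hi (show 2 * m ≤ n by omega)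
  have h2 : 1 ≤ m / i := (Nat.le_div_iff_mul_le hi).2 (by omega)
  have h3 := Nat.mod_lt m hi
  have h4 : Even (n % i) := (Nat.even_iff.2 (by
    rw [Nat.mod_mod_of_dvd _ he.two_dvd]; exact Nat.even_iff.1 hn))
  rw [arT_lin hi]
  simp only [Nat.even_iff] at *
  obtain ⟨b, rfl⟩ := prop_nat P
  generalize n / i = N at *
  generalize n % i = k at *
  generalize m / i = M at *
  generalize m % i = l at *
  refine ⟨fun H => ?_, fun H J o ho h5 => ?_⟩
  · have h5 : t + 2 * M ≤ N := not_lt.1 fun h5 => by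
      have := H (M - 1) (N - 2 * M + 1) (by omega) (by omega)
      omega
    refine ⟨h5, ?_⟩
    by_cases h6 : k = 0 ∧ ¬ (b = 0 ↔ N % 2 = 0)
    · have := H ((N - 1) / 2) ((N - 1) % 2) (by omega) (by omega)
      by_cases h7 : t + 2 * M = N
      · have := H (M - 1) t le_rfl (by omega)
        omega
      · omega
    · have := H (N / 2) (N % 2) (by omega) (by omega)
      omega
  · rcases le_total J M with h6 | h6
    · obtain ⟨u, rfl⟩ := Nat.exists_eq_add_of_le h6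
      rw [Nat.add_sub_cancel_left]
      omega
    · rw [Nat.sub_eq_zero_of_le h6]
      omega

/-- The arithmetic form of "every element fixes a nondegenerate `m`-space of given type". -/
def ArN (c n m : ℕ) (P Q S : Prop) : Prop :=
  ∀ a, c * a ≤ n ∧ (c * a = n → (P ↔ S ∨ Even a)) → ∃ j ≤ a, c * j ≤ m ∧ m + c * a ≤ n + c * j ∧
    (c * j = m → (Q ↔ S ∨ Even j)) ∧
    (m + c * a = n + c * j → (Q ↔ ((P ↔ S ∨ Even a) ↔ S ∨ Even j)))

theorem arN_iff {S : Prop} (hc : 0 < c) (hm : 0 < m) (h : m < n) : ArN c n m P Q S ↔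
    n % c = 0 ∧ ¬ (P ↔ S ∨ Even (n / c)) ∨ m % c ≤ n % c ∧ (m % c = 0 → (Q ↔ S ∨ Even (m / c))) ∧
      (m % c = n % c → (Q ↔ ((P ↔ S ∨ Even (n / c)) ↔ S ∨ Even (m / c)))) := by
  have h0 := Nat.div_add_mod n c
  have h1 := Nat.div_add_mod m c
  have h2 := Nat.mod_lt n hc
  have h3 := Nat.mod_lt m hc
  generalize n / c = N at *
  generalize n % c = k at *
  generalize m / c = M at *
  generalize m % c = l at *
  subst h0 h1
  have e1 : ∀ a N k, k < c → (c * a ≤ c * N + k ↔ a ≤ N) ∧ (c * a = c * N + k ↔ a = N ∧ k = 0) :=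
    fun a N k h => by have := cmp_one (s := a) (N := N) hc h; omega
  have e2 : ∀ a j, (c * M + l + c * a ≤ c * N + k + c * j ↔ M + a < N + j ∨ M + a = N + j ∧ l ≤ k) ∧
      (c * M + l + c * a = c * N + k + c * j ↔ M + a = N + j ∧ l = k) := fun a j => by
    have := cmp_one (s := M + a) (N := N + j) h3 h2
    rw [mul_add, mul_add] at this; omega
  have h4 := cmp_one (s := M) (N := N) h3 h2
  have h5 : M = 0 → l ≠ 0 := by rintro rfl; omega
  have h6 : M < N ∨ M = N ∧ l < k := by omega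
  simp only [ArN, e1 _ _ _ h2, e1 _ _ _ h3, e2, Nat.even_iff]
  obtain ⟨b, rfl⟩ := prop_nat P
  obtain ⟨b', rfl⟩ := prop_nat Q
  clear e1 e2 h4 h hm
  refine ⟨fun H => ?_, fun H a ha => ?_⟩
  · by_cases h7 : k = 0 ∧ ¬ (b = 0 ↔ S ∨ N % 2 = 0)
    · exact Or.inl h7
    · obtain ⟨j, h8⟩ := H N ⟨le_rfl, by tauto⟩
      obtain rfl : j = M := by omega
      exact Or.inr ⟨by omega, fun h => h8.2.2.2.1 ⟨rfl, h⟩, fun h => h8.2.2.2.2 ⟨by omega, h⟩⟩
  · obtain ⟨s, rfl⟩ := prop_nat S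
    by_cases h7 : a < M
    · exact ⟨a, by omega⟩
    · by_cases h8 : l = 0 ∧ ¬ (b' = 0 ↔ s = 0 ∨ M % 2 = 0)
      · exact ⟨M - 1, by omega⟩
      · exact ⟨M, by omega⟩

end Cfsg.Lib.Elu
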