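import Cfsg.Agent.Lib.Conj.Jord
import Cfsg.Agent.Lib.Conj.Ord
import Mathlib.FieldTheory.KummerExtension

/-!
Tools for derangements of prime order: counting, cyclic groups, invariant subspaces.
-/

set_option autoImplicit false

namespace Cfsg.Lib.Elu

open Module Cfsg.Lib.Forms Cfsg.Lib.Forms.Form Cfsg.Lib.Known Cfsg.Lib.Conj Polynomial

section Count

theorem card_modEq_fix {S : Type*} (P : S → Prop) [Finite {s // P s}] (f : S → S)
    (hP : ∀ s, P s → P (f s)) {r k : ℕ} (hr : r.Prime) (hf : ∀ s, P s → f^[r ^ k] s = s) :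
    Nat.card {s // P s} ≡ Nat.card {s // P s ∧ f s = s} [MOD r] := by
  classical
  haveI := Fact.mk hr
  haveI := Fintype.ofFinite {s // P s}
  let g : Function.End {s // P s} := fun s => ⟨f s, hP _ s.2⟩
  have h1 : ∀ (k : ℕ) s, ((g ^ k) s).1 = f^[k] s := fun k => by
    induction k with
    | zero => exact fun _ => rfl
    | succ k ih => exact fun v => by rw [pow_succ, Function.iterate_succ_apply]; exact ih _
  have := Equiv.Perm.card_fixedPoints_modEq (f := g) (p := r) (n := k)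
    (funext fun v => Subtype.ext (by rw [h1, hf _ v.2]; rfl))
  rw [← Nat.card_eq_fintype_card, ← Nat.card_eq_fintype_card] at this
  rwa [Nat.card_congr (⟨fun s => ⟨⟨s.1, s.2.1⟩, Subtype.ext s.2.2⟩,
    fun s => ⟨s.1.1, s.1.2, congrArg Subtype.val s.2⟩, fun _ => rfl, fun _ => rfl⟩ :
      {s // P s ∧ f s = s} ≃ g.fixedPoints)]

theorem card_dvd_of_trans {C S : Type*} [Group C] (a : C → S → S) (a1 : ∀ s, a 1 s = s)
    (am : ∀ g h s, a (g * h) s = a g (a h s)) (Q : S → Prop) {s₀ : S}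
    (h : ∀ s, Q s ↔ ∃ c, a c s₀ = s) : Nat.card {s // Q s} ∣ Nat.card C := by
  letI : MulAction C S := { smul := a, one_smul := a1, mul_smul := am }
  have h1 := MulAction.index_stabilizer C s₀
  have h2 : MulAction.orbit C s₀ = {s | Q s} := Set.ext fun s => (h s).symm
  rw [h2] at h1
  have h3 : Nat.card {s // Q s} = {s | Q s}.ncard := rfl
  rw [h3, ← h1]
  exact Subgroup.index_dvd_card _

theorem iterate_act {G S : Type*} [Monoid G] (a : G → S → S) (a1 : ∀ s, a 1 s = s)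
    (am : ∀ g h s, a (g * h) s = a g (a h s)) (y : G) (k : ℕ) (s : S) :
    (a y)^[k] s = a (y ^ k) s := by
  induction k generalizing s with
  | zero => simp [a1]
  | succ k ih => rw [Function.iterate_succ_apply, ih, pow_succ, am]

/-- If a group of order prime to `r` is transitive on the fixed points of an `r`-element,
the number of points is prime to `r`. -/
theorem not_dvd_of_fix {G C S : Type*} [Monoid G] [Group C] (a : G → S → S) (a1 : ∀ s, a 1 s = s)
    (am : ∀ g h s, a (g * h) s = a g (a h s)) (P : S → Prop) [Finite {s // P s}]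
    {r k : ℕ} (hr : r.Prime) {y : G} (hP : ∀ s, P s → P (a y s)) (hy : y ^ r ^ k = 1)
    (φ : C →* G) (hC : ¬ r ∣ Nat.card C) {s₀ : S}
    (h : ∀ s, P s ∧ a y s = s ↔ ∃ c, a (φ c) s₀ = s) : ¬ r ∣ Nat.card {s // P s} := fun hd =>
  hC (((card_modEq_fix P (a y) hP hr (k := k) fun s _ => by
    rw [iterate_act a a1 am, hy, a1]).dvd_iff dvd_rfl).1 hd |>.trans
    (card_dvd_of_trans (fun c => a (φ c)) (fun s => by rw [map_one, a1])
      (fun g h s => by rw [map_mul, am]) _ h))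

theorem not_dvd_of_unique {S : Type*} (P : S → Prop) [Finite {s // P s}] (f : S → S)
    (hP : ∀ s, P s → P (f s)) {r k : ℕ} (hr : r.Prime) (hf : ∀ s, P s → f^[r ^ k] s = s)
    (h : ∃! s, P s ∧ f s = s) : ¬ r ∣ Nat.card {s // P s} := fun hd => by
  have h1 := ((card_modEq_fix P f hP hr hf).dvd_iff dvd_rfl).1 hd
  obtain ⟨s, hs, hu⟩ := h
  rw [Nat.card_eq_one_iff_exists.2 ⟨⟨s, hs⟩, fun t => Subtype.ext (hu _ t.2)⟩] at h1
  exact hr.one_lt.ne' (Nat.dvd_one.1 h1)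

end Count

section Num

variable {F : Type*} [Field F]

theorem exists_primRoot [Finite F] {N : ℕ} (h : N ∣ Nat.card F - 1) :
    ∃ ζ : F, IsPrimitiveRoot ζ N := by
  obtain ⟨g, hg⟩ := IsCyclic.exists_ofOrder_eq_natCard (α := Fˣ)
  rw [Nat.card_units] at hg
  have h0 : 0 < Nat.card F - 1 := by have := two_le_card (F := F); omega
  obtain ⟨k, hk⟩ := h
  have h1 : IsPrimitiveRoot (g : F) (Nat.card F - 1) :=
    IsPrimitiveRoot.coe_units_iff.2 (hg ▸ IsPrimitiveRoot.orderOf g)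
  exact ⟨_, h1.pow h0 (hk.trans (mul_comm _ _))⟩

theorem exists_not_dvd_iff {r N k : ℕ} (hr : r.Prime) (hN : N ≠ 0) (hk : k ≠ 0) :
    (∃ a, ¬ r ∣ a ∧ N ∣ a * k) ↔ padicValNat r N ≤ padicValNat r k := by
  haveI := Fact.mk hr
  constructor
  · rintro ⟨a, ha, h⟩
    rw [← padicValNat_dvd_iff_le hk]
    exact ((Nat.Coprime.pow_left _ ((Nat.Prime.coprime_iff_not_dvd hr).2 ha)).dvd_of_dvd_mul_left
      (pow_padicValNat_dvd.trans h))
  · intro h
    obtain ⟨a, ha⟩ := (pow_padicValNat_dvd : r ^ padicValNat r N ∣ N)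
    refine ⟨a, fun hd => pow_succ_padicValNat_not_dvd (p := r) hN ?_, ?_⟩
    · conv_rhs => rw [ha]
      rw [pow_succ]; exact Nat.mul_dvd_mul_left _ hd
    · rw [ha, mul_comm a]
      exact Nat.mul_dvd_mul_right ((padicValNat_dvd_iff_le hk).2 h) _

/-- Non-`r`-th powers killed by `k` in a cyclic group of order `N`. -/
theorem exists_nonpow_iff {ζ : F} {N r k : ℕ} (hζ : IsPrimitiveRoot ζ N) (hN : N ≠ 0)
    (hr : r.Prime) (hrN : r ∣ N) (hk : k ≠ 0) :
    (∃ z : F, z ^ N = 1 ∧ (∀ w, w ^ N = 1 → w ^ r ≠ z) ∧ z ^ k = 1) ↔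
      padicValNat r N ≤ padicValNat r k := by
  haveI : NeZero N := ⟨hN⟩
  rw [← exists_not_dvd_iff hr hN hk]
  constructor
  · rintro ⟨z, h1, h2, h3⟩
    obtain ⟨a, -, rfl⟩ := hζ.eq_pow_of_pow_eq_one h1
    refine ⟨a, ?_, (hζ.pow_eq_one_iff_dvd _).1 (by rwa [pow_mul])⟩
    rintro ⟨b, rfl⟩
    exact h2 (ζ ^ b) (by rw [← pow_mul, mul_comm, pow_mul, hζ.pow_eq_one, one_pow])
      (by rw [← pow_mul, mul_comm])
  · rintro ⟨a, h1, h2⟩
    refine ⟨ζ ^ a, by rw [← pow_mul, mul_comm, pow_mul, hζ.pow_eq_one, one_pow], fun w hw h => ?_,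
      by rw [← pow_mul]; exact (hζ.pow_eq_one_iff_dvd _).2 h2⟩
    obtain ⟨b, -, rfl⟩ := hζ.eq_pow_of_pow_eq_one hw
    rw [← pow_mul] at h
    have h3 : b * r ≡ a [MOD N] := by
      rw [hζ.eq_orderOf]
      have hu : IsUnit ζ := hζ.isUnit hN
      obtain ⟨u, rfl⟩ := hu
      rw [orderOf_units, ← pow_eq_pow_iff_modEq]
      exact Units.ext (by simpa using h)
    exact h1 (((h3.of_dvd hrN).dvd_iff dvd_rfl).1 (dvd_mul_left _ _))

theorem exists_pow_eq_neg_one_iff' {ζ : F} {N n : ℕ} (hζ : IsPrimitiveRoot ζ N) (hN : N ≠ 0)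
    (h2 : (2 : F) ≠ 0) (hn : n ≠ 0) :
    (∃ w : F, w ^ N = 1 ∧ w ^ n = -1) ↔ padicValNat 2 n < padicValNat 2 N := by
  haveI : NeZero N := ⟨hN⟩
  have h1 : (-1 : F) ≠ 1 := fun h => h2 (by linear_combination -h)
  constructor
  · rintro ⟨w, hw, h⟩
    by_contra hlt
    obtain ⟨a, ha, hd⟩ := (exists_not_dvd_iff Nat.prime_two hN hn).2 (not_lt.1 hlt)
    obtain ⟨c, hc⟩ := hd
    have : w ^ (a * n) = 1 := by rw [hc, pow_mul, hw, one_pow]
    rw [mul_comm, pow_mul, h, (Nat.odd_iff.2 (by omega)).neg_one_pow] at this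
    exact h1 this
  · intro h
    obtain ⟨a, ha⟩ := (pow_padicValNat_dvd : 2 ^ padicValNat 2 N ∣ N)
    obtain ⟨b, hb⟩ := (pow_padicValNat_dvd : 2 ^ padicValNat 2 n ∣ n)
    obtain ⟨d, hd⟩ := Nat.exists_eq_add_of_lt h
    have hb2 : ¬ 2 ∣ b := fun h => pow_succ_padicValNat_not_dvd (p := 2) hn (by
      conv_rhs => rw [hb]
      rw [pow_succ]; exact Nat.mul_dvd_mul_left _ h)
    have e : 2 ^ d * a * n * 2 = N * b := by
      conv_lhs => rw [hb]
      conv_rhs => rw [ha, hd]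
      ring
    refine ⟨ζ ^ (2 ^ d * a), by rw [← pow_mul, mul_comm, pow_mul, hζ.pow_eq_one, one_pow], ?_⟩
    rw [← pow_mul]
    refine (sq_eq_one_iff.1 ?_).resolve_left fun h => ?_
    · rw [← pow_mul, e, pow_mul, hζ.pow_eq_one, one_pow]
    · obtain ⟨c, hc⟩ := (hζ.pow_eq_one_iff_dvd _).1 h
      rw [hc, mul_assoc, Nat.mul_right_inj hN] at e
      exact hb2 ⟨c, by omega⟩

end Num

section MS

variable {α β : Type*}

theorem le_add_split [DecidableEq α] {ν s t : Multiset α} (h : ν ≤ s + t) :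
    ∃ a b, a ≤ s ∧ b ≤ t ∧ ν = a + b :=
  ⟨ν ∩ s, ν - s, Multiset.inter_le_right, tsub_le_iff_left.2 h, by
    ext c; simp only [Multiset.count_add, Multiset.count_inter, Multiset.count_sub]; omega⟩

theorem exists_le_map (f : α → β) {s : Multiset α} {ν : Multiset β} (h : ν ≤ s.map f) :
    ∃ t ≤ s, t.map f = ν := by
  classical
  induction s using Multiset.induction_on generalizing ν with
  | empty => exact ⟨0, le_rfl, by simpa using (Multiset.le_zero.1 (by simpa using h)).symm⟩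
  | cons a s ih =>
    rw [Multiset.map_cons, ← Multiset.singleton_add] at h
    obtain ⟨u, v, hu, hv, rfl⟩ := le_add_split h
    obtain ⟨t, ht, rfl⟩ := ih hv
    rcases Multiset.le_singleton.1 hu with rfl | rfl
    · exact ⟨t, ht.trans (Multiset.le_cons_self _ _), by simp⟩
    · exact ⟨a ::ₘ t, Multiset.cons_le_cons _ ht, by simp⟩

theorem le_rep_iff {ν : Multiset α} {k : ℕ} {a : α} :
    ν ≤ Multiset.replicate k a ↔ ∃ j ≤ k, ν = Multiset.replicate j a := Multiset.le_replicate_iff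

theorem exists_le_rep_iff {e a i m : ℕ} :
    (∃ ν ≤ Multiset.replicate e 1 + Multiset.replicate a i, ν.sum = m) ↔
      ∃ e' ≤ e, ∃ j ≤ a, e' + i * j = m := by
  constructor
  · rintro ⟨ν, h, rfl⟩
    obtain ⟨u, v, hu, hv, rfl⟩ := le_add_split h
    obtain ⟨e', he, rfl⟩ := le_rep_iff.1 hu
    obtain ⟨j, hj, rfl⟩ := le_rep_iff.1 hv
    exact ⟨e', he, j, hj, by simp [mul_comm]⟩
  · rintro ⟨e', he, j, hj, rfl⟩
    exact ⟨_, add_le_add (le_rep_iff.2 ⟨e', he, rfl⟩) (le_rep_iff.2 ⟨j, hj, rfl⟩), by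
      simp [mul_comm]⟩

theorem exists_two_le_rep_iff {e a i m : ℕ} :
    (∃ ν μ, ν + μ ≤ Multiset.replicate e 1 + Multiset.replicate a i ∧ ν.sum = m ∧ μ.sum = m) ↔
      ∃ e₁ e₂ j₁ j₂, e₁ + e₂ ≤ e ∧ j₁ + j₂ ≤ a ∧ e₁ + i * j₁ = m ∧ e₂ + i * j₂ = m := by
  constructor
  · rintro ⟨ν, μ, h, h1, h2⟩
    obtain ⟨u, v, hu, hv, rfl⟩ := le_add_split ((Multiset.le_add_right _ _).trans h)
    obtain ⟨e₁, he, rfl⟩ := le_rep_iff.1 hu
    obtain ⟨j₁, hj, rfl⟩ := le_rep_iff.1 hv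
    obtain ⟨e', rfl⟩ := Nat.exists_eq_add_of_le he
    obtain ⟨a', rfl⟩ := Nat.exists_eq_add_of_le hj
    rw [Multiset.replicate_add, Multiset.replicate_add, add_add_add_comm,
      add_le_add_iff_left] at h
    obtain ⟨e₂, he₂, j₂, hj₂, h3⟩ := exists_le_rep_iff.1 ⟨μ, h, h2⟩
    exact ⟨e₁, e₂, j₁, j₂, by omega, by omega, by simpa [mul_comm] using h1, h3⟩
  · rintro ⟨e₁, e₂, j₁, j₂, he, hj, h1, h2⟩
    refine ⟨Multiset.replicate e₁ 1 + Multiset.replicate j₁ i,
      Multiset.replicate e₂ 1 + Multiset.replicate j₂ i, ?_, by simpa [mul_comm] using h1,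
      by simpa [mul_comm] using h2⟩
    rw [add_add_add_comm, ← Multiset.replicate_add, ← Multiset.replicate_add]
    exact add_le_add (le_rep_iff.2 ⟨_, he, rfl⟩) (le_rep_iff.2 ⟨_, hj, rfl⟩)

end MS

section Inv

variable {F : Type*} [Field F] {V V' W W' : Type*}
  [AddCommGroup V] [Module F V] [AddCommGroup V'] [Module F V']
  [AddCommGroup W] [Module F W] [AddCommGroup W'] [Module F W']
  {x : End F V} {U U' : Submodule F V}

/-- `U` is invariant under `x`. -/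
abbrev Inv (x : End F V) (U : Submodule F V) : Prop := ∀ v ∈ U, x v ∈ U

theorem map_le_iff_inv : U.map x ≤ U ↔ Inv x U := Submodule.map_le_iff_le_comap

theorem map_eq_iff_inv [FiniteDimensional F V] (hx : IsUnit x) : U.map x = U ↔ Inv x U :=
  ⟨fun h => map_le_iff_inv.1 h.le, fun h => le_antisymm (map_le_iff_inv.2 h) fun v hv => by
    obtain ⟨u, hu, rfl⟩ := surj_of_inv hx h hv
    exact ⟨u, hu, rfl⟩⟩

theorem inv_smul {c : F} (hc : c ≠ 0) : Inv (c • x) U ↔ Inv x U :=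
  forall₂_congr fun _ _ => U.smul_mem_iff hc

theorem map_smul_eq {c : F} (hc : c ≠ 0) : U.map (c • x) = U.map x :=
  Submodule.map_smul _ _ _ hc

theorem inv_scalar (c : F) (U : Submodule F V) : Inv (algebraMap F (End F V) c) U :=
  fun _ hv => U.smul_mem c hv

theorem Inv.inf (h : Inv x U) (h' : Inv x U') : Inv x (U ⊓ U') :=
  fun v hv => ⟨h v hv.1, h' v hv.2⟩

theorem Inv.sup (h : Inv x U) (h' : Inv x U') : Inv x (U ⊔ U') := fun v hv => by
  obtain ⟨a, ha, b, hb, rfl⟩ := Submodule.mem_sup.1 hv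
  rw [map_add]; exact Submodule.add_mem_sup (h a ha) (h' b hb)

theorem Inv.of_le_eig {c : F} (h : U ≤ eig x c) : Inv x U := fun v hv => by
  rw [mem_eig.1 (h hv)]; exact U.smul_mem c hv

theorem Inv.map {y : End F V'} (h : Inv x U) (e : V →ₗ[F] V') (he : ∀ v, e (x v) = y (e v)) :
    Inv y (U.map e) := by
  rintro _ ⟨v, hv, rfl⟩
  exact ⟨x v, h v hv, he v⟩

theorem Inv.comap {y : End F V'} (h : Inv x U) (e : V' →ₗ[F] V) (he : ∀ v, e (y v) = x (e v)) :
    Inv y (U.comap e) := fun v hv => by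
  rw [Submodule.mem_comap, he]; exact h _ hv

theorem sim_restrict_map {y : End F V'} (h : Inv x U) (e : V →ₗ[F] V')
    (hi : Function.Injective e) (he : ∀ v, e (x v) = y (e v)) :
    Sim (x.restrict h) (y.restrict (h.map e he)) :=
  ⟨Submodule.equivMapOfInjective e hi U, fun v => Subtype.ext (he v)⟩

theorem inv_inl (y : End F W) (z : End F W') :
    Inv (y.prodMap z) (LinearMap.range (LinearMap.inl F W W')) := by
  rintro _ ⟨v, rfl⟩; exact ⟨y v, by simp⟩

theorem inv_inr (y : End F W) (z : End F W') :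
    Inv (y.prodMap z) (LinearMap.range (LinearMap.inr F W W')) := by
  rintro _ ⟨v, rfl⟩; exact ⟨z v, by simp⟩

theorem exists_of_sim_prod {y : End F W} {z : End F W'} (h : Sim (y.prodMap z) x) :
    ∃ (U U' : Submodule F V) (h1 : Inv x U) (h2 : Inv x U'), IsCompl U U' ∧
      Sim y (x.restrict h1) ∧ Sim z (x.restrict h2) := by
  obtain ⟨e, he⟩ := h
  refine ⟨_, _, (inv_inl y z).map e.toLinearMap he, (inv_inr y z).map e.toLinearMap he,
    (Submodule.orderIsoMapComap e).isCompl LinearMap.isCompl_range_inl_inr,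
    Sim.trans ?_ (sim_restrict_map (inv_inl y z) _ e.injective he),
    Sim.trans ?_ (sim_restrict_map (inv_inr y z) _ e.injective he)⟩
  · exact ⟨LinearEquiv.ofInjective _ LinearMap.inl_injective, fun v => Subtype.ext (by simp)⟩
  · exact ⟨LinearEquiv.ofInjective _ LinearMap.inr_injective, fun v => Subtype.ext (by simp)⟩

theorem exists_model {s : Multiset (F[X] × ℕ)} (hs : IsED s) :
    ∃ y : End F (Fin (edDeg s) → F), HasED y s := exists_end_hasED hs (by simp)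

theorem hasED_split {s t : Multiset (F[X] × ℕ)} (h : HasED x (s + t)) :
    ∃ (U U' : Submodule F V) (h1 : Inv x U) (h2 : Inv x U'), IsCompl U U' ∧
      HasED (x.restrict h1) s ∧ HasED (x.restrict h2) t := by
  obtain ⟨y, hy⟩ := exists_model (s := s) fun a ha => h.1 a (Multiset.mem_add.2 (Or.inl ha))
  obtain ⟨z, hz⟩ := exists_model (s := t) fun a ha => h.1 a (Multiset.mem_add.2 (Or.inr ha))
  obtain ⟨U, U', h1, h2, hc, h3, h4⟩ := exists_of_sim_prod ((hasED_prod hy hz).sim h)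
  exact ⟨U, U', h1, h2, hc, hy.of_sim h3.symm, hz.of_sim h4.symm⟩

theorem hasED_isCompl {s t : Multiset (F[X] × ℕ)} (hc : IsCompl U U') {h1 : Inv x U}
    {h2 : Inv x U'} (h3 : HasED (x.restrict h1) s) (h4 : HasED (x.restrict h2) t) :
    HasED x (s + t) := (hasED_prod h3 h4).of_sim (sim_isCompl hc h1 h2).symm

theorem exists_inv_compl (hs : x.IsSemisimple) (h : Inv x U) : ∃ U', Inv x U' ∧ IsCompl U U' := by
  obtain ⟨U', h1, h2⟩ := Module.End.isSemisimple_iff.1 hs U h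
  exact ⟨U', h1, h2⟩

theorem ss_restrict (hs : x.IsSemisimple) (h : Inv x U) : End.IsSemisimple (x.restrict h) :=
  hs.restrict h

theorem exists_glue {T T' : Submodule F V'} (h : IsCompl U U') (h' : IsCompl T T')
    (φ : U ≃ₗ[F] T) (ψ : U' ≃ₗ[F] T') :
    ∃ g : V ≃ₗ[F] V', (∀ u : U, g u = φ u) ∧ ∀ u : U', g u = ψ u :=
  ⟨(U.prodEquivOfIsCompl U' h).symm ≪≫ₗ φ.prodCongr ψ ≪≫ₗ T.prodEquivOfIsCompl T' h',
    fun u => by simp, fun u => by simp⟩

theorem map_eq_of_apply {T : Submodule F V'} {g : V →ₗ[F] V'} (φ : U ≃ₗ[F] T)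
    (h : ∀ u : U, g u = φ u) : U.map g = T := by
  ext v; constructor
  · rintro ⟨u, hu, rfl⟩; exact h ⟨u, hu⟩ ▸ (φ _).2
  · intro hv
    exact ⟨φ.symm ⟨v, hv⟩, (φ.symm _).2, by rw [h]; simp⟩

theorem map_eq_of_comap {E : Submodule F V} {T : Submodule F V'} {A : Submodule F V'}
    {g : V →ₗ[F] V'} (φ : E ≃ₗ[F] T) (h : ∀ u : E, g u = φ u) (h1 : U ≤ E) (h2 : A ≤ T)
    (h3 : (U.comap E.subtype).map φ.toLinearMap = A.comap T.subtype) : U.map g = A := by
  ext v; constructor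
  · rintro ⟨u, hu, rfl⟩
    have : φ ⟨u, h1 hu⟩ ∈ A.comap T.subtype := h3 ▸ ⟨⟨u, h1 hu⟩, hu, rfl⟩
    exact h ⟨u, h1 hu⟩ ▸ this
  · intro hv
    obtain ⟨u, hu, h4⟩ : (⟨v, h2 hv⟩ : T) ∈ (U.comap E.subtype).map φ.toLinearMap := h3 ▸ hv
    exact ⟨u, hu, by rw [h]; exact congrArg Subtype.val h4⟩

variable [FiniteDimensional F V] [FiniteDimensional F V']

theorem finrank_comap_subtype {E : Submodule F V} (h : U ≤ E) :
    finrank F (U.comap E.subtype) = finrank F U :=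
  (Submodule.comapSubtypeEquivOfLe h).finrank_eq

theorem exists_extend_equiv {T : Submodule F V'} (hn : finrank F V = finrank F V')
    (φ : U ≃ₗ[F] T) : ∃ g : V ≃ₗ[F] V', ∀ u : U, g u = φ u := by
  obtain ⟨U', h⟩ := U.exists_isCompl
  obtain ⟨T', h'⟩ := T.exists_isCompl
  have h1 := Submodule.finrank_add_eq_of_isCompl h
  have h2 := Submodule.finrank_add_eq_of_isCompl h'
  have h3 := φ.finrank_eq
  obtain ⟨g, hg, -⟩ := exists_glue h h' φ (LinearEquiv.ofFinrankEq U' T' (by omega))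
  exact ⟨g, hg⟩

theorem exists_equiv_map {T : Submodule F V'} (hn : finrank F V = finrank F V')
    (h : finrank F U = finrank F T) : ∃ g : V ≃ₗ[F] V', U.map g.toLinearMap = T := by
  obtain ⟨g, hg⟩ := exists_extend_equiv hn (LinearEquiv.ofFinrankEq U T h)
  exact ⟨g, map_eq_of_apply _ hg⟩

theorem exists_equiv_flag {T T' : Submodule F V'} (hn : finrank F V = finrank F V')
    (h1 : U ≤ U') (h2 : T ≤ T') (h : finrank F U = finrank F T)
    (h' : finrank F U' = finrank F T') :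
    ∃ g : V ≃ₗ[F] V', U.map g.toLinearMap = T ∧ U'.map g.toLinearMap = T' := by
  obtain ⟨φ, hφ⟩ := exists_equiv_map (U := U.comap U'.subtype) (T := T.comap T'.subtype) h'
    (by rw [finrank_comap_subtype h1, finrank_comap_subtype h2, h])
  obtain ⟨g, hg⟩ := exists_extend_equiv hn φ
  exact ⟨g, map_eq_of_comap φ hg h1 h2 hφ, map_eq_of_apply φ hg⟩

theorem exists_equiv_compl {T T' : Submodule F V'} (hn : finrank F V = finrank F V')
    (h1 : IsCompl U U') (h2 : IsCompl T T') (h : finrank F U = finrank F T) :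
    ∃ g : V ≃ₗ[F] V', U.map g.toLinearMap = T ∧ U'.map g.toLinearMap = T' := by
  have h3 := Submodule.finrank_add_eq_of_isCompl h1
  have h4 := Submodule.finrank_add_eq_of_isCompl h2
  obtain ⟨g, hg, hg'⟩ := exists_glue h1 h2 (LinearEquiv.ofFinrankEq U T h)
    (LinearEquiv.ofFinrankEq U' T' (by omega))
  exact ⟨g, map_eq_of_apply _ hg, map_eq_of_apply _ hg'⟩

/-- The dimensions of the indecomposable summands. -/
noncomputable def dg (x : End F V) : Multiset ℕ := (edOf x).map fun a => a.2 * a.1.natDegree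

theorem dg_eq {s : Multiset (F[X] × ℕ)} (h : HasED x s) :
    dg x = s.map fun a => a.2 * a.1.natDegree := by rw [dg, h.edOf_eq]

theorem sum_dg (x : End F V) : (dg x).sum = finrank F V := (hasED_edOf x).finrank.symm

theorem dg_isCompl (hc : IsCompl U U') (h1 : Inv x U) (h2 : Inv x U') :
    dg x = dg (x.restrict h1) + dg (x.restrict h2) := by
  rw [dg_eq (hasED_isCompl hc (hasED_edOf (x.restrict h1)) (hasED_edOf (x.restrict h2))),
    Multiset.map_add]; rfl

theorem dg_split {ν : Multiset ℕ} (h : ν ≤ dg x) :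
    ∃ (U U' : Submodule F V) (h1 : Inv x U) (h2 : Inv x U'), IsCompl U U' ∧
      dg (x.restrict h1) = ν ∧ dg x = ν + dg (x.restrict h2) := by
  obtain ⟨t, ht, rfl⟩ := exists_le_map _ h
  obtain ⟨u, hu⟩ := Multiset.le_iff_exists_add.1 ht
  obtain ⟨U, U', h1, h2, hc, h3, h4⟩ := hasED_split (hu ▸ hasED_edOf x)
  exact ⟨U, U', h1, h2, hc, dg_eq h3, by rw [dg_isCompl hc h1 h2, dg_eq h3]⟩

theorem pair_iff {m : ℕ} : (∃ U W : Submodule F V, IsCompl U W ∧ finrank F U = m ∧ Inv x U ∧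
    Inv x W) ↔ ∃ ν ≤ dg x, ν.sum = m := by
  constructor
  · rintro ⟨U, W, hc, rfl, h1, h2⟩
    exact ⟨_, dg_isCompl hc h1 h2 ▸ Multiset.le_add_right _ _, sum_dg _⟩
  · rintro ⟨ν, h, rfl⟩
    obtain ⟨U, U', h1, h2, hc, h3, -⟩ := dg_split h
    exact ⟨U, U', hc, by rw [← h3, sum_dg], h1, h2⟩

theorem sub_iff (hs : x.IsSemisimple) {m : ℕ} :
    (∃ U : Submodule F V, finrank F U = m ∧ Inv x U) ↔ ∃ ν ≤ dg x, ν.sum = m := by
  rw [← pair_iff]
  refine ⟨fun ⟨U, h1, h2⟩ => ?_, fun ⟨U, _, _, h1, h2, _⟩ => ⟨U, h1, h2⟩⟩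
  obtain ⟨U', h3, h4⟩ := exists_inv_compl hs h2
  exact ⟨U, U', h4, h1, h2, h3⟩

theorem flag_iff (hs : x.IsSemisimple) {m n : ℕ} (hn : finrank F V = n) (hm : m ≤ n) :
    (∃ U W : Submodule F V, U ≤ W ∧ finrank F U = m ∧ finrank F W = n - m ∧ Inv x U ∧
      Inv x W) ↔ ∃ ν μ, ν + μ ≤ dg x ∧ ν.sum = m ∧ μ.sum = m := by
  constructor
  · rintro ⟨U, W, hle, h1, h2, h3, h4⟩
    obtain ⟨T, h5, h6⟩ := exists_inv_compl hs h4
    obtain ⟨ν, hν, h7⟩ := (sub_iff (ss_restrict hs h4) (m := m)).1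
      ⟨U.comap W.subtype, by rw [finrank_comap_subtype hle, h1], h3.comap _ fun _ => rfl⟩
    have := Submodule.finrank_add_eq_of_isCompl h6
    exact ⟨ν, dg (x.restrict h5), by rw [dg_isCompl h6 h4 h5]; exact add_le_add hν le_rfl, h7,
      by rw [sum_dg]; omega⟩
  · rintro ⟨ν, μ, h, h1, h2⟩
    obtain ⟨T, W, h3, h4, hc, h5, h6⟩ := dg_split ((Multiset.le_add_left _ _).trans h)
    rw [h6, add_comm μ, add_le_add_iff_right] at h
    obtain ⟨U, h7, h8⟩ := (sub_iff (ss_restrict hs h4)).2 ⟨ν, h, h1⟩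
    have := Submodule.finrank_add_eq_of_isCompl hc
    have h9 : finrank F T = m := by rw [← h2, ← h5, sum_dg]
    exact ⟨U.map W.subtype, W, Submodule.map_subtype_le _ _,
      by rw [Submodule.finrank_map_subtype_eq, h7], by omega, Inv.map h8 _ fun _ => rfl, h4⟩

theorem dg_unip {t : Multiset ℕ} (h : HasED x (unipOf F t)) : dg x = t := by
  rw [dg_eq h, unipOf, Multiset.map_map]
  simp [natDegree_X_sub_one']

theorem dg_ss (hs : x.IsSemisimple) : dg x = (nf x.charpoly).map natDegree := by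
  rw [dg_eq (hasED_ssOf hs), ssOf_eq, Multiset.map_map]; simp

end Inv

end Cfsg.Lib.Elu
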