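import Cfsg.Agent.Lib.Elu.Odd
import Cfsg.Agent.Lib.Max.Inv2O
import Cfsg.Agent.Lib.Max.Std

/-!
Passing from matrix groups to isometries; reduction to elements of order dividing `r`.
-/

set_option autoImplicit false

namespace Cfsg.Lib.Elu

open Module Cfsg.Lib.Forms Cfsg.Lib.Forms.Form Cfsg.Lib.Known Cfsg.Lib.Conj Polynomial

variable {F : Type*} [Field F] {σ : F →+* F} {K : Kind σ} {V V' W W' : Type*}
  [AddCommGroup V] [Module F V] [AddCommGroup V'] [Module F V']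
  [AddCommGroup W] [Module F W] [AddCommGroup W'] [Module F W']
  {D : Form K V} {D' : Form K V'} {E : Form K W} {E' : Form K W'} {x y : End F V}
  {U U' : Submodule F V} {r m n l : ℕ}

/-- Every member of `G` with scalar `r`-th power has property `P`. -/
def AllE (G : End F V → Prop) (r : ℕ) (P : End F V → Prop) : Prop :=
  ∀ x, G x → (∃ z : F, x ^ r = algebraMap F _ z) → P x

/-- Membership in the commutator subgroup of the isometry group. -/
def Om (D : Form K V) (x : End F V) : Prop := ∃ g ∈ commutator D.isom, nat D g = x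

theorem Om.isIsometry (h : Om D x) : IsIsometry D D x :=
  let ⟨g, _, e⟩ := h; e ▸ isIsometry_nat g

theorem om_nat {g : D.isom} : Om D (nat D g) ↔ g ∈ commutator D.isom :=
  ⟨fun ⟨_, h, e⟩ => nat_injective D e ▸ h, fun h => ⟨g, h, rfl⟩⟩

section Mat

variable {ι : Type} [Fintype ι] [DecidableEq ι] {P : End F (ι → F) → Prop}

theorem mat_iff {X : Type*} (M : X → Matrix ι ι F) (S : X → Prop) {G : End F (ι → F) → Prop}
    (hS : ∀ y, G y ↔ ∃ x, S x ∧ Matrix.toLin' (M x) = y) (h0 : ∀ c, P (algebraMap F _ c)) :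
    (∀ x, S x → (∃ z : F, M x ^ r = z • (1 : Matrix ι ι F)) →
      (∀ z : F, M x ≠ z • (1 : Matrix ι ι F)) → P (Matrix.toLin' (M x))) ↔ AllE G r P := by
  simp only [ne_eq, toLin'_eq_scalar, Matrix.toLin'_pow]
  refine ⟨fun H y h1 h2 => ?_, fun H x h h1 _ => H _ ((hS _).2 ⟨x, h, rfl⟩) h1⟩
  obtain ⟨x, h, rfl⟩ := (hS y).1 h1
  by_cases h3 : ∃ c, Matrix.toLin' (M x) = algebraMap F _ c
  · obtain ⟨c, h3⟩ := h3; exact h3 ▸ h0 c
  · exact H x h h2 (not_exists.1 h3)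

theorem sp_iff {d : ℕ} {P : End F (Fin d ⊕ Fin d → F) → Prop} (h0 : ∀ c, P (algebraMap F _ c)) :
    (∀ x : Matrix.symplecticGroup (Fin d) F, (∃ z : F, ((x ^ r : Matrix.symplecticGroup (Fin d) F) :
      Matrix (Fin d ⊕ Fin d) (Fin d ⊕ Fin d) F) = z • (1 : Matrix _ _ F)) →
      (∀ z : F, (x : Matrix (Fin d ⊕ Fin d) (Fin d ⊕ Fin d) F) ≠ z • (1 : Matrix _ _ F)) →
      P (Matrix.toLin' (x : Matrix (Fin d ⊕ Fin d) (Fin d ⊕ Fin d) F))) ↔
      AllE (fun x => IsIsometry (fSymp F d) (fSymp F d) x) r P := by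
  rw [← mat_iff (X := Matrix.symplecticGroup (Fin d) F) (fun x => x.1) (fun _ => True)
    (fun y => ⟨fun h => ?_, ?_⟩) h0]
  · simp
  · obtain ⟨g, rfl⟩ := exists_nat (fSymp_nondeg d) h
    obtain ⟨g, rfl⟩ := (spEquiv F d).surjective g
    exact ⟨g, trivial, (coe_spEquiv g).symm⟩
  · rintro ⟨g, -, rfl⟩
    exact coe_spEquiv g ▸ (spEquiv F d g).2

theorem su_iff {q : ℕ} (h : IsConj σ q) {P : End F (Fin n → F) → Prop}
    (h0 : ∀ c, P (algebraMap F _ c)) :
    (∀ x : Matrix.SpecialLinearGroup (Fin n) F, x ∈ SU n F q →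
      (∃ z : F, ((x ^ r : Matrix.SpecialLinearGroup (Fin n) F) : Matrix (Fin n) (Fin n) F) =
        z • (1 : Matrix _ _ F)) →
      (∀ z : F, (x : Matrix (Fin n) (Fin n) F) ≠ z • (1 : Matrix _ _ F)) →
      P (Matrix.toLin' (x : Matrix (Fin n) (Fin n) F))) ↔
      AllE (fun x => IsIsometry (stdHerm h (Fin n)) (stdHerm h (Fin n)) x ∧ LinearMap.det x = 1)
        r P := by
  rw [← mat_iff (X := Matrix.SpecialLinearGroup (Fin n) F) (fun x => x.1) (· ∈ SU n F q)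
    (fun y => ⟨?_, ?_⟩) h0]
  · simp
  · rintro ⟨h1, h2⟩
    obtain ⟨g, rfl⟩ := exists_nat (stdHerm_nondeg h _) h1
    obtain ⟨k, hk⟩ := (suEquiv h n).surjective ⟨g, Units.ext ((coe_det g).trans h2)⟩
    exact ⟨k, k.2, (coe_suEquiv h k).symm.trans (by rw [hk]; rfl)⟩
  · rintro ⟨g, hg, rfl⟩
    exact ⟨coe_suEquiv h ⟨g, hg⟩ ▸ (suEquiv h n ⟨g, hg⟩).1.2, by simp⟩

variable {D : Form (quadKind F) (ι → F)} {Q : (ι → F) → F}

theorem om_iff_gl (hQ : D.Q = Q) (y : End F (ι → F)) :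
    Om D y ↔ ∃ x : GL ι F, x ∈ Geo.omegaGL Q ∧ Matrix.toLin' (x : Matrix ι ι F) = y := by
  subst hQ
  rw [omegaGL_eq_commutator]
  exact ⟨fun ⟨g, h, e⟩ => ⟨_, ⟨g, h, rfl⟩, (toLin'_toGL g).trans e⟩,
    fun ⟨_, ⟨g, h, rfl⟩, e⟩ => ⟨g, h, (toLin'_toGL g).symm.trans e⟩⟩

theorem om_iff (hQ : D.Q = Q) (h0 : ∀ c, P (algebraMap F _ c)) :
    (∀ x : GL ι F, x ∈ Geo.omegaGL Q →
      (∃ z : F, ((x ^ r : GL ι F) : Matrix ι ι F) = z • (1 : Matrix ι ι F)) →
      (∀ z : F, (x : Matrix ι ι F) ≠ z • (1 : Matrix ι ι F)) →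
      P (Matrix.toLin' (x : Matrix ι ι F))) ↔ AllE (Om D) r P := by
  rw [← mat_iff (X := GL ι F) (fun x => x.1) (· ∈ Geo.omegaGL Q) (om_iff_gl hQ) h0]
  simp

theorem om_ord_iff (hQ : D.Q = Q) (hr : r.Prime) (h0 : P 1) :
    (∀ x : GL ι F, x ∈ Geo.omegaGL Q → orderOf x = r → P (Matrix.toLin' (x : Matrix ι ι F))) ↔
      ∀ y, Om D y → y ^ r = 1 → P y := by
  haveI := Fact.mk hr
  have e : ∀ (x : GL ι F) k, x ^ k = 1 ↔ Matrix.toLin' (x : Matrix ι ι F) ^ k = 1 := fun x k => by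
    rw [← Matrix.toLin'_pow, ← Units.val_pow_eq_pow_val, ← Units.val_eq_one,
      ← Matrix.toLin'.injective.eq_iff, Matrix.toLin'_one]; rfl
  refine ⟨fun H y h1 h2 => ?_, fun H x h h1 => H _ ((om_iff_gl hQ _).2 ⟨x, h, rfl⟩)
    ((e x r).1 (h1 ▸ pow_orderOf_eq_one x))⟩
  obtain ⟨x, h, rfl⟩ := (om_iff_gl hQ y).1 h1
  by_cases h3 : x = 1
  · rw [h3, Units.val_one, Matrix.toLin'_one]; exact h0
  · exact H x h (orderOf_eq_prime ((e x r).2 h2) h3)

end Mat

theorem nondeg_iff_exists : (∀ u ∈ U, u ≠ 0 → ∃ v ∈ U, D.B u v ≠ 0) ↔ (D.restrict U).Nondeg := by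
  refine ⟨fun h u hu => by_contra fun h0 => ?_, fun h u hu h0 => by_contra fun h1 => ?_⟩
  · obtain ⟨v, hv, h1⟩ := h u u.2 fun e => h0 (Subtype.ext e)
    exact h1 (hu ⟨v, hv⟩)
  · push Not at h1
    exact h0 (congrArg Subtype.val (h ⟨u, hu⟩ fun v => h1 v v.2))

theorem pow_apply_isIsometry (hx : IsIsometry D D x) (k : ℕ) : IsIsometry D D (x ^ k : End F V) := by
  induction k with
  | zero => exact ⟨fun _ _ => rfl, fun _ => rfl⟩
  | succ k ih => rw [pow_succ]; exact ih.comp hx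

theorem norm_of_pow [Nontrivial V] (hD : D.Nondeg) (hx : IsIsometry D D x) {z : F}
    (h : x ^ r = algebraMap F _ z) : z * σ z = 1 := by
  obtain ⟨u, hu⟩ := exists_ne (0 : V)
  obtain ⟨v, hv⟩ := hD.exists_ne_zero hu
  have h1 := (pow_apply_isIsometry hx r).B_map u v
  rw [h, Module.algebraMap_end_apply, Module.algebraMap_end_apply, D.B_smul_left, D.B_smul_right,
    ← mul_assoc, mul_comm (σ z)] at h1
  exact mul_right_cancel₀ hv (by rw [h1, one_mul])

theorem isIsometry_smul' (hx : IsIsometry D D x) {c : F} (hc : c * σ c = 1) :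
    IsIsometry D D (c • x : End F V) :=
  (isIsometry_smul D hc (x := algebraMap F _ c) fun _ => rfl).comp hx

theorem norm_inv {c : F} (hc : c * σ c = 1) : c⁻¹ * σ c⁻¹ = 1 := by
  rw [map_inv₀, ← mul_inv, hc, inv_one]

theorem of_root {P : End F V → Prop} (hP : ∀ x (c : F), P x → P (c • x))
    (H : ∀ y : End F V, IsIsometry D D y → y ^ r = 1 → P y) (hx : IsIsometry D D x) {w : F}
    (hw : w * σ w = 1) (h : x ^ r = algebraMap F _ (w ^ r)) : P x := by
  have h0 := left_ne_zero_of_mul_eq_one hw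
  simpa [h0] using hP _ w (H _ (isIsometry_smul' hx (norm_inv hw)) (smul_pow_eq_one h0 rfl h))

theorem allE_odd {K : Kind (RingHom.id F)} {D : Form K V} [Nontrivial V] (hD : D.Nondeg)
    (hr : Odd r) {G P : End F V → Prop} (h1 : ∀ x, G x → IsIsometry D D x)
    (h2 : ∀ x : End F V, IsIsometry D D x → x ^ r = 1 → G x) (hP : ∀ x (c : F), P x → P (c • x)) :
    AllE G r P ↔ ∀ y : End F V, IsIsometry D D y → y ^ r = 1 → P y := by
  refine ⟨fun H y hy h => H y (h2 y hy h) ⟨1, by simpa using h⟩, fun H x hx ⟨z, hz⟩ => ?_⟩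
  have h3 := norm_of_pow hD (h1 x hx) hz
  refine of_root hP H (h1 x hx) h3 (hz.trans ?_)
  rcases Symp.norm_eq_one_iff.1 h3 with rfl | rfl <;> simp [hr.neg_one_pow]

theorem allE_two {K : Kind (RingHom.id F)} {D : Form K V} [Nontrivial V] (hD : D.Nondeg)
    {G P : End F V → Prop} (h1 : ∀ x, G x → IsIsometry D D x) :
    AllE G 2 P ↔ (∀ y, G y → y ^ 2 = 1 → P y) ∧ ∀ y, G y → y ^ 2 = -1 → P y := by
  refine ⟨fun H => ⟨fun y hy h => H y hy ⟨1, by simpa using h⟩,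
    fun y hy h => H y hy ⟨-1, by simpa using h⟩⟩, fun H x hx ⟨z, hz⟩ => ?_⟩
  rcases Symp.norm_eq_one_iff.1 (norm_of_pow hD (h1 x hx) hz) with rfl | rfl
  exacts [H.1 x hx (by simpa using hz), H.2 x hx (by simpa using hz)]

theorem allE_char_two {K : Kind (RingHom.id F)} {D : Form K V} [Nontrivial V] (hD : D.Nondeg)
    (h2 : (2 : F) = 0) {G P : End F V → Prop} (h1 : ∀ x, G x → IsIsometry D D x) :
    AllE G 2 P ↔ ∀ y, G y → y ^ 2 = 1 → P y := by
  have : (-1 : End F V) = 1 := by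
    rw [← map_one (algebraMap F (End F V)), ← map_neg, neg_eq_of_add_eq_zero_left
      (one_add_one_eq_two.trans h2)]
  rw [allE_two hD h1, this, and_self]

variable [Finite F] [FiniteDimensional F V]

theorem om_of_odd {D : Form (quadKind F) V} (hD : D.Nondeg) (hG : D.Good) (hr : Odd r)
    (hx : IsIsometry D D x) (h : x ^ r = 1) : Om D x := by
  obtain ⟨g, rfl⟩ := exists_nat hD hx
  have h1 : g ^ r = 1 := isom_pow_eq_one.2 h
  refine om_nat.2 ((hD.mem_commutator_iff hG).2 ⟨?_, spinor_of_odd hD hr h1⟩)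
  have := congrArg (dickson hD) h1
  rw [map_pow, map_one] at this
  rcases Int.units_eq_one_or (dickson hD g) with h | h
  · exact h
  · rw [h, hr.neg_one_pow] at this
    exact h.trans this

theorem om_all_odd {D : Form (quadKind F) V} (hD : D.Nondeg) (hn : 5 ≤ finrank F V) (hr : Odd r)
    {P : End F V → Prop} :
    (∀ y, Om D y → y ^ r = 1 → P y) ↔ ∀ y : End F V, IsIsometry D D y → y ^ r = 1 → P y :=
  ⟨fun H y hy h => H y (om_of_odd hD (good_of_finrank (by omega)) hr hy h) h,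
    fun H y hy => H y hy.isIsometry⟩

theorem om_allE_odd {D : Form (quadKind F) V} (hD : D.Nondeg) (hn : 5 ≤ finrank F V) (hr : Odd r)
    {P : End F V → Prop} (hP : ∀ x (c : F), P x → P (c • x)) :
    AllE (Om D) r P ↔ ∀ y : End F V, IsIsometry D D y → y ^ r = 1 → P y :=
  haveI := nontrivial_of_finrank_pos (R := F) (M := V) (by omega)
  allE_odd hD hr (fun _ => Om.isIsometry)
    (fun _ => om_of_odd hD (good_of_finrank (by omega)) hr) hP

end Cfsg.Lib.Elu
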