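import Cfsg.Agent.Lib.Elu.C8

/-!
Elements permuting the summands of an orthogonal decomposition.
-/

set_option autoImplicit false

namespace Cfsg.Lib.Elu

open Module Cfsg.Lib.Forms Cfsg.Lib.Forms.Form Cfsg.Lib.Known Cfsg.Lib.Conj Polynomial

universe u

theorem card_dvd_of_free {G S : Type*} [Group G] (a : G → S → S) (a1 : ∀ s, a 1 s = s)
    (am : ∀ g h s, a (g * h) s = a g (a h s)) (P : S → Prop) (hP : ∀ g s, P s → P (a g s))
    (h : ∀ g s, P s → a g s = s → g = 1) : Nat.card G ∣ Nat.card {s // P s} := by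
  letI : MulAction G {s // P s} :=
    { smul g s := ⟨a g s.1, hP g _ s.2⟩, one_smul s := Subtype.ext (a1 _),
      mul_smul g k s := Subtype.ext (am _ _ _) }
  rw [Nat.card_congr (MulAction.selfEquivOrbitsQuotientProd (G := G) (X := {s // P s}) fun s =>
    (Subgroup.eq_bot_iff_forall _).2 fun g hg => h g _ s.2 (congrArg Subtype.val hg)), Nat.card_prod]
  exact dvd_mul_left _ _

variable {F : Type*} [Field F] {σ : F →+* F} {K : Kind σ} {V V' W : Type*}
  [AddCommGroup V] [Module F V] [AddCommGroup V'] [Module F V'] [AddCommGroup W] [Module F W]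
  {D : Form K V} {D' : Form K V'} {E : Form K W} {x y : End F V} {a r s t n : ℕ}
  {I J : Type} [Fintype I] [Fintype J] {U : I → Submodule F V} {π : Equiv.Perm I}

variable (F V) in
/-- The zero form. -/
def zf : Form (altKind F) V where
  B := 0
  Q _ := 0
  symm := by simp
  Q_add := by simp
  Q_smul := by simp
  B_self := by simp
  Q_mem _ := ⟨0, rfl⟩

@[simp] theorem zf_B (u v : V) : (zf F V).B u v = 0 := rfl

theorem zf_iso (f : V → V') : IsIsometry (zf F V) (zf F V') f := ⟨fun _ _ => rfl, fun _ => rfl⟩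

/-- `x` permutes by `π` the members of the orthogonal decomposition `U` with `a`-dimensional summands. -/
structure Dc (D : Form K V) (x : End F V) (a : ℕ) (U : I → Submodule F V) (π : Equiv.Perm I) :
    Prop where
  dim : finrank F V = a * Fintype.card I
  le : ∀ i, finrank F (U i) ≤ a
  top : ⨆ i, U i = ⊤
  orth : ∀ i j, i ≠ j → ∀ u ∈ U i, ∀ v ∈ U j, D.B u v = 0
  map : ∀ i, ∀ v ∈ U i, x v ∈ U (π i)

/-- `x` permutes the members of an orthogonal decomposition into `t` summands of dimension `a`. -/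
def OD (D : Form K V) (x : End F V) (a t : ℕ) : Prop :=
  ∃ (U : Fin t → Submodule F V) (π : Equiv.Perm (Fin t)), Dc D x a U π

theorem Dc.od (h : Dc D x a U π) (ht : Fintype.card I = t) : OD D x a t := by
  obtain ⟨e⟩ : Nonempty (Fin t ≃ I) := ⟨(Fintype.equivFinOfCardEq ht).symm⟩
  exact ⟨U ∘ e, e.symm.permCongr π, by simp [h.dim, ht], fun i => h.le _,
    (e.iSup_comp (g := U)).trans h.top, fun i j hij => h.orth _ _ (e.injective.ne hij),
    fun i v hv => by simpa using h.map _ v hv⟩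

theorem OD.dim (h : OD D x a t) : finrank F V = a * t := by
  obtain ⟨U, π, h⟩ := h; simpa using h.dim

theorem OD.smul (h : OD D x a t) (c : F) : OD D (c • x) a t :=
  let ⟨U, π, h⟩ := h
  ⟨U, π, h.dim, h.le, h.top, h.orth, fun i v hv => (U _).smul_mem c (h.map i v hv)⟩

theorem OD.zf (h : OD D x a t) : OD (zf F V) x a t :=
  let ⟨U, π, h⟩ := h; ⟨U, π, h.dim, h.le, h.top, fun _ _ _ _ _ _ _ => rfl, h.map⟩

theorem Dc.equiv (h : Dc D x a U π) {y : End F V'} (e : V ≃ₗ[F] V')
    (h1 : ∀ u v, D'.B (e u) (e v) = D.B u v) (h2 : ∀ v, e (x v) = y (e v)) :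
    Dc D' y a (fun i => (U i).map e.toLinearMap) π where
  dim := e.finrank_eq ▸ h.dim
  le i := (finrank_map_equiv e _).trans_le (h.le i)
  top := by rw [← Submodule.map_iSup, h.top, Submodule.map_top, e.range]
  orth i j hij := by
    rintro _ ⟨u, hu, rfl⟩ _ ⟨v, hv, rfl⟩; exact (h1 u v).trans (h.orth i j hij u hu v hv)
  map i := by rintro _ ⟨u, hu, rfl⟩; exact ⟨_, h.map i u hu, h2 u⟩

theorem OD.isoC (h : OD D x a t) {y : End F V'} (H : IsoC D x D' y) : OD D' y a t :=
  let ⟨_, π, h⟩ := h; let ⟨e, h1, h2⟩ := H; ⟨_, π, h.equiv e h1.B_map h2⟩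

theorem OD.sim (h : OD D x a t) {y : End F V'} (H : Sim x y) : OD (Elu.zf F V') y a t :=
  let ⟨e, h2⟩ := H; h.zf.isoC ⟨e, zf_iso e, h2⟩

theorem od_one (h : finrank F V = a) : OD D x a 1 :=
  ⟨fun _ => ⊤, 1, by simpa, fun _ => by simp [h], by simp,
    fun i j hij => absurd (Subsingleton.elim i j) hij, by simp⟩

variable [FiniteDimensional F V] [FiniteDimensional F V'] [FiniteDimensional F W]

theorem od_zero (h : finrank F V = 0) : OD D x a 0 :=
  have := finrank_zero_iff.1 h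
  ⟨fun _ => ⊤, 1, by simpa, fun i => i.elim0, Subsingleton.elim _ _, fun i => i.elim0, by simp⟩

theorem OD.prod {y : End F V'} (h : OD D x a s) (h' : OD D' y a t) :
    OD (D.prod D') (x.prodMap y) a (s + t) := by
  obtain ⟨U, π, h⟩ := h
  obtain ⟨T, ρ, h'⟩ := h'
  refine Dc.od (U := Sum.elim (fun i => (U i).map (LinearMap.inl F V V'))
    fun j => (T j).map (LinearMap.inr F V V')) (π := π.sumCongr ρ) ⟨?_, ?_, ?_, ?_, ?_⟩ (by simp)
  · simp [h.dim, h'.dim, mul_add]
  · rintro (i | i)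
    exacts [(Submodule.finrank_map_le _ _).trans (h.le i), (Submodule.finrank_map_le _ _).trans (h'.le i)]
  · simp only [iSup_sum, Sum.elim_inl, Sum.elim_inr, ← Submodule.map_iSup, h.top, h'.top,
      Submodule.map_top, LinearMap.sup_range_inl_inr]
  · rintro (i | i) (j | j) hij _ ⟨u, hu, rfl⟩ _ ⟨v, hv, rfl⟩
    · simpa using h.orth i j (by simpa using hij) u hu v hv
    · simp
    · simp
    · simpa using h'.orth i j (by simpa using hij) u hu v hv
  · rintro (i | i) _ ⟨u, hu, rfl⟩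
    exacts [⟨_, h.map i u hu, by simp⟩, ⟨_, h'.map i u hu, by simp⟩]

theorem od_swap (E : Form K W) (h : finrank F W = a) :
    OD (E.prod E) (LinearEquiv.prodComm F W W).toLinearMap a 2 := by
  refine Dc.od (U := fun b => bif b then LinearMap.range (LinearMap.inl F W W) else
    LinearMap.range (LinearMap.inr F W W)) (π := Equiv.boolNot) ⟨?_, ?_, ?_, ?_, ?_⟩ (by simp)
  · simp [h, mul_two]
  · rintro (_ | _) <;> exact (LinearMap.finrank_range_le _).trans h.le
  · simp [iSup_bool_eq, LinearMap.sup_range_inl_inr]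
  · rintro (_ | _) (_ | _) hij _ ⟨u, rfl⟩ _ ⟨v, rfl⟩ <;> simp_all
  · rintro (_ | _) _ ⟨u, rfl⟩ <;> exact ⟨u, rfl⟩

theorem od_rec (P : ∀ (V : Type u) [AddCommGroup V] [Module F V], Form K V → End F V → Prop)
    (H : ∀ (V : Type u) [AddCommGroup V] [Module F V] [FiniteDimensional F V] (D : Form K V) x s,
      2 ≤ s → s ≤ n → finrank F V = a * s → P V D x → ∃ (U U' : Submodule F V) (_ : Inv x U)
        (h : Inv x U'), D.IsOrthCompl U U' ∧ finrank F U = a ∧ P U' (D.restrict U') (x.restrict h))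
    {V : Type u} [AddCommGroup V] [Module F V] [FiniteDimensional F V] {D : Form K V}
    {x : End F V} (ht : t ≤ n) (h : finrank F V = a * t) (hP : P V D x) : OD D x a t := by
  induction t generalizing V with
  | zero => exact od_zero h
  | succ t ih =>
    obtain rfl | h0 := t.eq_zero_or_pos
    · exact od_one (by simpa using h)
    obtain ⟨U, U', h1, h2, h3, h4, h5⟩ := H V D x _ (by omega) ht h hP
    have := Submodule.finrank_add_eq_of_isCompl h3.compl
    exact add_comm 1 t ▸ ((od_one h4).prod (ih (by omega) (by grind) h5)).isoC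
      (isoC_orthCompl h3 h1 h2)

theorem od_pair {V : Type u} [AddCommGroup V] [Module F V] [FiniteDimensional F V] {x : End F V}
    {z : F} (H : ∀ (V : Type u) [AddCommGroup V] [Module F V] [FiniteDimensional F V]
      (x : End F V) s, 2 ≤ s → s ≤ t → finrank F V = a * s → x ^ r = algebraMap F _ z →
        ∃ ν ≤ dg x, ν.sum = a) (h : finrank F V = a * t) (hx : x ^ r = algebraMap F _ z) :
    OD (zf F V) x a t :=
  od_rec (fun V _ _ D x => (∀ u v, D.B u v = 0) ∧ x ^ r = algebraMap F _ z)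
    (fun V _ _ _ D x s h1 h2 h3 h4 =>
      let ⟨U, U', h5, h6, h7, h8⟩ := pair_iff.2 (H V x s h1 h2 h3 h4.2)
      ⟨U, U', h7, h8, ⟨h5, fun _ _ _ _ => h4.1 _ _⟩, h6, fun _ _ => h4.1 _ _,
        restrict_pow_scalar h8 h4.2⟩) le_rfl h ⟨fun _ _ => rfl, hx⟩

theorem od_ndi {V : Type u} [AddCommGroup V] [Module F V] [FiniteDimensional F V] {x : End F V}
    {D : Form K V} {z : F} (hE : E.Nondeg) (ha : finrank F W = a)
    (H : ∀ (V : Type u) [AddCommGroup V] [Module F V] [FiniteDimensional F V] (D : Form K V)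
      (x : End F V) s, 2 ≤ s → s ≤ t → finrank F V = a * s → D.Nondeg → IsIsometry D D x →
        x ^ r = algebraMap F _ z → NDI D x E) (h : finrank F V = a * t) (hD : D.Nondeg)
    (hi : IsIsometry D D x) (hx : x ^ r = algebraMap F _ z) : OD D x a t :=
  od_rec (fun V _ _ D x => D.Nondeg ∧ IsIsometry D D x ∧ x ^ r = algebraMap F _ z)
    (fun V _ _ _ D x s h1 h2 h3 ⟨h4, h5, h6⟩ => by
      obtain ⟨U, h7, h8⟩ := H V D x s h1 h2 h3 h4 h5 h6
      have h9 := perp_inv (isUnit_of_isIsometry h4 h5.B_map) h5.B_map h8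
      have h10 := h4.isOrthCompl (D.nondeg_restrict_iff.1 (h7.symm.nondeg hE))
      exact ⟨U, _, h8, h9, h10, h7.finrank_eq.trans ha, h10.symm.nondeg_left h4,
        isIsometry_restrict h5 h9, restrict_pow_scalar h9 h6⟩) le_rfl h ⟨hD, hi, hx⟩

section Nec

omit [Fintype I] in
theorem finrank_biSup_le (S : Finset I) (h : ∀ i ∈ S, finrank F (U i) ≤ a) :
    finrank F ↥(⨆ i ∈ S, U i) ≤ a * S.card := by
  classical
  induction S using Finset.induction_on with
  | empty => simp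
  | insert i S hi ih =>
    rw [Finset.iSup_insert, Finset.card_insert_of_notMem hi]
    have := Submodule.finrank_add_le_finrank_add_finrank (U i) (⨆ i ∈ S, U i)
    have := h i (by simp)
    have := ih fun j hj => h j (by simp [hj])
    grind

theorem Dc.compl (h : Dc D x a U π) (j : I) :
    D.IsOrthCompl (U j) (⨆ i ≠ j, U i) ∧ finrank F (U j) = a := by
  classical
  have h1 : U j ⊔ ⨆ i ≠ j, U i = ⊤ := (iSup_split_single U j).symm.trans h.top
  have h2 := finrank_biSup_le (Finset.univ.erase j) fun i _ => h.le i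
  have h3 := Submodule.finrank_sup_add_finrank_inf_eq (U j) (⨆ i ≠ j, U i)
  have h4 := h.le j
  obtain ⟨m, hm⟩ := Nat.exists_eq_succ_of_ne_zero (Fintype.card_pos_iff.2 ⟨j⟩).ne'
  rw [Finset.card_erase_of_mem (Finset.mem_univ _), Finset.card_univ, hm, Nat.succ_sub_one,
    show ⨆ i ∈ Finset.univ.erase j, U i = ⨆ i ≠ j, U i by simp] at h2
  rw [h1, finrank_top, h.dim, hm, Nat.mul_succ] at h3
  exact ⟨⟨⟨disjoint_iff.2 (Submodule.finrank_eq_zero.1 (by omega)), codisjoint_iff.2 h1⟩,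
    iSup₂_le fun i hi v hv u hu => h.orth j i hi.symm u hu v hv⟩, by omega⟩

theorem Dc.indep (h : Dc D x a U π) : iSupIndep U := fun j => (h.compl j).1.compl.disjoint

theorem Dc.eq (h : Dc D x a U π) (j : I) : finrank F (U j) = a := (h.compl j).2

theorem Dc.inj (h : Dc D x a U π) (ha : 0 < a) {i j : I} (H : U i ≤ U j) : i = j := by
  by_contra e
  have := (h.indep.pairwiseDisjoint e).eq_bot_of_le H
  have h1 := h.eq i
  rw [this, finrank_bot] at h1
  omega

omit [FiniteDimensional F V] in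
theorem Dc.pow (h : Dc D x a U π) (k : ℕ) {i : I} {v : V} (hv : v ∈ U i) :
    (x ^ k) v ∈ U ((π ^ k) i) := by
  induction k with
  | zero => exact hv
  | succ k ih => rw [pow_succ', pow_succ']; exact h.map _ _ ih

theorem Dc.perm_pow (h : Dc D y a U π) (ha : 0 < a) (hy : y ^ r = 1) : π ^ r = 1 :=
  Equiv.ext fun i => (h.inj ha fun v hv => by simpa [hy] using h.pow r hv).symm

omit [FiniteDimensional F V] in
theorem Dc.fix (h : Dc D x a U π) {j : I} (hj : π j = j) : Inv x (U j) ∧ Inv x (⨆ i ≠ j, U i) :=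
  ⟨fun v hv => hj ▸ h.map j v hv, map_le_iff_inv.1 (by
    simp only [Submodule.map_iSup]
    refine iSup₂_le fun i hi => le_iSup₂_of_le (π i) (fun e => hi (π.injective (e.trans hj.symm))) ?_
    rintro _ ⟨v, hv, rfl⟩
    exact h.map i v hv)⟩

omit [Fintype I] in
theorem perm_injOn (hr : r.Prime) (h : π ^ r = 1) {j : I} (hj : π j ≠ j) {k l : ℕ} (hk : k < r)
    (hl : l < r) (e : (π ^ k) j = (π ^ l) j) : k = l := by
  haveI := Fact.mk hr
  have := Function.minimalPeriod_eq_prime (f := π) (x := j) (p := r)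
    (by simp [Function.IsPeriodicPt, Function.IsFixedPt, ← Equiv.Perm.coe_pow, h]) hj
  exact Function.iterate_injOn_Iio_minimalPeriod (f := π) (x := j) (this ▸ hk) (this ▸ hl)
    (by simpa [← Equiv.Perm.coe_pow] using e)

theorem Dc.free (h : Dc D y a U π) (ha : 0 < a) (hr : r.Prime) (hy : y ^ r = 1) {j : I}
    (hj : π j ≠ j) {u : Fin r → V} (hu : ∀ k, u k ∈ U j) (h0 : ∑ k : Fin r, (y ^ k.1) (u k) = 0)
    (k : Fin r) : u k = 0 := by
  refine inj_of_isUnit ((isUnit_of_pow hr hy).pow k) ((Submodule.disjoint_def.1 (h.indep _)) _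
    (h.pow k (hu k)) ?_)
  rw [← Finset.add_sum_erase _ _ (Finset.mem_univ k), add_eq_zero_iff_eq_neg] at h0
  refine h0 ▸ neg_mem (sum_mem fun l hl => Submodule.mem_iSup_of_mem _ (Submodule.mem_iSup_of_mem
    (fun e => (Finset.mem_erase.1 hl).1 (Fin.ext ?_)) (h.pow l (hu l))))
  exact perm_injOn hr (h.perm_pow ha hy) hj l.2 k.2 e

theorem Dc.le_rank (h : Dc D y a U π) (ha : 0 < a) (hr : r.Prime) (hy : y ^ r = 1) {j : I}
    (hj : π j ≠ j) {f : F[X]} (hf : f.Monic) (hd : f.natDegree < r) :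
    a ≤ finrank F (LinearMap.range (aeval y f)) := by
  rw [← h.eq j, ← LinearMap.finrank_range_of_inj (f := aeval y f ∘ₗ (U j).subtype)]
  · exact Submodule.finrank_mono (LinearMap.range_comp_le_range _ _)
  refine (injective_iff_map_eq_zero _).2 fun v hv => Subtype.ext ?_
  simpa [hf.coeff_natDegree] using h.free ha hr hy hj (u := fun k => f.coeff k • v.1)
    (fun k => (U j).smul_mem _ v.2)
    (by simpa [aeval_eq_sum_range' hd, Finset.sum_range] using hv) ⟨_, hd⟩

theorem Dc.le_eig (h : Dc D y a U π) (ha : 0 < a) (hr : r.Prime) (hy : y ^ r = 1) {j : I}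
    (hj : π j ≠ j) : a ≤ finrank F (eig y 1) := by
  haveI := Fact.mk hr
  refine (h.le_rank ha hr hy hj (cyclotomic.monic r F) (by
    rw [natDegree_cyclotomic, Nat.totient_prime hr]; have := hr.pos; omega)).trans
    (Submodule.finrank_mono ?_)
  rintro _ ⟨v, rfl⟩
  have := congrArg (fun f => aeval y f v) ((mul_comm _ _).trans (cyclotomic_prime_mul_X_sub_one F r))
  simpa [mem_eig, hy, sub_eq_zero] using this

omit [FiniteDimensional F V] in
theorem pow_sub_mem_rng (y : End F V) (k : ℕ) (v : V) : (y ^ k) v - v ∈ rng y 1 :=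
  ⟨(∑ i ∈ Finset.range k, y ^ i) v, by
    rw [map_one, ← End.mul_apply, mul_geom_sum]; rfl⟩

theorem Dc.mul_le_rk (h : Dc D y a U π) (ha : 0 < a) (hr : r.Prime) (hy : y ^ r = 1) {j : I}
    (hj : π j ≠ j) : a * (r - 1) ≤ rk y := by
  obtain ⟨m, rfl⟩ := Nat.exists_eq_succ_of_ne_zero hr.ne_zero
  let L : (Fin m → U j) →ₗ[F] V :=
    ∑ k : Fin m, (y ^ (k + 1 : ℕ) - 1) ∘ₗ (U j).subtype ∘ₗ LinearMap.proj k
  have h1 : finrank F (Fin m → U j) = a * (m + 1 - 1) := by
    simp [finrank_pi_fintype, h.eq, mul_comm]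
  rw [← h1, ← LinearMap.finrank_range_of_inj (f := L)]
  · refine Submodule.finrank_mono ?_
    rintro _ ⟨v, rfl⟩
    simpa [L] using sum_mem fun (k : Fin m) (_ : k ∈ Finset.univ) => pow_sub_mem_rng y (k + 1) (v k)
  refine (injective_iff_map_eq_zero _).2 fun v hv => funext fun k => Subtype.ext ?_
  exact h.free ha hr hy hj (u := Fin.cons (-∑ k, (v k).1) fun k => v k)
    (Fin.cases (neg_mem (sum_mem fun k _ => (v k).2)) fun k => (v k).2)
    (by simpa [L, Fin.sum_univ_succ, sub_eq_neg_add, Finset.sum_add_distrib] using hv) k.succ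

theorem Dc.rk_le (h : Dc D y a U π) (S : Finset I) {b : ℕ}
    (h1 : ∀ i ∈ S, finrank F ((U i).map (y - 1)) ≤ b)
    (h2 : ∀ i ∉ S, ∀ v ∈ U i, y v - v ∈ ⨆ k ∈ S, (U k).map (y - 1)) : rk y ≤ b * S.card := by
  refine (Submodule.finrank_mono ?_).trans (finrank_biSup_le S h1)
  rw [rng, map_one, ← Submodule.map_top, ← h.top, Submodule.map_iSup]
  refine iSup_le fun i => ?_
  by_cases hi : i ∈ S
  · exact le_iSup₂_of_le i hi le_rfl
  · rintro _ ⟨v, hv, rfl⟩; exact h2 i hi v hv

omit [FiniteDimensional F V] in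
theorem finrank_map_sub_one {U : Submodule F V} (h : Inv y U) :
    finrank F (U.map (y - 1)) = rk (y.restrict h) := by
  rw [rk, ← Submodule.finrank_map_subtype_eq, rng, ← LinearMap.range_comp,
    ← LinearMap.range_domRestrict, map_one]
  rfl

theorem Dc.le_mul_eig (h : Dc D y a U π) (ha : 0 < a) (hr : r.Prime) (hy : y ^ r = 1)
    (H : ∀ j, π j = j → ∀ v ∈ U j, y v = v) : finrank F V ≤ finrank F (eig y 1) * r := by
  classical
  let ρ : I → I := fun i => (Quotient.mk (Equiv.Perm.SameCycle.setoid π) i).out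
  have h1 : ∀ i, π.SameCycle (ρ i) i := fun i =>
    Quotient.mk_out (s := Equiv.Perm.SameCycle.setoid π) i
  have h2 : ∀ i k, π.SameCycle i k → ρ i = ρ k := fun i k e =>
    congrArg Quotient.out (Quotient.sound (s := Equiv.Perm.SameCycle.setoid π) e)
  have h3 := h.perm_pow ha hy
  have h4 := h.rk_le (Finset.univ.filter fun i => ρ i = i)ᶜ (b := a)
    (fun i _ => (Submodule.finrank_map_le _ _).trans (h.le i)) fun i hi v hv => by
      by_cases e : π i = i
      · simp [H i e v hv]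
      obtain ⟨m, rfl⟩ := Nat.exists_eq_succ_of_ne_zero hr.ne_zero
      have h5 := LinearMap.congr_fun (mul_geom_sum y (m + 1)) v
      simp only [hy, sub_self, Finset.sum_range_succ', End.mul_apply, LinearMap.add_apply, map_add,
        LinearMap.sum_apply, map_sum, pow_zero, End.one_apply, LinearMap.zero_apply,
        add_eq_zero_iff_eq_neg'] at h5
      rw [show y v - v = _ from h5]
      refine neg_mem (sum_mem fun k hk => Submodule.mem_iSup_of_mem _
        (Submodule.mem_iSup_of_mem ?_ ⟨_, h.pow (k + 1) hv, rfl⟩))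
      simp only [Finset.mem_compl, Finset.mem_filter, Finset.mem_univ, true_and, not_not] at hi ⊢
      rw [← h2 i _ ⟨(k + 1 : ℕ), by rw [zpow_natCast]⟩, hi]
      exact fun e' => absurd (perm_injOn hr h3 e hr.pos (by simpa using hk) e') (by omega)
  have h5 : Fintype.card I ≤ (Finset.univ.filter fun i => ρ i = i).card * r := by
    rw [← Finset.card_range r, ← Finset.card_product]
    refine Finset.card_le_card_of_surjOn (fun s => (π ^ s.2) s.1) fun i _ => ?_
    obtain ⟨k, h6, h7⟩ := (h1 i).exists_pow_eq'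
    exact ⟨(ρ i, k), by simpa using ⟨h2 _ _ (h1 i), h6.trans_le (orderOf_le_of_pow_eq_one hr.pos h3)⟩, h7⟩
  have h6 := finrank_eig_add_rng y 1
  have h7 := Finset.card_le_univ (Finset.univ.filter fun i => ρ i = i)
  rw [Finset.card_compl, rk, Nat.mul_sub] at h4
  have := Nat.mul_le_mul_left a h7
  calc finrank F V ≤ a * (Finset.univ.filter fun i => ρ i = i).card * r := by
        rw [h.dim, mul_assoc]; gcongr
    _ ≤ _ := by gcongr; have := h.dim; omega

theorem od_nec [Finite F] {c : ℕ} (hr : r.Prime) (ha : 0 < a) (hc : 0 < c) (hn : c ≤ a * t)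
    (h1 : ∀ y : End F V, IsIsometry D D y → y ^ r = 1 → ∀ (U U' : Submodule F V) (h : Inv y U),
      D.IsOrthCompl U U' → c ∣ rk (y.restrict h))
    (h2 : ∀ m, c * m ≤ a * t → ∃ y : End F V, IsIsometry D D y ∧ y ^ r = 1 ∧ rk y = c * m)
    (H : ∀ y : End F V, IsIsometry D D y → y ^ r = 1 → OD D y a t) :
    (a < c ∧ a * (r - 1) ≤ c ∧ a * t ≤ a * t % c * r) ∨ (c ≤ a ∧ a * t % c = t * (a % c)) := by
  have key : ∀ (y : End F V) (U : Fin t → Submodule F V) π, IsIsometry D D y → y ^ r = 1 →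
      Dc D y a U π → ∀ j, π j = j → finrank F ((U j).map (y - 1)) ≤ c * (a / c) :=
    fun y U π h3 h4 h j hj => by
      have h5 := Submodule.finrank_map_le (y - 1) (U j)
      rw [finrank_map_sub_one (h.fix hj).1] at h5 ⊢
      obtain ⟨k, hk⟩ := h1 y h3 h4 _ _ (h.fix hj).1 (h.compl j).1
      rw [hk, h.eq] at h5
      exact hk ▸ Nat.mul_le_mul_left c ((Nat.le_div_iff_mul_le hc).2 (mul_comm c k ▸ h5))
  obtain ⟨y, h3, h4, h5⟩ := h2 _ (Nat.mul_div_le _ c)
  obtain ⟨U, π, h⟩ := H y h3 h4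
  have h6 := finrank_eig_add_rng y 1
  have h7 := Nat.div_add_mod (a * t) c
  have h8 := Nat.mod_lt (a * t) hc
  rw [← rk, h5, h.dim, Fintype.card_fin] at h6
  refine (lt_or_ge a c).imp (fun h9 => ⟨h9, ?_, ?_⟩) fun h9 => ⟨h9, ?_⟩
  · obtain ⟨x, h10, h11, h12⟩ := h2 1 (by omega)
    obtain ⟨T, ρ, h'⟩ := H x h10 h11
    by_cases e : ∀ j, ρ j = j
    · have := h'.rk_le Finset.univ (fun j _ => key x T ρ h10 h11 h' j (e j)) (by simp)
      simp [Nat.div_eq_of_lt h9] at this
      omega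
    · obtain ⟨j, hj⟩ := not_forall.1 e
      simpa [h12] using h'.mul_le_rk ha hr h11 hj
  · have := h.le_mul_eig ha hr h4 fun j hj v hv => by
      have := key y U π h3 h4 h j hj
      rw [Nat.div_eq_of_lt h9, mul_zero, Nat.le_zero, Submodule.finrank_eq_zero] at this
      exact sub_eq_zero.1 ((Submodule.mem_bot F).1 (this ▸ Submodule.mem_map_of_mem (f := y - 1) hv))
    rwa [h.dim, Fintype.card_fin, show finrank F (eig y 1) = a * t % c by omega] at this
  · have h10 := h.rk_le Finset.univ (fun j _ => key y U π h3 h4 h j (by_contra fun e => by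
      have := h.le_eig ha hr h4 e; omega)) (by simp)
    have h11 : a * t = t * (a % c) + c * (a / c * t) := by
      conv_lhs => rw [← Nat.div_add_mod a c]
      ring
    rw [Finset.card_univ, Fintype.card_fin, mul_assoc] at h10
    rw [h11, Nat.add_mul_mod_self_left, Nat.mod_eq_of_lt (by omega)]

end Nec

section Cyc

omit [FiniteDimensional F V] [FiniteDimensional F V'] [FiniteDimensional F W]

variable (W) in
/-- Twisted cyclic shift. -/
def cyc (w : ZMod r → F) : End F (ZMod r → W) := LinearMap.pi fun i => w i • LinearMap.proj (i - 1)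

theorem cyc_pow_apply (w : ZMod r → F) (k : ℕ) (f : ZMod r → W) (i : ZMod r) :
    (cyc W w ^ k) f i = (∏ l ∈ Finset.range k, w (i - l)) • f (i - k) := by
  induction k generalizing f with
  | zero => simp
  | succ k ih => rw [pow_succ, End.mul_apply, ih]; simp [cyc, Finset.prod_range_succ, mul_smul, sub_sub]

variable [NeZero r]

theorem cyc_pow (w : ZMod r → F) : cyc W w ^ r = algebraMap F _ (∏ l, w l) := by
  refine LinearMap.ext fun f => funext fun i => ?_
  rw [cyc_pow_apply, ← (Equiv.subLeft i).prod_comp, Finset.prod_nbij' (t := Finset.univ)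
    (f := fun l : ℕ => w (i - l)) (g := fun l => w (Equiv.subLeft i l)) Nat.cast ZMod.val (by simp)
    (fun a _ => Finset.mem_range.2 a.val_lt) (fun a ha => ZMod.val_cast_of_lt (by simpa using ha))
    (fun a _ => a.natCast_zmod_val) fun _ _ => rfl]
  simp

theorem finrank_eig_cyc : finrank F (eig (cyc W (1 : ZMod r → F)) 1) = finrank F W := by
  rw [← LinearMap.finrank_range_of_inj (f := LinearMap.pi fun _ : ZMod r => LinearMap.id (R := F) (M := W))
    fun u v h => congrFun h 0]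
  refine congrArg (fun U : Submodule F _ => finrank F U) (Submodule.ext fun f => ?_)
  refine ⟨fun h => ⟨f 0, funext fun i => ?_⟩, by rintro ⟨u, rfl⟩; exact mem_eig.2 (by ext; simp [cyc])⟩
  simpa [pow_apply_of_eig f (mem_eig.1 h)] using (cyc_pow_apply (1 : ZMod r → F) i.val f i).symm

theorem OD.cyc [FiniteDimensional F W] {x : End F W} (h : OD E x a t) (w : ZMod r → F) :
    OD (Elu.zf F _) (cyc W w) a (r * t) := by
  obtain ⟨U, π, h⟩ := h
  refine Dc.od (U := fun s : ZMod r × Fin t => (U s.2).map (LinearMap.single F (fun _ => W) s.1))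
    (π := (Equiv.addRight 1).prodCongr 1) ⟨?_, fun s => (Submodule.finrank_map_le _ _).trans (h.le _),
      ?_, fun _ _ _ _ _ _ _ => rfl, ?_⟩ (by simp)
  · simp [finrank_pi_fintype, h.dim, mul_left_comm]
  · simp only [iSup_prod, ← Submodule.map_iSup, h.top, Submodule.map_top, LinearMap.iSup_range_single]
  · rintro ⟨i, l⟩ _ ⟨u, hu, rfl⟩
    refine ⟨_, (U l).smul_mem (w (i + 1)) hu, funext fun j => ?_⟩
    by_cases e : j = i + 1
    · simp [Elu.cyc, e]
    · simp [Elu.cyc, e, sub_eq_iff_eq_add]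

end Cyc

section Count

variable {M : (Fin t → Submodule F V) → Prop}

omit [FiniteDimensional F V] in
theorem Dc.one (h : Dc D x a U π) : Dc D 1 a U 1 := ⟨h.dim, h.le, h.top, h.orth, fun _ _ h => h⟩

theorem od_iff (hM : ∀ U, M U ↔ Dc D 1 a U 1) (hx : IsUnit x) :
    (∃ U, M U ∧ ∃ π : Equiv.Perm (Fin t), ∀ j, (U j).map x = U (π j)) ↔ OD D x a t := by
  simp only [hM]
  refine ⟨fun ⟨U, h, π, h1⟩ => ⟨U, π, h.dim, h.le, h.top, h.orth, fun i v hv =>
    h1 i ▸ Submodule.mem_map_of_mem hv⟩, fun ⟨U, π, h⟩ => ⟨U, h.one, π, fun j => ?_⟩⟩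
  obtain ⟨e, rfl⟩ := exists_equiv_of_isUnit hx
  exact Submodule.eq_of_le_of_finrank_eq (by rintro _ ⟨v, hv, rfl⟩; exact h.map j v hv)
    (by rw [finrank_map_equiv, h.eq, h.eq])

theorem Dc.trans {D : Form (altKind F) V} {T : I → Submodule F V} {ρ : Equiv.Perm I}
    (h : Dc D x a U π) (h' : Dc D y a T ρ)
    (H : ∀ i, (D.restrict (U i)).Iso (D.restrict (T i))) :
    ∃ g : D.isom, ∀ i, (U i).map g.1.toLinearMap = T i := by
  classical
  choose φ hφ using H
  have i1 := DirectSum.isInternal_submodule_of_iSupIndep_of_iSup_eq_top h.indep h.top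
  have i2 := DirectSum.isInternal_submodule_of_iSupIndep_of_iSup_eq_top h'.indep h'.top
  let g := (i1.collectedBasis fun i => finBasis F (U i)).equiv
    (i2.collectedBasis fun i => (finBasis F (U i)).map (φ i)) (.refl _)
  have h1 : ∀ i (u : U i), g u = φ i u := fun i => LinearMap.congr_fun
    (f := g.toLinearMap ∘ₗ (U i).subtype) (g := (T i).subtype ∘ₗ (φ i).toLinearMap)
    ((finBasis F (U i)).ext fun k => by
      simpa using Basis.equiv_apply (i1.collectedBasis fun i => finBasis F (U i)) ⟨i, k⟩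
        (i2.collectedBasis fun i => (finBasis F (U i)).map (φ i)) (.refl _))
  refine ⟨⟨g, Symp.mem_isom.2 fun u v => ?_⟩, fun i => map_eq_of_apply (φ i) (h1 i)⟩
  refine Submodule.iSup_induction U (motive := fun u => D.B (g u) (g v) = D.B u v)
    (h.top ▸ Submodule.mem_top) (fun i u hu => ?_) (by simp) fun _ _ h2 h3 => by simp [h2, h3]
  refine Submodule.iSup_induction U (motive := fun v => D.B (g u) (g v) = D.B u v)
    (h.top ▸ Submodule.mem_top) (fun j v hv => ?_) (by simp) fun _ _ h2 h3 => by simp [h2, h3]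
  rw [h1 i ⟨u, hu⟩, h1 j ⟨v, hv⟩]
  obtain rfl | e := eq_or_ne i j
  · exact (hφ i).B_map _ _
  · rw [h.orth i j e u hu v hv, h'.orth i j e _ (φ i _).2 _ (φ j _).2]

theorem exists_of_dvd_od [Finite F] {D : Form (altKind F) V} (hM : ∀ U, M U ↔ Dc D 1 a U 1)
    (hr : r.Prime) (ha : 0 < a) (h0 : OD D x a t) (H : ∀ U U' T T', D.IsOrthCompl U U' →
      D.IsOrthCompl T T' → finrank F U = finrank F T → (D.restrict U).Iso (D.restrict T))
    (h : r ∣ Nat.card {U // M U} / t.factorial) :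
    ∃ y : End F V, IsIsometry D D y ∧ y ^ r = 1 ∧ y ≠ 1 := by
  obtain ⟨U, π, h0⟩ := h0
  haveI := Fact.mk hr
  simp only [hM] at h
  have h1 := card_dvd_of_free (G := Equiv.Perm (Fin t)) (fun g (U : Fin t → Submodule F V) => U ∘ g.symm)
    (fun _ => rfl) (fun _ _ _ => rfl) (Dc D 1 a · 1) (fun g U h => ⟨h.dim, fun _ => h.le _,
      (g.symm.iSup_comp (g := U)).trans h.top, fun i j e => h.orth _ _ (g.symm.injective.ne e),
      fun _ _ h => h⟩) fun g U h e => inv_eq_one.1 (Equiv.ext fun i => h.inj ha (congrFun e i).le)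
  have h2 := card_dvd_of_trans (fun (g : D.isom) (U : Fin t → Submodule F V) i =>
    (U i).map g.1.toLinearMap) (fun _ => funext fun _ => Submodule.map_id _)
    (fun g k _ => funext fun _ => Submodule.map_comp k.1.toLinearMap g.1.toLinearMap _)
    (Dc D 1 a · 1) (s₀ := U) fun T => ⟨fun h => (h0.trans h fun i => H _ _ _ _ (h0.compl i).1
      (h.compl i).1 ((h0.eq i).trans (h.eq i).symm)).imp fun _ => funext, by
        rintro ⟨g, rfl⟩; exact h0.one.equiv g.1 g.2.B_map fun _ => rfl⟩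
  rw [Nat.card_perm, Nat.card_eq_fintype_card, Fintype.card_fin] at h1
  obtain ⟨g, hg⟩ := exists_prime_orderOf_dvd_card' r ((h.trans (Nat.div_dvd_of_dvd h1)).trans h2)
  exact ⟨nat D g, isIsometry_nat g, by rw [← map_pow, ← hg, pow_orderOf_eq_one, map_one], fun e => by
    rw [(map_eq_one_iff _ (nat_injective D)).1 e, orderOf_one] at hg
    exact hr.one_lt.ne hg⟩

variable {ι : Type} [Fintype ι] [DecidableEq ι] {U : Fin t → Submodule F (ι → F)}

theorem mdec_iff (ht : 2 ≤ t) (ha : 0 < a) (hn : Fintype.card ι = a * t) :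
    Geo.IsMDecomposition a U ↔ Dc (zf F _) 1 a U 1 :=
  ⟨fun h => ⟨by simpa, fun i => (h.3 i).le, h.5, fun _ _ _ _ _ _ _ => rfl, fun _ _ h => h⟩,
    fun h => ⟨ht, ha, h.eq, h.indep, h.top⟩⟩

theorem mdec_iff' {D : Form K (ι → F)} (hD : D.Nondeg) (ht : 2 ≤ t) (ha : 0 < a)
    (hn : Fintype.card ι = a * t) : (Geo.IsMDecomposition a U ∧
      (∀ j, ∀ u ∈ U j, u ≠ 0 → ∃ v ∈ U j, D.B u v ≠ 0) ∧
      ∀ j j', j ≠ j' → ∀ u ∈ U j, ∀ v ∈ U j', D.B u v = 0) ↔ Dc D 1 a U 1 :=
  ⟨fun ⟨h, _, h1⟩ => ⟨by simpa, fun i => (h.3 i).le, h.5, h1, fun _ _ h => h⟩,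
    fun h => ⟨⟨ht, ha, h.eq, h.indep, h.top⟩,
      fun j => nondeg_iff_exists.2 ((h.compl j).1.nondeg_left hD), h.orth⟩⟩

end Count

section Two

variable {W : Type u} [AddCommGroup W] [Module F W] [FiniteDimensional F W]
  {E : Form (altKind F) W} {D : Form (altKind F) V} {P Q : Prop} {k l : ℕ}

variable (E) in
/-- There is a model involution of rank `k` permuting `t` summands. -/
def Md (t k : ℕ) (P : Prop) : Prop :=
  ∃ (V : Type u) (_ : AddCommGroup V) (_ : Module F V) (_ : FiniteDimensional F V)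
    (D : Form (altKind F) V) (x : End F V), (E.Nondeg → D.Nondeg) ∧ Iv D x ∧ (Al D x ↔ P) ∧
      rk x = k ∧ OD D x (finrank F W) t

theorem Md.add (h : Md E s k P) (h' : Md E t l Q) : Md E (s + t) (k + l) (P ∧ Q) :=
  let ⟨_, _, _, _, D, x, h1, h2, h3, h4, h5⟩ := h
  let ⟨_, _, _, _, D', y, g1, g2, g3, g4, g5⟩ := h'
  ⟨_, _, _, inferInstance, D.prod D', x.prodMap y, fun e => (h1 e).prod (g1 e), h2.prod g2,
    by rw [al_prod, h3, g3], by rw [rk_prod, h4, g4], h5.prod g5⟩

theorem md_zero : Md E 0 0 True :=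
  ⟨_, _, _, inferInstance, E.restrict ⊥, 1, fun _ _ _ => Subsingleton.elim _ _, iv_one,
    iff_true_intro fun _ => Symp.B_self _ _, rk_one, od_zero (finrank_bot F W)⟩

theorem md_one {x : End F W} (h : Iv E x) : Md E 1 (rk x) (Al E x) :=
  ⟨W, _, _, inferInstance, E, x, id, h, .rfl, rfl, od_one rfl⟩

theorem md_swap : Md E 2 (finrank F W) True := by
  refine ⟨_, _, _, inferInstance, E.prod E, _, fun e => e.prod e,
    ⟨⟨fun u v => by simp [add_comm], fun u => by simp [add_comm]⟩, rfl⟩,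
    iff_true_intro fun v => by simp [Symp.B_symm E v.1], ?_, od_swap E rfl⟩
  rw [rk, ← LinearMap.finrank_range_of_inj (f := LinearMap.prod (LinearMap.id (R := F) (M := W)) (-.id))
    fun u v h => congrArg Prod.fst h]
  refine congrArg (fun U : Submodule F _ => finrank F U) (Submodule.ext fun f => ?_)
  rw [mem_rng]
  exact ⟨by rintro ⟨u, rfl⟩; exact ⟨u.2 - u.1, by ext <;> simp⟩,
    by rintro ⟨u, rfl⟩; exact ⟨(0, u), by ext <;> simp⟩⟩

theorem md_al {κ b : ℕ} (hW : finrank F W = κ * b)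
    (H : ∀ k, 2 * k ≤ b → ∃ x, Iv E x ∧ rk x = κ * k ∧ Al E x) (h : 2 * k ≤ b * t) :
    Md E t (κ * k) True := by
  induction t using Nat.strong_induction_on generalizing k with | _ t ih => ?_
  rcases t with _ | t
  · obtain rfl : k = 0 := by omega
    exact md_zero
  by_cases e : 1 ≤ t ∧ b ≤ k
  · obtain ⟨t, rfl⟩ := Nat.exists_eq_add_of_le' e.1
    obtain ⟨k, rfl⟩ := Nat.exists_eq_add_of_le' e.2
    simpa [hW, mul_add] using (ih t (by omega) (k := k) (by grind)).add md_swap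
  obtain ⟨x, h1, h2, h3⟩ := H (min k (b / 2)) (by omega)
  have := (ih t (by omega) (k := k - min k (b / 2)) (by
    rcases t with _ | t
    · omega
    · have : b ≤ b * (t + 1) := Nat.le_mul_of_pos_right b t.succ_pos; omega)).add (md_one h1)
  simpa [h2, h3, ← mul_add] using this

theorem md_not_al {b : ℕ} (H : ∀ k ≤ b, ∃ x, Iv E x ∧ rk x = k ∧ (Al E x ↔ k = 0))
    (h : k ≤ b * t) : Md E t k (k = 0) := by
  induction t generalizing k with
  | zero => obtain rfl : k = 0 := (by omega); simpa using md_zero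
  | succ t ih =>
    obtain ⟨x, h1, h2, h3⟩ := H (min k b) (by omega)
    have := (ih (k := k - min k b) (by grind)).add (md_one h1)
    rw [h2, h3, Nat.sub_add_cancel (by omega)] at this
    convert this using 1
    grind

theorem count_char (p : ℕ) [Fact p.Prime] [CharP F p] (h : y ^ p = 1) :
    (dg y).count p = finrank F (LinearMap.range ((y - 1) ^ (p - 1))) := by
  obtain ⟨m, rfl⟩ := Nat.exists_eq_succ_of_ne_zero (Fact.out : p.Prime).ne_zero
  have h1 : (y - 1) ^ (m + 1) = 0 := by simpa using (pow_char_pow_iff (m + 1) 1).1 (by simpa)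
  have := second_diff_of_hasED (hasED_dg ⟨_, h1⟩) m
  have h2 := LinearMap.finrank_range_add_finrank_ker ((y - 1) ^ m)
  rw [pow_succ _ (m + 1), h1, zero_mul, LinearMap.ker_zero, finrank_top] at this
  rw [Nat.succ_eq_add_one, Nat.add_sub_cancel]
  omega

theorem sim_of_rk [CharP F 2] {y : End F V'} (hx : x ^ 2 = 1) (hy : y ^ 2 = 1)
    (hn : finrank F V = finrank F V') (h : rk x = rk y) : Sim x y := by
  have h1 : (x - 1) ^ 2 = 0 := by simpa using (pow_char_pow_iff 2 1).1 (by simpa)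
  have h2 : (y - 1) ^ 2 = 0 := by simpa using (pow_char_pow_iff 2 1).1 (by simpa)
  refine sim_add_one (sim_of_nil ⟨_, h1⟩ ⟨_, h2⟩ fun k => ?_)
  rcases k with _ | _ | k
  · rw [pow_zero, pow_zero, End.one_eq_id, End.one_eq_id, LinearMap.ker_id, LinearMap.ker_id,
      finrank_bot, finrank_bot]
  · have h3 := finrank_eig_add_rng x 1
    have h4 := finrank_eig_add_rng y 1
    rw [eig, map_one, ← rk] at h3 h4
    rw [zero_add, pow_one, pow_one]
    omega
  · rw [show k + 1 + 1 = k + 2 from rfl, pow_add, pow_add, h1, h2, mul_zero, mul_zero, LinearMap.ker_zero,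
      LinearMap.ker_zero, finrank_top, finrank_top, hn]

theorem lin_od_two [CharP F 2] (hn : finrank F V = a * t) (h : y ^ 2 = 1) : OD (zf F V) y a t := by
  have h1 : 2 * rk y ≤ a * t := by
    have := finrank_eig_add_rng y 1
    have : rk y ≤ finrank F (eig y 1) := Submodule.finrank_mono (by
      simpa [CharTwo.neg_eq] using rng_le_eig (w := (1 : F)) (by simpa using h))
    rw [rk] at *; omega
  obtain ⟨_, _, _, _, D, x, -, h2, -, h3, h4⟩ := md_al (E := zf F (Fin a → F)) (κ := 1) (by simp)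
    (fun k hk => by
      obtain ⟨x, hx⟩ := exists_unip (F := F) (V := Fin a → F)
        (t := .replicate k 2 + .replicate (a - 2 * k) 1) (by simp [Multiset.mem_replicate]; grind)
        (by simp; omega)
      have h := pow_char_of_le 2 hx (by simp [Multiset.mem_replicate]; grind)
      have := count_char 2 h
      rw [dg_unip hx, pow_one] at this
      exact ⟨x, ⟨zf_iso _, h⟩, by rw [rk, rng, map_one, ← this]; simp [Multiset.count_replicate],
        fun _ => rfl⟩) h1
  simp only [finrank_fintype_fun_eq_card, Fintype.card_fin] at h4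
  exact h4.sim (sim_of_rk h2.sq h (h4.dim.trans hn.symm) (by simpa using h3))

theorem alt_od_two [Finite F] (h2 : (2 : F) = 0) (hD : D.Nondeg) (ha : Even a)
    (hn : finrank F V = a * t) (h : Iv D y) : OD D y a t := by
  obtain ⟨E, hE⟩ := exists_alt (F := F) (V := Fin a → F) (by simpa)
  obtain ⟨b, hb⟩ := ha.two_dvd
  have h0 : finrank F (Fin a → F) = 2 * b := by simpa
  have h3 := h.two_mul_le hD h2
  rw [hn, hb, mul_assoc] at h3
  obtain ⟨_, _, _, _, D', x, h4, h5, h6, h7, h8⟩ : Md E t (rk y) (Al D y) := by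
    by_cases e : Al D y
    · obtain ⟨k, h4, -⟩ := (c2_alt h2 hD).of_al h e
      simpa [h4, e] using md_al h0 (fun k hk => (c2_alt h2 hE).exists_al (Symp.hasTS hE (by omega)))
        (k := k) (t := t) (by omega)
    · have h4 : rk y ≠ 0 := fun h4 => e fun v => by rw [rk_eq_zero h4]; exact Symp.B_self _ _
      simpa [h4, e] using md_not_al (b := b) (fun k hk => (c2_alt h2 hE).exists_iv (by omega))
        (k := rk y) (t := t) (by omega)
  rw [h0, ← hb] at h8
  obtain ⟨e, he⟩ := Symp.iso (h4 hE) hD (h8.dim.trans hn.symm)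
  have i := isoC_conj he x
  exact h8.isoC (i.trans ((c2_alt h2 hD).isoC (h5.isoC i) h ((rk_isoC i).symm.trans h7)
    ((al_isoC i).symm.trans h6)))

end Two

section Main

theorem mod_le_mul_mod {c : ℕ} (hc : 0 < c) (h : a * t % c = t * (a % c)) (h1 : 1 ≤ s) (h2 : s ≤ t) :
    a % c ≤ a * s % c := by
  have h3 : s * (a % c) < c :=
    (Nat.mul_le_mul_right _ h2).trans_lt (h ▸ Nat.mod_lt _ hc)
  rw [mul_comm, Nat.mul_mod, Nat.mod_mul_mod, Nat.mod_eq_of_lt h3]
  exact Nat.le_mul_of_pos_left _ h1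

theorem od_id (hn : finrank F V = a * t) : OD (zf F V) 1 a t :=
  od_pair (r := 1) (z := 1) (fun V _ _ _ x s h _ h1 hx => by
    obtain rfl : x = 1 := by simpa using hx
    obtain ⟨U, -, h2⟩ := exists_le_finrank_eq (⊤ : Submodule F V) (l := a)
      (by rw [finrank_top, h1]; exact Nat.le_mul_of_pos_right _ (by omega))
    obtain ⟨U', h3⟩ := U.exists_isCompl
    exact pair_iff.1 ⟨U, U', h3, h2, fun _ h => h, fun _ h => h⟩) hn (by simp)

theorem od_nonpow (hr : r.Prime) {z : F} (hz : ∀ b, b ^ r ≠ z) (hn : finrank F V = a * t)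
    (hx : x ^ r = algebraMap F _ z) : OD (zf F V) x a t := by
  obtain ⟨k, hk⟩ := hasED_nonpow hr hz hx
  obtain h | ⟨l, rfl⟩ := (Nat.Prime.dvd_mul hr).1 ⟨k, hn.symm.trans (nonpow_props hr.ne_zero hk).1⟩
  · refine od_pair (fun V _ _ _ x s h1 _ h2 hx => ?_) hn hx
    obtain ⟨k, hk⟩ := hasED_nonpow hr hz hx
    obtain ⟨h3, -, h4, -⟩ := nonpow_props hr.ne_zero hk
    have := (rep_sub_iff hr.pos (n := a * s) (Nat.le_mul_of_pos_right _ (by omega))).2 h
    rwa [← h2, h3, Nat.mul_div_cancel_left _ hr.pos, ← h4] at this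
  · haveI : NeZero r := ⟨hr.ne_zero⟩
    have := (od_id (F := F) (V := Fin (a * l) → F) (a := a) (t := l) (by simp)).cyc (Pi.mulSingle (0 : ZMod r) z)
    exact this.sim (sim_nonpow hr hz (by simp [cyc_pow]) hx (this.dim.trans hn.symm))

variable [Finite F]

theorem rk_of_pow (hr : r.Prime) (hF : (r : F) ≠ 0) (h : y ^ r = 1) :
    rk y = io r F * (fac y).card := finrank_rng_of_pow hr hF h

theorem io_le_pred (hr : r.Prime) (hF : (r : F) ≠ 0) : io r F ≤ r - 1 :=
  card_Phi hr hF ▸ Nat.le_mul_of_pos_left _ (Nat.pos_of_ne_zero (card_Phi_ne_zero hr hF))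

theorem sim_of_rk' (hr : r.Prime) (hF : (r : F) ≠ 0) (hi : io r F = r - 1) {y : End F V'}
    (hx : x ^ r = 1) (hy : y ^ r = 1) (hn : finrank F V = finrank F V') (h : rk x = rk y) :
    Sim x y := by
  obtain ⟨g, hg⟩ := Finset.card_eq_one.1 (card_Phi_eq hr hF (t := 1) (by omega))
  rw [rk_of_pow hr hF hx, rk_of_pow hr hF hy, Nat.mul_right_inj (io_pos hr hF).ne'] at h
  refine sim_of_fac (ss_of_pow' hF hx) (ss_of_pow' hF hy) hn ?_
  exact (Multiset.eq_replicate.2 ⟨h, fun a ha => Finset.mem_singleton.1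
    (hg ▸ fac_mem_Phi hr hF hx a ha)⟩).trans (Multiset.eq_replicate_card.2 fun a ha =>
      Finset.mem_singleton.1 (hg ▸ fac_mem_Phi hr hF hy a ha)).symm

theorem lin_od_iff (hr : r.Prime) (hF : (r : F) ≠ 0) (hn : finrank F V = a * t) (ha : 0 < a)
    (ht : 0 < t) (hΩ : ∃ y : End F V, y ^ r = 1 ∧ y ≠ 1) {c : ℕ} (hc : c = io r F) :
    AllE D1 r (OD (zf F V) · a t) ↔ (a = 1 ∧ 1 < c ∧ c = r - 1 ∧ a * t ≤ a * t % c * r) ∨
      (c ≤ a ∧ a * t % c = t * (a % c)) := by
  subst hc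
  have h0 := io_pos hr hF
  have h1 := io_le_pred hr hF
  haveI := nontrivial_of_finrank_pos (hn ▸ Nat.mul_pos ha ht)
  refine ⟨fun H => ?_, fun H x hx ⟨z, hz⟩ => ?_⟩
  · by_cases e : io r F = 1
    · exact .inr ⟨by omega, by simp [e, Nat.mod_one]⟩
    obtain ⟨y, h2, h3⟩ := hΩ
    refine (od_nec (D := zf F V) hr ha h0
      ((io_le_of_pow hr hF h2 h3).trans (hn ▸ Submodule.finrank_le _))
      (fun y _ h U _ hU _ => ⟨_, rk_of_pow hr hF (restrict_pow_eq_one hU h)⟩) (fun m hm => ?_)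
      fun y _ h => H y (det_eq_one_of_io hr e h) ⟨1, by simpa⟩).imp_left fun ⟨h4, h5, h6⟩ => ?_
    · obtain ⟨y, h, h'⟩ := exists_pow_card (V := V) hr hF (hn ▸ hm)
      exact ⟨y, zf_iso _, h, by rw [rk_of_pow hr hF h, h']⟩
    · obtain rfl : a = 1 := by nlinarith
      exact ⟨rfl, h4, by omega, h6⟩
  obtain ⟨b, y, -, h2, rfl⟩ | ⟨h2, -⟩ := lin_cases hr (isUnit_of_det hx) hz
  swap
  · exact od_nonpow hr h2 hn hz
  refine OD.smul ?_ b
  obtain ⟨rfl, h3, h4, h5⟩ | ⟨h3, h4⟩ := H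
  · have h6 := finrank_eig_add hr hF h2
    have h7 := mod_le_of_add h6
    rw [hn, one_mul] at h6 h7
    obtain ⟨l, h8⟩ : ∃ l, finrank F (eig y 1) = (fac y).card + l := Nat.exists_eq_add_of_le (by
      obtain ⟨m, rfl⟩ := Nat.exists_eq_succ_of_ne_zero hr.ne_zero
      rw [h4] at *
      simp only [Nat.succ_eq_add_one, Nat.add_sub_cancel, one_mul] at *
      nlinarith)
    haveI : NeZero r := ⟨hr.ne_zero⟩
    have h9 := (od_id (F := F) (V := Fin (fac y).card → F) (a := 1) (t := (fac y).card)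
      (by simp)).cyc (1 : ZMod r → F)
    have h10 : t = r * (fac y).card + l := by
      rw [← h6, h8, h4, Nat.sub_one_mul]
      have := Nat.le_mul_of_pos_left (fac y).card hr.pos
      omega
    have h11 := h10 ▸ h9.prod (od_id (F := F) (V := Fin l → F) (a := 1) (t := l) (by simp))
    refine h11.sim (sim_of_rk' hr hF h4 (prodMap_pow_eq_one (by simp [cyc_pow]) (one_pow _)) h2
      (h11.dim.trans hn.symm) ?_)
    have h12 := finrank_eig_add_rng (cyc (Fin (fac y).card → F) (1 : ZMod r → F)) 1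
    rw [finrank_eig_cyc, h9.dim, finrank_fintype_fun_eq_card, Fintype.card_fin, ← rk] at h12
    rw [rk_prod, rk_one, rk_of_pow hr hF h2]
    omega
  · refine od_pair (z := 1) (fun V _ _ _ x s h5 h6 h7 hx => ?_) hn (by simpa)
    rw [map_one] at hx
    exact dg_of_pow hr hF hx ▸ exists_le_rep_iff.2 ((ar_sub h0 (Nat.le_mul_of_pos_right _
      (by omega))).2 (mod_le_mul_mod h0 h4 (by omega) h6) _ _ (h7 ▸ finrank_eig_add hr hF hx))

omit [Finite F] in
theorem lin_od_char (p : ℕ) [Fact p.Prime] [CharP F p] (ha : 0 < a) (ht : 0 < t)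
    (h : OD (zf F V) y a t) (hy : y ^ p = 1) (h1 : (dg y).count p < a) : ∃ ν ≤ dg y, ν.sum = a := by
  obtain ⟨U, π, h⟩ := h
  have hp : p.Prime := Fact.out
  by_cases e : π ⟨0, ht⟩ = ⟨0, ht⟩
  · exact pair_iff.1 ⟨_, _, (h.compl _).1.compl, h.eq _, h.fix e⟩
  have := h.le_rank ha hp hy e ((monic_X_sub_C 1).pow (p - 1)) (by
    rw [(monic_X_sub_C 1).natDegree_pow, natDegree_X_sub_C]; have := hp.pos; omega)
  rw [map_pow, map_sub, aeval_X, aeval_C, map_one, ← count_char p hy] at this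
  omega

variable {D : Form (altKind F) V}

omit [Finite F] in
theorem alt_od_id (hD : D.Nondeg) (ha : Even a) (h0 : 0 < a) (hn : finrank F V = a * t) : OD D 1 a t := by
  obtain ⟨E, hE⟩ := exists_alt (F := F) (V := Fin a → F) (by simpa)
  refine od_ndi (r := 1) (z := 1) hE (by simp) (fun V _ _ _ D x s h _ h1 hD _ hx => ?_) hn hD
    ⟨fun _ _ => rfl, fun _ => rfl⟩ (by simp)
  obtain rfl : x = 1 := by simpa using hx
  exact ndi_one (cp_alt.sub hE hD (by simp [h1]; nlinarith))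

theorem alt_od_inv (hD : D.Nondeg) (ha : Even a) (h0 : 0 < a) (ht : 0 < t)
    (hn : finrank F V = a * t) : AllE (fun x => IsIsometry D D x) 2 (OD D · a t) := by
  haveI := nontrivial_of_finrank_pos (hn ▸ Nat.mul_pos h0 ht)
  by_cases h2 : (2 : F) = 0
  · exact (allE_char_two hD h2 fun _ h => h).2 fun y h1 h3 => alt_od_two h2 hD ha hn ⟨h1, h3⟩
  obtain ⟨E, hE⟩ := exists_alt (F := F) (V := Fin a → F) (by simpa)
  have h1 : finrank F (Fin a → F) = a := by simp
  refine (allE_two hD fun _ h => h).2 ⟨fun y h3 h4 => od_ndi (r := 2) (z := 1) hE h1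
    (fun V _ _ _ D x s h _ h5 hD hx h6 => ?_) hn hD h3 (by simpa), fun y h3 h4 =>
      od_ndi (r := 2) (z := -1) hE h1 (fun V _ _ _ D x s h _ h5 hD hx h6 => ?_) hn hD h3 (by simpa)⟩
  · obtain ⟨U, U', hc, rfl⟩ := exists_pm h2 hx (by simpa using h6)
    have h7 := Submodule.finrank_add_eq_of_isCompl hc.compl
    have h8 : a * 2 ≤ a * s := Nat.mul_le_mul_left _ h
    have key : ∀ U : Submodule F V, (D.restrict U).Nondeg → a ≤ finrank F U →
        ∃ A ≤ U, (D.restrict A).Iso E := fun U h9 h10 => by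
      obtain h11 | h11 := h10.eq_or_lt
      · exact ⟨U, le_rfl, Symp.iso h9 hE (h11.symm.trans h1.symm)⟩
      · obtain ⟨A, hA⟩ := cp_alt.sub hE h9 (h1.trans_lt h11)
        exact ⟨_, U.map_subtype_le A, (iso_restrict_restrict _ _).symm.trans hA⟩
    by_cases e : a ≤ finrank F U
    · obtain ⟨A, h9, h10⟩ := key U (hc.nondeg_left hD) e
      exact (ndi_pm hc (.inl h9)).iso h10
    · obtain ⟨A, h9, h10⟩ := key U' (hc.symm.nondeg_left hD) (by omega)
      exact (ndi_pm hc (.inr h9)).iso h10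
  · obtain ⟨l, C, h7, h8⟩ := cp_alt.compl hE hD (by rw [h1, h5]; nlinarith)
    exact (nr_neg_one h2).ndi hD hx h6 h8 (alt_rt h2 hE) (alt_rt h2 h7)

theorem alt_od_iff (hD : D.Nondeg) (hr : r.Prime) (h2 : r ≠ 2) (hF : (r : F) ≠ 0) (ha : Even a)
    (h0 : 0 < a) (ht : 0 < t) (hn : finrank F V = a * t)
    (hΩ : ∃ y : End F V, IsIsometry D D y ∧ y ^ r = 1 ∧ y ≠ 1) {c : ℕ}
    (hc : c = if Even (io r F) then io r F else 2 * io r F) :
    AllE (fun x => IsIsometry D D x) r (OD D · a t) ↔ c ≤ a ∧ a * t % c = t * (a % c) := by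
  haveI := nontrivial_of_finrank_pos (hn ▸ Nat.mul_pos h0 ht)
  have h1 := io_pos hr hF
  have h3 := io_le_pred hr hF
  have hP := prof_of (σ := RingHom.id F) (fun _ => rfl) hr hF _ fun _ => pd_id_iff hr h2 hF
  have h4 : c = io r F * if Even (io r F) then 1 else 2 := by rw [hc]; split_ifs <;> ring
  have h5 : 0 < c := h4 ▸ Nat.mul_pos h1 hP.pos
  have key : ∀ (U : Submodule F V) (y : End F U), (D.restrict U).Nondeg →
      IsIsometry (D.restrict U) (D.restrict U) y → y ^ r = 1 → c ∣ rk y := fun U y h6 h7 h8 => by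
    obtain ⟨k, hk, -⟩ := hP.nd (fac_mem_Phi hr hF h8) (map_pd_fac h6 h7 (ss_of_pow' hF h8))
    exact ⟨k, by rw [rk_of_pow hr hF h8, hk, h4, mul_assoc]⟩
  rw [allE_odd hD (hr.odd_of_ne_two h2) (fun _ h => h) (fun _ h _ => h) fun _ c h => h.smul c]
  refine ⟨fun H => (od_nec hr h0 h5 ?_ (fun y h6 h7 U U' h8 h9 => key U _ (h9.nondeg_left hD)
    (isIsometry_restrict h6 h8) (restrict_pow_eq_one h8 h7)) (fun m hm => ?_) H).resolve_left
      fun ⟨_, h6, _⟩ => ?_, fun ⟨h6, h7⟩ y h8 h9 => ?_⟩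
  · obtain ⟨y, h6, h7, h8⟩ := hΩ
    obtain ⟨k, hk, -⟩ := hP.nd (fac_mem_Phi hr hF h7) (map_pd_fac hD h6 (ss_of_pow' hF h7))
    have h9 := io_mul_le hr hF h7
    have : k ≠ 0 := by
      rintro rfl
      exact h8 ((fac_eq_zero_iff (ss_of_pow' hF h7)).1 (Multiset.card_eq_zero.1 hk))
    rw [hk, ← mul_assoc, ← h4, hn] at h9
    exact (Nat.le_mul_of_pos_right _ (by omega)).trans h9
  · obtain ⟨M, h6, h7, h8⟩ := hP.nd_ex m
    obtain ⟨g, h9, h10⟩ := (alt_real_iff hD hr h2 hF h6).1 ⟨h7, by rwa [h8, ← mul_assoc, ← h4, hn]⟩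
    exact ⟨_, isIsometry_nat g, h9, by rw [rk_of_pow hr hF h9, h10, h8, h4, mul_assoc]⟩
  · have := Nat.mul_le_mul_right (r - 1) (Nat.le_of_dvd h0 ha.two_dvd)
    have := hr.even_sub_one h2
    grind
  · obtain ⟨E, hE⟩ := exists_alt (F := F) (V := Fin a → F) (by simpa)
    have h10 : finrank F (Fin a → F) = a := by simp
    refine od_ndi (r := r) (z := 1) hE h10 (fun V _ _ _ D x s h h' h11 hD hx h12 => ?_) hn hD h8
      (by simpa)
    refine (nd_ar cp_alt hD hE hr h2 hF _ (fun _ => pd_id_iff hr h2 hF) (P := True) (Q := True)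
      (S := True) (.inr trivial) (fun _ h => by simpa using alt_real_iff hD hr h2 hF h)
      fun y hy h B hB h3 h4 => ⟨fun h5 => by simpa using Symp.iso hE h3 h5.symm, fun h5 => by
        simpa using Symp.iso hE ((nondeg_eig hD (ss_of_pow' hF h) hy (by simp)).prod h3)
          (h5.trans finrank_prod.symm)⟩).2 ?_ x hx (by simpa using h12)
    rw [← hc, h10, h11, arN_iff h5 h0 (by nlinarith)]
    simpa using mod_le_mul_mod h5 h7 (by omega) h'

end Main

section Mat

theorem sl_od_iff (ht : 2 ≤ t) (ha : 0 < a) (hn : n = a * t) :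
    (∀ x : Matrix.SpecialLinearGroup (Fin n) F, (∃ z : F, ((x ^ r : Matrix.SpecialLinearGroup (Fin n) F) :
      Matrix (Fin n) (Fin n) F) = z • (1 : Matrix (Fin n) (Fin n) F)) →
      (∀ z : F, (x : Matrix (Fin n) (Fin n) F) ≠ z • (1 : Matrix (Fin n) (Fin n) F)) →
      ∃ D : Fin t → Submodule F (Fin n → F), Geo.IsMDecomposition a D ∧ ∃ σ : Equiv.Perm (Fin t),
        ∀ j, (D j).map (Matrix.toLin' (x : Matrix (Fin n) (Fin n) F)) = D (σ j)) ↔
      AllE D1 r (OD (zf F (Fin n → F)) · a t) := by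
  refine .trans (forall_congr' fun x => ?_) (sl_iff _ fun c => by
    simpa [Algebra.algebraMap_eq_smul_one] using (od_id (by simpa)).smul c)
  rw [od_iff (fun _ => mdec_iff ht ha (by simpa)) (isUnit_of_det (by simp))]

theorem sl_od_count [Finite F] (ht : 2 ≤ t) (ha : 0 < a) (hn : n = a * t) (hr : r.Prime)
    (h : r ∣ Nat.card {D : Fin t → Submodule F (Fin n → F) // Geo.IsMDecomposition a D} /
      t.factorial) : ∃ y : End F (Fin n → F), y ^ r = 1 ∧ y ≠ 1 :=
  (exists_of_dvd_od (fun _ => mdec_iff ht ha (by simpa)) hr ha (od_id (by simpa))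
    (fun _ _ _ _ _ _ h => ⟨.ofFinrankEq _ _ h, fun _ _ => rfl, fun _ => rfl⟩) h).imp fun _ h => h.2

variable {d : ℕ}

theorem sp_mdec (ht : 2 ≤ t) (ha : 0 < a) (hn : 2 * d = a * t)
    (U : Fin t → Submodule F (Fin d ⊕ Fin d → F)) : (Geo.IsMDecomposition a U ∧
      (∀ j, ∀ u ∈ U j, u ≠ 0 → ∃ v ∈ U j, sympForm d F u v ≠ 0) ∧
      ∀ j j', j ≠ j' → ∀ u ∈ U j, ∀ v ∈ U j', sympForm d F u v = 0) ↔ Dc (fSymp F d) 1 a U 1 := by
  simpa only [fSymp_B] using mdec_iff' (fSymp_nondeg d) ht ha (by simp [← hn, two_mul])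

theorem sp_od_iff (ht : 2 ≤ t) (ha : 0 < a) (he : Even a) (hn : 2 * d = a * t) :
    (∀ x : Matrix.symplecticGroup (Fin d) F, (∃ z : F, ((x ^ r : Matrix.symplecticGroup (Fin d) F) :
      Matrix (Fin d ⊕ Fin d) (Fin d ⊕ Fin d) F) = z • (1 : Matrix _ _ F)) →
      (∀ z : F, (x : Matrix (Fin d ⊕ Fin d) (Fin d ⊕ Fin d) F) ≠ z • (1 : Matrix _ _ F)) →
      ∃ D : Fin t → Submodule F (Fin d ⊕ Fin d → F), (Geo.IsMDecomposition a D ∧
        (∀ j, ∀ u ∈ D j, u ≠ 0 → ∃ v ∈ D j, sympForm d F u v ≠ 0) ∧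
        (∀ j j', j ≠ j' → ∀ u ∈ D j, ∀ v ∈ D j', sympForm d F u v = 0)) ∧
        ∃ σ : Equiv.Perm (Fin t), ∀ j, (D j).map
          (Matrix.toLin' (x : Matrix (Fin d ⊕ Fin d) (Fin d ⊕ Fin d) F)) = D (σ j)) ↔
      AllE (fun x => IsIsometry (fSymp F d) (fSymp F d) x) r (OD (fSymp F d) · a t) := by
  refine .trans (forall_congr' fun x => ?_) (sp_iff fun c => by
    simpa [Algebra.algebraMap_eq_smul_one] using
      (alt_od_id (fSymp_nondeg d) he ha ((finrank_plus d).trans hn)).smul c)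
  rw [od_iff (sp_mdec ht ha hn) (coe_spEquiv x ▸
    isUnit_of_isIsometry (fSymp_nondeg d) (spEquiv F d x).2.B_map)]

end Mat

end Cfsg.Lib.Elu
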