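import Cfsg.Agent.Lib.Elu.C8
import Cfsg.Agent.Lib.Linear.SpecD
import Cfsg.Agent.Lib.Asch.Comm

/-!
Elements of prime order of the linear groups and subfield subgroups.
-/

set_option autoImplicit false

namespace Cfsg.Lib.Elu

open Module Cfsg.Lib.Forms Cfsg.Lib.Forms.Form Cfsg.Lib.Known Cfsg.Lib.Conj Polynomial

variable {F₀ F : Type*} [Field F₀] [Field F] [Algebra F₀ F] {ι : Type} [Fintype ι] [DecidableEq ι]
  {x y : End F (ι → F)} {r n k : ℕ} {c z : F} {A B : Matrix ι ι F₀}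

variable (F) in
/-- Extension of scalars. -/
def mp : Matrix ι ι F₀ →+* End F (ι → F) :=
  (Matrix.toLinAlgEquiv' (R := F) (n := ι)).toRingEquiv.toRingHom.comp (algebraMap F₀ F).mapMatrix

theorem mp_apply (A : Matrix ι ι F₀) : mp F A = Matrix.toLin' (A.map (algebraMap F₀ F)) := rfl

theorem mp_injective : Function.Injective (mp F : Matrix ι ι F₀ → _) :=
  Matrix.toLin'.injective.comp (Matrix.map_injective (algebraMap F₀ F).injective)

theorem mp_smul (a : F₀) (A : Matrix ι ι F₀) : mp F (a • A) = algebraMap F₀ F a • mp F A := by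
  rw [mp_apply, mp_apply, ← map_smul]; congr 1; ext; simp

theorem det_mp (A : Matrix ι ι F₀) : LinearMap.det (mp F A) = algebraMap F₀ F A.det := by
  rw [mp_apply, LinearMap.det_toLin', RingHom.map_det]; rfl

theorem charpoly_mp (A : Matrix ι ι F₀) :
    (mp F A).charpoly = (Matrix.toLin' A).charpoly.map (algebraMap F₀ F) := by
  rw [mp_apply, Matrix.charpoly_toLin', Matrix.charpoly_toLin', Matrix.charpoly_map]

theorem finrank_ker_toLin' (A : Matrix ι ι F) :
    finrank F (LinearMap.ker (Matrix.toLin' A)) + A.rank = Fintype.card ι := by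
  rw [add_comm, ← finrank_fintype_fun_eq_card F]
  exact LinearMap.finrank_range_add_finrank_ker _

theorem finrank_ker_mp (A : Matrix ι ι F₀) :
    finrank F (LinearMap.ker (mp F A)) = finrank F₀ (LinearMap.ker (Matrix.toLin' A)) := by
  have := finrank_ker_toLin' A
  have := finrank_ker_toLin' (A.map (algebraMap F₀ F))
  rw [Linear.rank_map_ringHom] at this
  rw [mp_apply]; omega

theorem eig_toLin' (A : Matrix ι ι F) (a : F) :
    eig (Matrix.toLin' A) a = LinearMap.ker (Matrix.toLin' (A - a • 1)) := by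
  rw [map_sub, toLin'_eq_scalar.1 rfl, eig]

theorem ss_mp [Finite F₀] (h : End.IsSemisimple (Matrix.toLin' A)) : (mp F A).IsSemisimple := by
  refine End.isSemisimple_of_squarefree_aeval_eq_zero (PerfectField.separable_iff_squarefree.2
    h.minpoly_squarefree |>.map (f := algebraMap F₀ F)).squarefree ?_
  have := minpoly.aeval F₀ (Matrix.toLin' A)
  rw [aeval_toLin', LinearEquiv.map_eq_zero_iff] at this
  rw [mp_apply, aeval_toLin', ← RingHom.mapMatrix_apply, ← map_aeval_eq_aeval_map (by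
    ext a i j; by_cases e : i = j <;> simp [Matrix.algebraMap_matrix_apply, e]),
    this, map_zero, map_zero]

theorem hasED_mp {t : Multiset ℕ} (h : HasED (Matrix.toLin' A) (unipOf F₀ t)) :
    HasED (mp F A) (unipOf F t) := by
  have h1 := hasED_dg (y := mp F A) (by
    simpa using (nil_toLin'_iff.1 (unip_of_hasED h)).map (mp F))
  rwa [multiset_eq_of_min (pos_of_unip h1) (pos_of_unip h) fun k => ?_] at h1
  rw [← edCnt_unipOf (F := F), ← edCnt_unipOf (F := F₀), ← finrank_ker_of_hasED h,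
    ← finrank_ker_of_hasED h1, ← map_one (mp (F₀ := F₀) (ι := ι) F), ← map_sub, ← map_pow, finrank_ker_mp,
    Matrix.toLin'_pow, map_sub, Matrix.toLin'_one, End.one_eq_id]

variable (F₀) in
/-- Scalar multiples of rational matrices. -/
def Rm (y : End F (ι → F)) : Prop := IsUnit y ∧ ∃ c : F, c ≠ 0 ∧ ∃ A : Matrix ι ι F₀, y = c • mp F A

theorem sc_rm : Sc (Rm F₀ (F := F) (ι := ι)) := fun _ a ha ⟨h, c, hc, A, e⟩ =>
  ⟨h.smul (Units.mk0 a ha), a * c, mul_ne_zero ha hc, A,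
    by rw [e, smul_smul]⟩

theorem gc_mp (hu : IsUnit y) (h : Sim (mp F A) y) : GC (Rm F₀) y :=
  ⟨_, ⟨h.isUnit_iff.2 hu, 1, one_ne_zero, A, (one_smul _ _).symm⟩, h⟩

theorem inM_sub (k : Subfield F) : InM (Geo.subfieldSubgroup k (1 : GL ι F)) = Rm k := by
  ext y
  constructor
  · rintro ⟨g, hg, rfl⟩
    obtain ⟨c, hc, h⟩ := Asch.mem_subfieldSubgroup_iff.1 hg
    simp only [Asch.Ratl, inv_one, Asch.cj_one] at h
    refine ⟨g.isUnit.map Matrix.toLinAlgEquiv', c⁻¹, inv_ne_zero hc, .of fun i j => ⟨_, h i j⟩, ?_⟩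
    rw [mp_apply, ← map_smul]; congr 1; ext; simp [hc, Subfield.algebraMap_ofSubfield]
  · rintro ⟨h, c, hc, A, e⟩
    obtain ⟨g, rfl⟩ := exists_equiv_of_isUnit h
    refine ⟨ofLin F ι g, Asch.mem_subfieldSubgroup_iff.2 ⟨c⁻¹, inv_ne_zero hc, fun i j => ?_⟩,
      toLin'_ofLin g⟩
    rw [← toLin'_ofLin, mp_apply, ← map_smul, Matrix.toLin'.injective.eq_iff] at e
    simp [e, hc, Subfield.algebraMap_ofSubfield]

theorem gc_unip (h : IsNilpotent (y - 1)) : GC (Rm F₀) y := by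
  have h1 := hasED_dg h
  obtain ⟨a, ha⟩ := exists_unip (F := F₀) (V := ι → F₀) (pos_of_unip h1) (by simp [sum_dg])
  obtain ⟨A, rfl⟩ := Matrix.toLin'.surjective a
  exact gc_mp (isUnit_of_unip h) ((hasED_mp ha).sim h1)

variable [Finite F₀]

theorem gc_of_lifts (hs : y.IsSemisimple) (hu : IsUnit y)
    (h : y.charpoly ∈ lifts (algebraMap F₀ F)) : GC (Rm F₀) y := by
  obtain ⟨g, h1, h2, h3⟩ := lifts_and_natDegree_eq_and_monic h y.charpoly_monic
  obtain ⟨a, h4, h5⟩ := exists_ss_charpoly (V := ι → F₀) h3 (by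
    simp [h2, LinearMap.charpoly_natDegree])
  obtain ⟨A, rfl⟩ := Matrix.toLin'.surjective a
  exact gc_mp hu (sim_of_charpoly (ss_mp h4) hs (by rw [charpoly_mp, h5, h1]))

variable (F₀ F) in
/-- The Frobenius map of the subfield. -/
noncomputable def fr : F →+* F :=
  have := Fintype.ofFinite F₀
  FiniteField.frobeniusAlgHom F₀ F

theorem fr_apply (a : F) : fr F₀ F a = a ^ Nat.card F₀ := by
  simp [fr, @Nat.card_eq_fintype_card F₀ (Fintype.ofFinite F₀)]

theorem fr_eq_iff {a : F} : fr F₀ F a = a ↔ a ∈ (algebraMap F₀ F).range := by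
  have := Fintype.ofFinite F₀
  refine ⟨fun h => (splits_X_pow_nat_card_sub_X (K := F₀)).mem_range_of_isRoot
    (FiniteField.X_pow_card_sub_X_ne_zero _ two_le_card) (by simpa [fr_apply, sub_eq_zero] using h),
    ?_⟩
  rintro ⟨a, rfl⟩
  rw [fr_apply, ← map_pow, Nat.card_eq_fintype_card, FiniteField.pow_card]

theorem fr_map (a : F₀) : fr F₀ F (algebraMap F₀ F a) = algebraMap F₀ F a := fr_eq_iff.2 ⟨a, rfl⟩

theorem Dg.gc_fr {s : Multiset F} (h : Dg y s) (hu : IsUnit y) (hs : s.map (fr F₀ F) = s) :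
    GC (Rm F₀) y := by
  refine gc_of_lifts h.1 hu ((lifts_iff_coeff_lifts _).2 fun n => fr_eq_iff.1 ?_)
  rw [← coeff_map, h.2, Polynomial.map_multiset_prod, Multiset.map_map]
  conv_rhs => rw [← hs, Multiset.map_map]
  simp

theorem Rm.tw (h : Rm F₀ y) : Tw (fr F₀ F) y := by
  obtain ⟨-, c, hc, A, rfl⟩ := h
  have e : ∀ a, eig (c • mp F A) (c * a) = eig (mp F A) a := fun a => by
    ext v; simp [mem_eig, mul_smul, smul_right_inj hc]
  refine ⟨c / fr F₀ F c, by simp [hc], fun a _ => le_of_eq ?_⟩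
  rw [← mul_div_cancel₀ a hc, e, show c / fr F₀ F c * (fr F₀ F : F →* F) (c * (a / c)) =
    c * fr F₀ F (a / c) by simp; field_simp [(_root_.map_ne_zero _).2 hc], e, mp_apply, eig_toLin', eig_toLin']
  have h1 := finrank_ker_toLin' (A.map (algebraMap F₀ F) - (a / c) • 1)
  have h2 := finrank_ker_toLin' (A.map (algebraMap F₀ F) - fr F₀ F (a / c) • 1)
  rw [← Linear.rank_map_ringHom (fr F₀ F), show (A.map (algebraMap F₀ F) - (a / c) • 1).map
    (fr F₀ F) = A.map (algebraMap F₀ F) - fr F₀ F (a / c) • 1 by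
      ext i j; by_cases e : i = j <;> simp [fr_map, e]] at h1
  omega

theorem rm_pow [Nonempty ι] (hc : c ≠ 0) (h : (c • mp F A) ^ r = algebraMap F _ z) :
    z / c ^ r ∈ (algebraMap F₀ F).range := by
  obtain ⟨i⟩ := ‹Nonempty ι›
  rw [_root_.smul_pow, ← map_pow, mp_apply, ← map_smul, ← toLin'_eq_scalar] at h
  exact ⟨(A ^ r) i i, by have := congrFun₂ h i i; simp at this; rw [← this]; field_simp⟩

theorem Rm.one [Nonempty ι] (h : Rm F₀ y) (h1 : y ^ r = 1) (H : ∀ c : F, c ^ r = 1 → c = 1) :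
    ∃ A : Matrix ι ι F₀, A ^ r = 1 ∧ y = mp F A := by
  obtain ⟨-, c, hc, A, rfl⟩ := h
  have h4 := fr_eq_iff.2 (rm_pow (z := 1) hc (by simpa using h1))
  obtain ⟨a, rfl⟩ := fr_eq_iff (F₀ := F₀).1 (div_eq_one_iff_eq hc |>.1 (H (fr F₀ F c / c) (by
    rw [div_pow, ← map_pow, div_eq_one_iff_eq (pow_ne_zero _ hc)]; simpa using h4)))
  rw [← mp_smul] at h1 ⊢
  exact ⟨_, mp_injective (by simpa using h1), rfl⟩

theorem GC.rm_one [Nonempty ι] (h : GC (Rm F₀) y) (h1 : y ^ r = 1)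
    (H : ∀ c : F, c ^ r = 1 → c = 1) : ∃ A : Matrix ι ι F₀, A ^ r = 1 ∧ Sim (mp F A) y := by
  obtain ⟨a, h, h2⟩ := h
  obtain ⟨A, h3, rfl⟩ := h.one (r := r) (by
    simpa using sim_pow_scalar (r := r) (z := 1) h2.symm (by simpa using h1)) H
  exact ⟨A, h3, h2⟩

variable [Finite F]

omit [Finite F₀] [Algebra F₀ F] in
theorem card_SL' (hn : Fintype.card ι = n + 1) : Nat.card (Matrix.SpecialLinearGroup ι F) =
    Nat.card F ^ ((n + 1) * n / 2) * ∏ i ∈ Finset.range n, (Nat.card F ^ (i + 2) - 1) := by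
  have : Nonempty ι := Fintype.card_pos_iff.1 (by omega)
  have h := Linear.card_SL_aux (ι := ι) (F := F)
  rw [Linear.card_GL', hn, Finset.prod_range_succ', zero_add, pow_one, ← mul_assoc,
    mul_comm _ (Nat.card F - 1)] at h
  exact Nat.eq_of_mul_eq_mul_left (by have := two_le_card (F := F); omega) h

theorem pow_sub_one_eq {a : ℕ} (ha : a ≠ 0) (k : ℕ) :
    a ^ k - 1 = (a - 1) * ∑ l ∈ Finset.range k, a ^ l := by
  obtain ⟨b, rfl⟩ := Nat.exists_eq_succ_of_ne_zero ha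
  simp [← geom_sum_mul_add b k, mul_comm]

omit [Algebra F₀ F] [Finite F₀] in
theorem dvd_sub_index (K : Subfield F) (hk : Nat.card F = Nat.card K ^ k) (hr : r.Prime)
    (hF : (r : F) ≠ 0) (hn : Fintype.card ι = n) (h0 : n ≠ 0)
    (hΩ : r ∣ (Geo.subfieldSubgroup K (1 : GL ι F)).relIndex (Geo.specialLinear ι F)) :
    ∃ j, 2 ≤ j ∧ j ≤ n ∧ orderOf (Nat.card K : ZMod r) ∣ k * j ∧
      (orderOf (Nat.card K : ZMod r) ∣ j → r ∣ k) := by
  obtain ⟨n, rfl⟩ := Nat.exists_eq_succ_of_ne_zero h0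
  have hq : Nat.card K ≠ 0 := Nat.card_pos.ne'
  obtain ⟨i, h1, h2⟩ := exists_dvd_of_prod hr (card_ne_zero_zmod hr hF)
    (f := fun i => ∑ l ∈ Finset.range k, (Nat.card K ^ (i + 2)) ^ l)
    (dvd_of_relIndex hΩ (Matrix.SpecialLinearGroup.toGL.comp (Matrix.SpecialLinearGroup.map K.subtype))
      (Matrix.SpecialLinearGroup.toGL_injective.comp fun a b h => Subtype.ext
        (Matrix.map_injective K.subtype.injective (congrArg Subtype.val h)))
      (fun a => Asch.mem_subfieldSubgroup_iff.2 ⟨1, one_ne_zero, fun i j => by simp⟩)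
      (fun a => by rw [← range_toGL]; exact ⟨_, rfl⟩) (by
        rw [← range_toGL, ← Nat.card_congr (MonoidHom.ofInjective
          Matrix.SpecialLinearGroup.toGL_injective).toEquiv, card_SL' hn, ← Finset.prod_mul_distrib]
        exact congrArg _ (Finset.prod_congr rfl fun i _ => by
          rw [hk, pow_right_comm, pow_sub_one_eq (pow_ne_zero _ hq)])) (card_SL' hn))
  refine ⟨i + 2, by omega, by omega, ?_, fun h => ?_⟩
  · rw [← dvd_pow_sub_one_iff hq, pow_mul', pow_sub_one_eq (pow_ne_zero _ hq)]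
    exact h2.mul_left _
  · rw [← ZMod.natCast_eq_zero_iff] at h2 ⊢
    simpa [orderOf_dvd_iff_pow_eq_one.1 h] using h2

omit [Algebra F₀ F] [Finite F₀] in
theorem exists_root_of_pow {m : ℕ} (h : Nat.card F - 1 = r * m) (hz : z ^ m = 1) :
    ∃ b, b ^ r = z := by
  obtain ⟨ζ, hζ⟩ := exists_primRoot (F := F) dvd_rfl
  have h0 : r * m ≠ 0 := by have := two_le_card (F := F); omega
  have : NeZero m := ⟨right_ne_zero_of_mul h0⟩
  obtain ⟨j, -, rfl⟩ := (hζ.pow (by omega) h).eq_pow_of_pow_eq_one hz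
  exact ⟨ζ ^ j, pow_right_comm _ _ _⟩

theorem exists_root_map (hk : Nat.card F = Nat.card F₀ ^ r) (hr : r ∣ Nat.card F₀ - 1) (a : F₀) :
    ∃ b, b ^ r = algebraMap F₀ F a := by
  have hq : Nat.card F₀ ≠ 0 := Nat.card_pos.ne'
  by_cases ha : a = 0
  · exact ⟨0, by rw [ha, map_zero, zero_pow]; rintro rfl; exact (two_le_card (F := F)).not_gt (by simp [hk])⟩
  obtain ⟨m, hm⟩ : r ∣ ∑ l ∈ Finset.range r, Nat.card F₀ ^ l := by
    rw [← pow_one (Nat.card F₀), dvd_pow_sub_one_iff hq, orderOf_dvd_iff_pow_eq_one, pow_one] at hr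
    simp [← ZMod.natCast_eq_zero_iff, hr]
  exact exists_root_of_pow (m := (Nat.card F₀ - 1) * m) (by
    rw [hk, pow_sub_one_eq hq, hm, mul_left_comm]) (by
      rw [pow_mul, ← map_pow, pow_card_sub_one ha, map_one, one_pow])

theorem gc_of_io (hr : r.Prime) (hF : (r : F) ≠ 0) (hi : io r F₀ = io r F) (hy : y ^ r = 1) :
    GC (Rm F₀) y := by
  have hF₀ : (r : F₀) ≠ 0 := fun h => hF (by simpa using congrArg (algebraMap F₀ F) h)
  refine gc_of_lifts (ss_of_pow' hF hy) (isUnit_of_pow hr hy) ?_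
  obtain ⟨a, ha⟩ := nf_charpoly' y
  rw [← prod_nf y.charpoly_monic, ha]
  refine Subsemiring.multiset_prod_mem _ _ fun g hg => ?_
  rcases Multiset.mem_add.1 hg with h1 | h1
  · exact ⟨X - 1, by simp [Multiset.eq_of_mem_replicate h1]⟩
  have h2 := fac_mem_Phi hr hF hy g h1
  obtain ⟨h3, h4, h5⟩ := mem_Phi.1 h2
  rw [← map_cyclotomic r (algebraMap F₀ F), ← prod_nf (cyclotomic.monic r F₀),
    Polynomial.map_multiset_prod] at h5
  obtain ⟨_, h6, h7⟩ := h3.prime.exists_mem_multiset_dvd h5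
  obtain ⟨f, h8, rfl⟩ := Multiset.mem_map.1 h6
  have h9 : f ∈ Phi r F₀ := mem_Phi.2 ((mem_nf (cyclotomic_ne_zero r F₀)).1 h8)
  exact ⟨f, eq_of_monic_of_dvd_of_natDegree_le h4 ((mem_Phi.1 h9).2.1.map _) h7 (by
    rw [coe_mapRingHom, natDegree_map, natDegree_of_mem_Phi hr hF₀ h9, natDegree_of_mem_Phi hr hF h2, hi])⟩

theorem gc_of_fr (hr : r.Prime) (hF : (r : F) ≠ 0) (hd : r ∣ Nat.card F₀ - 1) (hi : io r F = 1)
    (hy : y ^ r = 1) : GC (Rm F₀) y :=
  gc_of_io hr hF (by rw [hi, io_eq_one_iff.2 hd]) hy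

theorem sub_nonpow [Nonempty ι] (hk : Nat.card F = Nat.card F₀ ^ r) (hr : r ∣ Nat.card F₀ - 1)
    (hz : ∀ b, b ^ r ≠ z) (hx : x ^ r = algebraMap F _ z) : ¬ GC (Rm F₀) x := by
  rintro ⟨_, ⟨-, c, hc, A, rfl⟩, h⟩
  obtain ⟨a, ha⟩ := rm_pow hc (sim_pow_scalar h.symm hx)
  obtain ⟨b, hb⟩ := exists_root_map hk hr a
  exact hz (b * c) (by rw [mul_pow, hb, ha]; field_simp)

theorem sub_same (hn : Fintype.card ι = n) (h0 : n ≠ 0) (hr : r.Prime) (hF : (r : F) ≠ 0)
    (hk : Nat.card F = Nat.card F₀ ^ r) : AllE D1 r (SC (Rm F₀ (F := F) (ι := ι))) ↔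
      (r ∣ Nat.card F₀ - 1 → padicValNat r n ≤ padicValNat r (Nat.card F - 1)) := by
  have : Nonempty ι := Fintype.card_pos_iff.1 (by omega)
  have := Fact.mk hr
  have hi : io r F₀ = io r F := by rw [io, io, hk, Nat.cast_pow, ZMod.pow_card]
  have hn' : finrank F (ι → F) = n := by simp [hn]
  rw [allE_sc hr hF sc_rm hn', and_iff_right fun y hy _ _ _ => gc_of_io hr hF hi hy, ← not_iff_not,
    ← io_eq_one_iff, hi]
  have e : io r F = 1 → r = 2 → Nat.card F % 4 = 1 := by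
    rintro h rfl
    obtain ⟨m, hm⟩ := (Nat.odd_pow_iff two_ne_zero).1 (hk ▸ odd_card_iff.2 hF)
    rw [hk, hm, show (2 * m + 1) ^ 2 = 4 * (m * m + m) + 1 by ring]; omega
  have := (np_iff_exists hr hn').symm.trans (np_iff hr hF h0)
  push Not
  refine ⟨fun ⟨x, z, a, b, c, _⟩ => ?_, fun h => ?_⟩
  · have := this.1 ⟨x, z, a, b, c⟩
    grind
  · obtain ⟨x, z, a, b, c⟩ := this.2 ⟨h.1, fun k => h.2.not_ge k.1⟩
    exact ⟨x, z, a, b, c, sub_nonpow hk (io_eq_one_iff.1 (hi.trans h.1)) a b⟩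

theorem sub_odd (hn : Fintype.card ι = n) (h3 : 2 ≤ n) (hr : r.Prime) (h2 : r ≠ 2)
    (hF : (r : F) ≠ 0) (hp : k.Prime) (hk : Nat.card F = Nat.card F₀ ^ k) (hrk : r ≠ k)
    (h6 : ¬ (n = 6 ∧ r = 3)) (hΩ : ∃ j, 2 ≤ j ∧ j ≤ n ∧ io r F₀ ∣ k * j ∧ (io r F₀ ∣ j → r ∣ k)) :
    AllE D1 r (SC (Rm F₀ (F := F) (ι := ι))) ↔
      k = 2 ∧ r = n ∧ (n = 3 ∨ n = 5) ∧ padicValNat r (Nat.card F₀ + 1) = 1 := by
  have : Nonempty ι := Fintype.card_pos_iff.1 (by omega)
  have := Fact.mk hr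
  have hF₀ : (r : F₀) ≠ 0 := fun h => hF (by simpa using congrArg (algebraMap F₀ F) h)
  have hn' : finrank F (ι → F) = n := by simp [hn]
  have hq := two_le_card (F := F₀)
  obtain ⟨j, h4, h5, h7, h8⟩ := hΩ
  have h8 := fun h => hrk ((Nat.prime_dvd_prime_iff_eq hr hp).1 (h8 h))
  obtain ⟨i, hi⟩ : k ∣ io r F₀ := by_contra fun h =>
    h8 ((hp.coprime_iff_not_dvd.2 h).symm.dvd_of_dvd_mul_left h7)
  have h0 := io_pos hr hF₀
  have h9 : io r F = i := by
    rw [io, hk, Nat.cast_pow, orderOf_pow_of_dvd hp.ne_zero ⟨i, hi⟩, ← io, hi,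
      Nat.mul_div_cancel_left _ hp.pos]
  rw [hi, Nat.mul_dvd_mul_iff_left hp.pos] at h7
  have hv : k = 2 → r ∣ Nat.card F₀ + 1 → i = 1 := fun a b => by
    have := (orderOf_eq_two_iff_dvd hr h2).2 b
    rw [← io] at this; subst a; omega
  by_cases h1 : i = 1
  swap
  · refine iff_of_false ?_ fun e => h1 (hv e.1 (dvd_of_one_le_padicValNat e.2.2.2.ge))
    obtain ⟨y, h10, h11⟩ := exists_pow_card (F := F) (V := ι → F) (a := 1) hr hF (by
      rw [hn', h9, mul_one]; exact (Nat.le_of_dvd (by omega) h7).trans h5)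
    refine not_allE sc_rm h10 one_ne_zero (by simpa using det_eq_one_of_io hr (h9 ▸ h1) h10) fun h => ?_
    obtain ⟨A, h12, h13⟩ := h.rm_one h10 (eq_one_of_io hr (h9 ▸ h1))
    have h14 := finrank_eig_add hr hF h10
    have h15 := finrank_eig_add (y := Matrix.toLin' A) hr hF₀ (by
      rw [← Matrix.toLin'_pow, h12, Matrix.toLin'_one, End.one_eq_id])
    rw [← finrank_eig_sim h13, eig, map_one, ← map_one (mp (F₀ := F₀) (ι := ι) F), ← map_sub,
      finrank_ker_mp, h11, h9, hn'] at h14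
    rw [eig_toLin', one_smul, finrank_fintype_fun_eq_card, hn, hi] at h15
    rw [mul_comm k, mul_assoc] at h15
    exact hp.not_dvd_one ⟨_, Nat.eq_of_mul_eq_mul_left (Nat.pos_of_mul_pos_left (hi ▸ h0))
      (Nat.add_left_cancel (h14.trans h15.symm))⟩
  subst h1
  rw [mul_one] at hi
  obtain ⟨ζ, hζ⟩ := exists_primRoot (io_eq_one_iff.1 h9)
  have key : ∀ l, (fr F₀ F)^[l] ζ = ζ → k ∣ l := fun l h => by
    simp only [funext (fr_apply (F₀ := F₀) (F := F)), pow_iterate] at h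
    rw [← hi, io, ← dvd_pow_sub_one_iff (by omega), ← hζ.pow_eq_one_iff_dvd]
    refine mul_right_cancel₀ (hζ.ne_zero hr.ne_zero) ?_
    rw [← pow_succ, Nat.sub_add_cancel (Nat.one_le_pow _ _ (by omega)), h, one_mul]
  have hv : k = 2 → r ∣ Nat.card F₀ + 1 ∧
      padicValNat r (Nat.card F - 1) = padicValNat r (Nat.card F₀ + 1) := by
    rintro rfl
    refine ⟨(orderOf_eq_two_iff_dvd hr h2).1 hi, ?_⟩
    rw [hk, sq_sub_one_eq, padicValNat.mul (by omega) (by omega), padicValNat.eq_zero_of_not_dvd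
      (n := _ - 1) (mt io_eq_one_iff.2 (by omega)), add_zero]
  refine ⟨fun H => ?_, fun ⟨a, b, c, d⟩ => allE_exc (by omega) (by omega) ((hv a).2 ▸ d) sc_rm
    fun y s h10 h11 h12 => h11.gc_fr (isUnit_of_pow hr h10) ((Multiset.map_congr rfl fun e he =>
      eq_inv_of_mul_eq_one_left ?_).trans h12)⟩
  · by_contra e
    obtain ⟨y, h10, ⟨w, h11, h12⟩, h13⟩ := exists_bad hr h2 hζ (τ := fr F₀ F) (fr F₀ F).injective
      (fun h => hp.not_dvd_one (key 1 h)) hn' h3 (fun a h => h8 (by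
        have : fr F₀ F ζ = ζ⁻¹ := h
        rw [hi, show j = 2 by omega]
        exact key 2 (by simp [this]))) h6 fun ⟨a, b, c⟩ => by
          have : k = 2 := by
            have : k ∣ r - 1 := hi ▸ ZMod.orderOf_dvd_card_sub_one (card_ne_zero_zmod hr hF₀)
            rcases a with rfl | rfl
            · exact (Nat.prime_dvd_prime_iff_eq hp Nat.prime_two).1 this
            · exact (Nat.prime_dvd_prime_iff_eq hp Nat.prime_two).1 (hp.dvd_of_dvd_pow (n := 2) this)
          exact e ⟨this, b.symm, by omega, (hv this).2 ▸ c⟩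
    exact not_allE sc_rm h10 h11 (hn' ▸ h12) (fun h => h13 (h.tw fun _ => Rm.tw)) H
  · obtain ⟨l, hl⟩ := (hv a).1
    rw [fr_apply, ← pow_succ, hl, pow_mul, h11.pow_eq_one.1 h10 e he, one_pow]

section Three

variable {V : Type*} [AddCommGroup V] [Module F V] [FiniteDimensional F V] {x a c : End F V}

omit [Finite F]

theorem sc_of_det {H : End F V → Prop} (h : H a) {e : End F V} (he : e * a = x * e)
    (h1 : LinearMap.det e = 1) : SC H x := by
  obtain ⟨e, rfl⟩ := exists_equiv_of_isUnit (isUnit_of_det h1)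
  exact ⟨a, h, e, h1, LinearMap.congr_fun he⟩

theorem isSquare_det {m : ℕ} (h : HasED x (unipOf F (Multiset.replicate m 2))) (hc : c * x = x * c) :
    IsSquare (LinearMap.det c) := by
  have h1 : ∀ v, c ((x - 1) v) = (x - 1) (c v) := fun v => by
    simpa using LinearMap.congr_fun hc v
  have h2 : LinearMap.range (x - 1) = LinearMap.ker (x - 1) := by
    refine Submodule.eq_of_le_of_finrank_eq (LinearMap.range_le_ker_iff.2 ?_) ?_
    · exact (sq _).symm.trans ((pow_eq_zero_iff_le h 2).2 fun e he =>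
        (Multiset.eq_of_mem_replicate he).le)
    · have h3 := finrank_ker_of_hasED h 1
      have h4 := sum_of_unip h
      have := LinearMap.finrank_range_add_finrank_ker (x - 1)
      rw [pow_one] at h3
      simp [edCnt_unipOf] at h3 h4; omega
  have h3 : LinearMap.ker (x - 1) ≤ (LinearMap.ker (x - 1)).comap c := fun v hv => by
    rw [Submodule.mem_comap, LinearMap.mem_ker, ← h1, hv, map_zero]
  refine ⟨_, (c.det_eq_det_mul_det _ h3).trans (congrArg _ (Sim.det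
    ⟨(x - 1).quotKerEquivRange.trans (.ofEq _ _ h2), fun v => ?_⟩))⟩
  obtain ⟨v, rfl⟩ := Submodule.Quotient.mk_surjective _ v
  exact Subtype.ext (h1 v).symm

end Three

omit [Algebra F₀ F] [Finite F₀] in
theorem exists_GL_det [Nonempty ι] {a : F} (ha : a ≠ 0) : ∃ u : GL ι F, u.1.det = a := by
  obtain ⟨c, h1, -, h3⟩ := exists_comm_det_of_ss (V := ι → F) End.isSemisimple_id ha
  obtain ⟨u, -, h⟩ := exists_GL_of_end (A := 1) h1 (by simp [← End.one_eq_id])
  exact ⟨u, h.trans h3⟩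

theorem sub_three [CharP F 3] (hn : Fintype.card ι = n) (h0 : n ≠ 0) (hp : k.Prime)
    (hk : Nat.card F = Nat.card F₀ ^ k) :
    AllE D1 3 (SC (Rm F₀ (F := F) (ι := ι))) ↔ Odd n ∨ 2 < k := by
  have : Nonempty ι := Fintype.card_pos_iff.1 (by omega)
  have := (algebraMap F₀ F).charP (algebraMap F₀ F).injective 3
  have := Fact.mk Nat.prime_three
  have h2 : (2 : F) ≠ 0 := cast_ne_zero_of_ne (p := 3) Nat.prime_two (by decide)
  have h2' : (2 : F₀) ≠ 0 := cast_ne_zero_of_ne (p := 3) Nat.prime_two (by decide)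
  rw [allE_sc_char 3 sc_rm]
  refine ⟨fun H => by_contra fun h => ?_, fun h y hy => ?_⟩
  · obtain ⟨m, rfl⟩ : ∃ m, n = m * 2 := ⟨n / 2, by grind⟩
    obtain rfl : k = 2 := by have := hp.two_le; omega
    obtain ⟨a, ha⟩ := exists_unip (F := F₀) (V := ι → F₀) (t := Multiset.replicate m 2)
      (fun e he => by simp [Multiset.eq_of_mem_replicate he]) (by simp [hn])
    obtain ⟨A, rfl⟩ := Matrix.toLin'.surjective a
    have h3 := hasED_mp (F := F) ha
    obtain ⟨ν, hν⟩ := exists_not_isSquare h2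
    obtain ⟨d, h4⟩ := exists_GL_det (ι := ι) (a := ν) (by rintro rfl; simp at hν)
    have h5 := h3.of_sim (sim_conj (glEquiv ι F d) _).symm
    have h6 := pow_char_of_le 3 h5 fun e he => by simp [Multiset.eq_of_mem_replicate he]
    obtain ⟨a, h7, g, h8, h9⟩ := H _ h6
    obtain ⟨B, h10, rfl⟩ := h7.one (r := 3) (by
      simpa using sim_pow_scalar (r := 3) (z := 1) (Sim.symm ⟨g, h9⟩) (by simpa using h6))
      fun c hc => frobenius_inj F 3 (by simpa [frobenius_def])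
    have h11 := hasED_dg (nil_of_pow_char 3 (x := Matrix.toLin' B) (by
      rw [← Matrix.toLin'_pow, h10, Matrix.toLin'_one, End.one_eq_id]))
    rw [unipOf_injective ((hasED_mp h11).unique (h5.of_sim ⟨g, h9⟩))] at h11
    obtain ⟨u, hu⟩ := sim_toLin'_iff.1 (ha.sim h11)
    obtain ⟨b, hb⟩ := isSquare_det h3 (c := (glEquiv ι F d).symm.toLinearMap * (g.toLinearMap * mp F u.1)) (by
      rw [mul_assoc, mul_assoc, ← map_mul, hu, map_mul]
      exact LinearMap.ext fun v => by simp [h9, LinearEquiv.conj_apply, -glEquiv_apply])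
    obtain ⟨e, he⟩ := exists_root_map hk (io_eq_one_iff.1 (io_two h2')) u.1.det
    rw [map_mul, map_mul, h8, one_mul, det_mp, LinearEquiv.det_coe_symm, glEquiv_toLinearMap,
      LinearMap.det_toLin', h4, ← he] at hb
    have : b ≠ 0 := by
      rintro rfl
      have := u.det_ne_zero
      simp_all
    exact hν ⟨e / b, by field_simp [h4 ▸ d.det_ne_zero] at hb ⊢; linear_combination -hb⟩
  have h3 := hasED_dg (nil_of_pow_char 3 hy)
  have h4 := gc_unip (F₀ := F₀) (unip_of_hasED h3)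
  by_cases h5 : ∀ e ∈ dg y, e = 2
  swap
  · push Not at h5
    obtain ⟨e, h5, h6⟩ := h5
    refine (ds_of_unip h3 h5 fun a => ?_).sc_iff.2 h4
    have := pos_of_unip h3 e h5
    have := (unip_pow_iff 3 h3 1).1 (by simpa using hy) e h5
    obtain rfl | rfl : e = 1 ∨ e = 3 := by omega
    · exact ⟨a, pow_one a⟩
    · exact exists_char_root 3 a
  have h6 := sum_dg y
  rw [Multiset.eq_replicate_card.2 h5, Multiset.sum_replicate, finrank_fintype_fun_eq_card, hn,
    smul_eq_mul] at h6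
  obtain ⟨l, rfl⟩ := hp.odd_of_ne_two (by grind)
  obtain ⟨A, h7, e, he⟩ := h4.rm_one hy fun c hc => frobenius_inj F 3 (by simpa [frobenius_def])
  obtain ⟨β, hβ, b, hb⟩ : ∃ β : F₀, β ≠ 0 ∧
      IsSquare (LinearMap.det e.toLinearMap * algebraMap F₀ F β) := by
    by_cases h8 : IsSquare (LinearMap.det e.toLinearMap)
    · exact ⟨1, one_ne_zero, by simpa⟩
    obtain ⟨β, hβ⟩ := exists_not_isSquare h2'
    have h9 : β ≠ 0 := by rintro rfl; simp at hβ
    refine ⟨β, h9, isSquare_mul_of_not_isSquare h8 fun ⟨b, hb⟩ =>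
      hβ ⟨Algebra.norm F₀ b / β ^ l, ?_⟩⟩
    have := congrArg (Algebra.norm F₀) hb
    rw [Algebra.norm_algebraMap, Nat.pow_right_injective two_le_card
      (natCard_eq_pow_finrank.symm.trans hk), map_mul] at this
    field_simp; linear_combination this
  obtain ⟨u, rfl⟩ := exists_GL_det (ι := ι) hβ
  have h8 : b ≠ 0 := by
    rintro rfl
    have := (LinearEquiv.isUnit_det' e).ne_zero
    simp_all
  obtain ⟨c, -, h9, h10⟩ := h3.exists_comm_det_pow (x := (X - 1, 2)) (mem_unipOf.2 ⟨rfl,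
    Multiset.eq_replicate_card.2 h5 ▸ Multiset.mem_replicate.2 ⟨by omega, rfl⟩⟩) _ (inv_ne_zero h8)
  refine sc_of_det (a := mp F (u⁻¹.1 * A * u.1)) ⟨(((Units.isUnit _).mul
    (.of_pow_eq_one h7 three_ne_zero)).mul u.isUnit).map _, 1, one_ne_zero, _, (one_smul _ _).symm⟩
    (e := c * (e.toLinearMap * mp F u.1)) ?_ ?_
  · rw [mul_assoc, mul_assoc, ← map_mul, ← mul_assoc, ← mul_assoc u.1, ← mul_assoc u.1, u.mul_inv,
      one_mul, map_mul, ← mul_assoc y, ← h9]
    exact LinearMap.ext fun v => by simp [he]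
  · rw [map_mul, map_mul, h10, det_mp, hb, natDegree_X_sub_one', mul_one]
    show b⁻¹ ^ 2 * (b * b) = 1
    rw [← sq, ← mul_pow, inv_mul_cancel₀ h8, one_pow]

end Cfsg.Lib.Elu
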