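import Cfsg.Agent.Lib.Elu.Pp
import Cfsg.Agent.Lib.Elu.C5
import Cfsg.Agent.Lib.Max.C3G

/-!
Elements of prime order and extension field subgroups.
-/

set_option autoImplicit false

namespace Cfsg.Lib.Elu

open Module Cfsg.Lib.Forms Cfsg.Lib.Forms.Form Cfsg.Lib.Known Cfsg.Lib.Conj Polynomial

variable {F E V : Type*} [Field F] [Field E] [Algebra F E] [AddCommGroup V] [Module F V]
  [Module E V] [IsScalarTower F E V] {x y : End F V} {r n k d : ℕ} {c z : F} {τ : E ≃ₐ[F] E}

/-- Semilinear maps. -/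
def SL (τ : E ≃ₐ[F] E) (x : End F V) : Prop := ∀ (a : E) v, x (a • v) = τ a • x v

variable (E) in
/-- Invertible semilinear maps. -/
def NK (x : End F V) : Prop := IsUnit x ∧ ∃ τ : E ≃ₐ[F] E, SL τ x

theorem sc_nk : Sc (NK E (F := F) (V := V)) := fun x c hc ⟨h1, τ, h⟩ =>
  ⟨Algebra.smul_def c x ▸ (hc.isUnit.map _).mul h1, τ, fun a v => by simp [h a v, smul_comm c]⟩

theorem nk_res {y : End E V} (h : IsUnit y) : NK E (y.restrictScalars F) :=
  ⟨(End.isUnit_iff _).2 ((End.isUnit_iff y).1 h), 1, fun a v => map_smul y a v⟩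

theorem nk_one : NK E (1 : End F V) := nk_res (y := 1) isUnit_one

theorem res_pow (y : End E V) (r : ℕ) : y.restrictScalars F ^ r = (y ^ r).restrictScalars F :=
  LinearMap.ext fun v => by simp [End.pow_apply]

theorem eig_res (y : End E V) (c : F) :
    eig (y.restrictScalars F) c = (eig y (algebraMap F E c)).restrictScalars F := by
  ext v; simp [mem_eig]

theorem finrank_res (W : Submodule E V) :
    finrank F (W.restrictScalars F) = finrank F E * finrank E W := (finrank_mul_finrank F E W).symm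

theorem SL.res (h : SL (1 : E ≃ₐ[F] E) x) : ∃ y : End E V, x = y.restrictScalars F :=
  ⟨⟨x.toAddHom, h⟩, rfl⟩

theorem SL.pow (h : SL τ x) (k : ℕ) : SL (τ ^ k) (x ^ k) := by
  induction k with
  | zero => exact fun _ _ => rfl
  | succ k ih => intro a v; simp [pow_succ', h _ _, ih a v]

theorem SL.pow_eq_one [Nontrivial V] (h : SL τ x) (hz : z ≠ 0) (h1 : x ^ r = algebraMap F _ z) :
    τ ^ r = 1 := AlgEquiv.ext fun a => by
  obtain ⟨v, hv⟩ := exists_ne (0 : V)
  have := h.pow r a v
  rw [h1, algebraMap_end_apply, algebraMap_end_apply, smul_comm] at this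
  exact (smul_left_injective E (smul_ne_zero hz hv) this).symm

theorem inM_nk [FiniteDimensional F E] {ι : Type} [Fintype ι] [DecidableEq ι] [Nonempty ι]
    [Module E (ι → F)] [IsScalarTower F E (ι → F)] {M : Subgroup (GL ι F)}
    (h : M.comap (ofLin F ι) = nK F E _) : InM M = NK E := by
  ext y
  refine ⟨?_, fun ⟨h1, τ, h2⟩ => ?_⟩
  · rintro ⟨g, hg, rfl⟩
    obtain ⟨g, rfl⟩ : ∃ k, ofLin F ι k = g := (glEquiv ι F).symm.surjective g
    rw [toLin'_ofLin]
    choose t ht using (show g ∈ nK F E _ from h ▸ hg).1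
    obtain ⟨v, hv⟩ := exists_ne (0 : ι → F)
    have key : ∀ {a b : E}, a • g v = b • g v → a = b := fun h =>
      smul_left_injective E (g.map_ne_zero_iff.2 hv) h
    let φ : E →ₐ[F] E :=
      { toFun := t
        map_one' := key (by rw [← ht, one_smul, one_smul])
        map_mul' := fun a b => key (by rw [← ht, mul_smul, ht, ht, mul_smul])
        map_zero' := key (by rw [← ht]; simp)
        map_add' := fun a b => key (by rw [← ht]; simp [add_smul, ht])
        commutes' := fun c => key (by rw [← ht]; simp) }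
    exact ⟨(End.isUnit_iff _).2 g.bijective,
      AlgEquiv.ofBijective φ (Algebra.IsAlgebraic.algHom_bijective φ), ht⟩
  · obtain ⟨g, rfl⟩ := exists_equiv_of_isUnit h1
    exact ⟨ofLin F ι g, show g ∈ M.comap _ from h ▸ ⟨fun a => ⟨τ a, h2 a⟩,
      fun b => ⟨τ.symm b, fun v => by simpa using h2 (τ.symm b) v⟩⟩, toLin'_ofLin g⟩

/-- The semilinear map fixing a basis. -/
noncomputable def frob {ι : Type*} [Finite ι] (b : Basis ι E V) (τ : E ≃ₐ[F] E) : End F V where
  toFun v := b.equivFun.symm fun i => τ (b.equivFun v i)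
  map_add' u v := by rw [← map_add]; congr 1; ext; simp
  map_smul' c v := by
    rw [RingHom.id_apply, ← algebraMap_smul E c, ← algebraMap_smul E c, ← map_smul]
    congr 1; ext; simp [-algebraMap_smul]

section
variable {ι : Type*} [Fintype ι] (b : Basis ι E V)

theorem frob_repr (v : V) (i : ι) : b.equivFun (frob b τ v) i = τ (b.equivFun v i) :=
  congrFun (b.equivFun.apply_symm_apply _) i

theorem sl_frob : SL τ (frob b τ) := fun a v =>
  b.equivFun.injective (funext fun i => by simp only [frob_repr, map_smul, Pi.smul_apply,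
    smul_eq_mul, map_mul])

theorem frob_basis (i : ι) : frob b τ (b i) = b i :=
  b.equivFun.injective (funext fun j => by
    classical
    rw [frob_repr, b.equivFun_self]; simp [apply_ite τ])

theorem frob_pow (h : τ ^ r = 1) : frob b τ ^ r = 1 := by
  obtain ⟨y, hy⟩ := (h ▸ (sl_frob b).pow r : SL 1 _).res
  have : y = 1 := b.ext fun i => (LinearMap.congr_fun hy _).symm.trans
    (by simpa using pow_apply_of_eig (x := frob b τ) (b i) (w := 1) (by simp [frob_basis]) r)
  rw [hy, this]; rfl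

theorem frob_B {σ : E →+* E} {K : Kind σ} (D : Form K V) (hσ : ∀ a, σ (τ a) = τ (σ a)) {l : E}
    (h : ∀ i j, D.B (b i) (b j) = l * τ (D.B (b i) (b j))) (u v : V) :
    D.B (frob b τ u) (frob b τ v) = l * τ (D.B u v) := by
  rw [← b.sum_equivFun (frob b τ u), ← b.sum_equivFun (frob b τ v)]
  conv_rhs => rw [← b.sum_equivFun u, ← b.sum_equivFun v]
  simp only [frob_repr, map_sum, LinearMap.sum_apply, map_smul, LinearMap.map_smulₛₗ₂, smul_eq_mul,
    Finset.mul_sum, map_mul, hσ]
  exact Finset.sum_congr rfl fun i _ => Finset.sum_congr rfl fun j _ => by rw [h]; ring_nf; rw [← h]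

end

section Tr
variable {σ : E →+* E} {K' : Kind σ} {K : Kind (RingHom.id F)} {D : Form K V} {D' : Form K' V}
  {μ : E →ₗ[F] F} (hμ : μ ≠ 0) (hB : ∀ u v, D.B u v = μ (D'.B u v))
include hB

include hμ in
theorem iso_up {y : End E V} (h : IsIsometry D D (y.restrictScalars F)) (u v : V) :
    D'.B (y u) (y v) = D'.B u v := sub_eq_zero.1 (eq_zero_of_comp hμ fun a => by
  simpa [hB, mul_sub, sub_eq_zero] using h.B_map u (a • v))

theorem nondeg_up {W : Submodule E V} (h : (D.restrict (W.restrictScalars F)).Nondeg) :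
    (D'.restrict W).Nondeg := fun x hx => h x fun y =>
  (hB _ _).trans ((congrArg μ (hx y)).trans (map_zero μ))

end Tr

theorem prod_mul_split (f : ℕ → ℕ) (hk : 0 < k) (m : ℕ) : ∏ i ∈ Finset.range (k * m), f (i + 1) =
    (∏ i ∈ Finset.range m, f (k * (i + 1))) *
      ∏ i ∈ Finset.range (k * m), if k ∣ i + 1 then 1 else f (i + 1) := by
  have : ∏ i ∈ Finset.range m, f (k * (i + 1)) =
      ∏ i ∈ Finset.range (k * m), if k ∣ i + 1 then f (i + 1) else 1 := by
    induction m with
    | zero => simp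
    | succ m ih =>
      rw [Finset.prod_range_succ, mul_add k m, Finset.prod_range_add, ih, mul_one]
      congr 1
      rw [Finset.prod_eq_single (k - 1) (fun i h1 h2 => if_neg fun h => ?_) (by simp; omega),
        show k * m + (k - 1) + 1 = k * m + k by omega, if_pos (by simp)]
      rw [add_assoc, Nat.dvd_add_right (by simp)] at h
      have := Nat.le_of_dvd (by omega) h
      simp at h1; omega
  rw [this, ← Finset.prod_mul_distrib]
  exact Finset.prod_congr rfl fun i _ => by split_ifs <;> simp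

section IC
variable {σ : F →+* F} {K : Kind σ} {H : End F V → Prop}

/-- `x` is conjugate to a member of `H` by an isometry. -/
def IC (D : Form K V) (H : End F V → Prop) (x : End F V) : Prop := ∃ h, H h ∧ IsoC D h D x

theorem IC.gc {D : Form K V} (h : IC D H x) : GC H x := let ⟨a, h1, h2⟩ := h; ⟨a, h1, h2.sim⟩

variable {ι : Type} [Fintype ι] [DecidableEq ι] {D : Form K (ι → F)} {M G : Subgroup (GL ι F)}
  {H : End F (ι → F) → Prop}

theorem mem_comap_toGL (hH : InM M = H) {g : D.isom} : g ∈ M.comap (toGL D) ↔ H (nat D g) := by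
  subst hH
  refine ⟨fun h => ⟨_, h, toLin'_toGL g⟩, fun ⟨k, h1, h2⟩ => ?_⟩
  rwa [Subgroup.mem_comap, ← Units.ext (Matrix.toLin'.injective (h2.trans (toLin'_toGL g).symm))]

theorem ic_iff [Nonempty ι] (hD : D.Nondeg) (hG : G = (⊤ : Subgroup D.isom).map (toGL D))
    (hH : InM M = H) (h0 : Sc H) :
    (∀ x ∈ G, (∃ z : F, ((x ^ r : GL ι F) : Matrix ι ι F) = z • (1 : Matrix ι ι F)) →
      (∀ z : F, (x : Matrix ι ι F) ≠ z • (1 : Matrix ι ι F)) → ∃ g ∈ G, g⁻¹ * x * g ∈ M) ↔
      AllE (fun x => IsIsometry D D x) r (IC D H) := by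
  refine isoc_iff hG (top_iff hD) (fun x _ c e => ⟨_, ?_, .refl _ _⟩) fun x _ => ⟨fun ⟨g, _, h⟩ =>
    ⟨_, (mem_comap_toGL hH).1 h, isConj_iff_isoC.1 (isConj_iff.2 ⟨g, by group⟩)⟩,
    fun ⟨h, h1, h2⟩ => ?_⟩
  · rw [e, Algebra.algebraMap_eq_smul_one]
    refine h0 _ c ?_ ((mem_comap_toGL hH).1 (one_mem (M.comap (toGL D))))
    rintro rfl
    exact ((Group.isUnit x).map (nat D)).ne_zero (e.trans (map_zero _))
  · obtain ⟨h, rfl⟩ := exists_nat hD (h2.symm.isIsometry (isIsometry_nat x))
    obtain ⟨g, rfl⟩ := isConj_iff.1 (isConj_iff_isoC.2 h2)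
    exact ⟨g, trivial, by simpa [mul_assoc] using (mem_comap_toGL hH).2 h1⟩

end IC

variable [FiniteDimensional F V]

theorem SL.two_mul_le (h : SL τ x) (h1 : τ ≠ 1) (hc : c ≠ 0) :
    2 * finrank F (eig x c) ≤ finrank F V := by
  obtain ⟨a, ha⟩ := not_forall.1 (mt AlgEquiv.ext h1)
  have h0 : a ≠ 0 := by rintro rfl; simp at ha
  let f : V →ₗ[F] V := (LinearMap.lsmul E V a).restrictScalars F
  have h2 : Disjoint (eig x c) ((eig x c).map f) := Submodule.disjoint_def.2 fun v hv hw => by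
    obtain ⟨w, hw, rfl⟩ := hw
    have h3 : x (a • w) = c • a • w := mem_eig.1 hv
    rw [h, mem_eig.1 hw, smul_comm c] at h3
    by_contra h4
    exact ha (smul_left_injective E (smul_ne_zero hc (by rintro rfl; simp at h4)) h3)
  have h3 := Submodule.finrank_add_finrank_le_of_disjoint h2
  rw [← (Submodule.equivMapOfInjective f (smul_right_injective V h0) _).finrank_eq] at h3
  omega

theorem nk_of_eig (hc : c ≠ 0) (h : finrank F V ≤ finrank F (eig y c)) : NK E y := by
  have := Submodule.eq_top_of_finrank_eq (le_antisymm (eig y c).finrank_le h)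
  rw [show y = c • 1 from LinearMap.ext fun v => mem_eig.1 (this ▸ Submodule.mem_top)]
  exact sc_nk _ _ hc nk_one

theorem not_gc_nk (hc : c ≠ 0) (h1 : finrank F V < 2 * finrank F (eig y c))
    (h2 : ¬ finrank F E ∣ finrank F (eig y c)) : ¬ GC (NK E) y := by
  rintro ⟨x, ⟨-, τ, h⟩, e⟩
  rw [← finrank_eig_sim e] at h1 h2
  by_cases h3 : τ = 1
  · obtain ⟨y, rfl⟩ := (h3 ▸ h).res
    exact h2 ⟨_, by rw [eig_res, finrank_res]⟩
  · exact (h.two_mul_le h3 hc).not_gt h1

theorem exists_tau [Finite E] (hk : 1 < finrank F E) :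
    ∃ τ : E ≃ₐ[F] E, τ ≠ 1 ∧ τ ^ finrank F E = 1 := by
  have : Finite F := .of_injective _ (algebraMap F E).injective
  have h := IsGalois.card_aut_eq_finrank F E
  have := Finite.one_lt_card_iff_nontrivial.1 (h ▸ hk)
  obtain ⟨τ, hτ⟩ := exists_ne (1 : E ≃ₐ[F] E)
  exact ⟨τ, hτ, h ▸ pow_card_eq_one'⟩

theorem exists_frob [Finite E] [FiniteDimensional E V] (hk : finrank F E = k) (h : 1 < k) :
    ∃ φ : End F V, NK E φ ∧ φ ^ k = 1 ∧ ∀ c ≠ 0, 2 * finrank F (eig φ c) ≤ finrank F V := by
  subst hk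
  obtain ⟨τ, h1, h2⟩ := exists_tau h
  have h3 := frob_pow (finBasis E V) h2
  exact ⟨_, ⟨.of_pow_eq_one h3 (by omega), τ, sl_frob _⟩, h3, fun c => (sl_frob _).two_mul_le h1⟩

section
omit [Module E V] [IsScalarTower F E V] [Algebra F E]

theorem tv_props (p : ℕ) [Fact p.Prime] [CharP F p] {φ : Dual F V} {u : V} (h : φ u = 0)
    (h1 : φ ≠ 0) (h2 : u ≠ 0) (hy : ∀ v, y v = v + φ v • u) :
    y ^ p = 1 ∧ finrank F (eig y 1) + 1 = finrank F V := by
  refine ⟨?_, ?_⟩
  · rw [← pow_one p, pow_char_pow_iff, pow_one]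
    exact pow_eq_zero_of_le (Fact.out : p.Prime).two_le (LinearMap.ext fun v => by simp [sq, hy, h])
  · rw [show eig y 1 = LinearMap.ker φ by ext; simp [mem_eig, hy, h2]]
    exact Module.Dual.finrank_ker_add_one_of_ne_zero h1

theorem exists_tv (p : ℕ) [Fact p.Prime] [CharP F p] (h : 2 ≤ finrank F V) :
    ∃ y : End F V, y ^ p = 1 ∧ finrank F (eig y 1) + 1 = finrank F V :=
  let b := finBasis F V
  ⟨1 + (b.coord ⟨0, by omega⟩).smulRight (b ⟨1, h⟩), tv_props p (by simp)
    (fun e => by simpa using LinearMap.congr_fun e (b ⟨0, by omega⟩)) (b.ne_zero _) fun _ => rfl⟩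

theorem alt_tv (p : ℕ) [Fact p.Prime] [CharP F p] [Nontrivial V] {D : Form (altKind F) V}
    (hD : D.Nondeg) :
    ∃ y : End F V, IsIsometry D D y ∧ y ^ p = 1 ∧ finrank F (eig y 1) + 1 = finrank F V := by
  obtain ⟨u, hu⟩ := exists_ne (0 : V)
  exact ⟨_, isIsometry_nat (Symp.tv D u 1), tv_props p (φ := D.B u) (Symp.B_self D u)
    (fun e => hu (hD u fun v => by simp [e])) hu fun v => by simp [nat_apply, Symp.tv_apply]⟩

theorem det_of_sq [Finite F] (h2 : (2 : F) ≠ 0) (hy : y ^ 2 = 1) :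
    LinearMap.det y = (-1) ^ finrank F (eig y (-1)) := by
  classical
  obtain ⟨s, hs⟩ := exists_dg_of_pow Nat.prime_two h2 (io_two h2) hy
  rw [hs.det, hs.eig, Multiset.prod_eq_pow_single _ fun a h1 h3 =>
    (sq_eq_one_iff.1 (hs.pow_eq_one.1 hy a h3)).resolve_right h1]

theorem eig_add_le (h2 : (2 : F) ≠ 0) :
    finrank F (eig x 1) + finrank F (eig x (-1)) ≤ finrank F V :=
  Submodule.finrank_add_finrank_le_of_disjoint (Submodule.disjoint_def.2 fun v h1 h3 =>
    (smul_eq_zero_iff_right h2).1 (by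
      linear_combination (norm := module) mem_eig.1 h3 - mem_eig.1 h1))

theorem finrank_eig_pm {σ : F →+* F} {K : Kind σ} {D : Form K V} {U U' : Submodule F V}
    (h2 : (2 : F) ≠ 0) (h : D.IsOrthCompl U U') :
    finrank F (eig (pm h) 1) = finrank F U ∧ finrank F (eig (pm h) (-1)) = finrank F U' := by
  have := Submodule.finrank_mono (show U ≤ eig (pm h) 1 from
    fun v hv => by simp [mem_eig, pm_left _ hv])
  have := Submodule.finrank_mono (show U' ≤ eig (pm h) (-1) from
    fun v hv => by simp [mem_eig, pm_right _ hv])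
  have := eig_add_le (x := pm h) h2
  have := Submodule.finrank_add_eq_of_isCompl h.compl
  omega

theorem le_eig_add (hy : y ^ 2 = 1) :
    finrank F V ≤ finrank F (eig y 1) + finrank F (eig y (-1)) := by
  have := Submodule.finrank_mono (rng_le_eig (x := y) (w := 1) (by simpa using hy))
  have := finrank_eig_add_rng y 1
  omega

end

variable [Finite E] [Finite F] [FiniteDimensional E V]

theorem exists_res_sq (h2 : (2 : F) ≠ 0) {a : ℕ} (h : a ≤ finrank E V) : ∃ x : End E V,
    x ^ 2 = 1 ∧ finrank F (eig (x.restrictScalars F) (-1)) = finrank F E * a := by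
  classical
  obtain ⟨x, hx⟩ := exists_dgm (F := E) (V := V)
    (s := Multiset.replicate a (-1) + Multiset.replicate (finrank E V - a) 1) (by simp; omega)
  have : (1 : E) ≠ -1 := fun e => h2 ((algebraMap F E).injective (by
    rw [map_ofNat, map_zero]; linear_combination e))
  exact ⟨x, hx.pow_eq_one.2 (by simp +contextual [Multiset.mem_replicate, or_imp]),
    by rw [eig_res, finrank_res, hx.eig]; simp [Multiset.count_replicate, this]⟩

theorem lin_nk_two (hk : finrank F E = 2) (hn : finrank F V = n) (h0 : 2 ≤ n) :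
    AllE D1 2 (SC (NK E (F := F) (V := V))) ↔
      n = 2 ∨ Odd (Nat.card F) ∧ padicValNat 2 (Nat.card F - 1) ≤ padicValNat 2 n := by
  have := nontrivial_of_finrank_pos (hn ▸ (by omega : 0 < n))
  have h1 := hk ▸ finrank_mul_finrank F E V
  obtain ⟨φ, h3, h4, h5⟩ := exists_frob (V := V) hk one_lt_two
  have h6 := h5 1 one_ne_zero
  have h7 := finrank_eig_add_rng φ 1
  rw [odd_card_iff]
  by_cases h2 : (2 : F) = 0
  · have := CharTwo.of_one_ne_zero_of_two_eq_zero one_ne_zero h2
    simp only [allE_sc_two sc_nk, h2, ne_eq, not_true, false_and, or_false]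
    refine ⟨fun H => by_contra fun e => ?_, fun e y hy => ?_⟩
    · obtain ⟨y, h8, h9⟩ := exists_tv (F := F) (V := V) 2 (by omega)
      exact not_gc_nk one_ne_zero (by omega) (by rw [hk]; omega) (H y h8)
    by_cases h8 : rk y = 0
    · exact rk_eq_zero h8 ▸ .of nk_one
    have key : ∀ y : End F V, y ^ 2 = 1 → rk y ≤ 1 := fun y hy => by
      have := Submodule.finrank_mono (rng_le_eig (x := y) (w := 1) (by simpa using hy))
      rw [CharTwo.neg_eq] at this
      have := finrank_eig_add_rng y 1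
      unfold rk; omega
    have := key y hy
    have := key φ h4
    exact ⟨φ, h3, sim_of_rk h4 hy rfl (by unfold rk at *; omega)⟩
  have key : ∀ y : End F V, y ^ 2 = 1 → Even (finrank F (eig y (-1))) → GC (NK E) y :=
    fun y hy ⟨a, ha⟩ => by
      have := Submodule.finrank_le (eig y (-1))
      obtain ⟨x, h8, h9⟩ := exists_res_sq (E := E) (V := V) h2 (a := a) (by omega)
      exact ⟨_, nk_res (isUnit_of_pow Nat.prime_two h8),
        sim_of_sq h2 (by rw [res_pow, h8]; rfl) hy rfl (by rw [h9, hk]; omega)⟩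
  simp only [h2, ne_eq, not_false_iff, true_and]
  refine ⟨fun H => by_contra fun e => not_allE_refl h2 hn (by omega) (by omega) sc_nk
    (fun x h8 _ _ h9 => not_gc_nk one_ne_zero (by omega) (by rw [hk]; omega) (.of h8)) H, fun H =>
    (allE_sc Nat.prime_two h2 sc_nk hn).2 ⟨fun y hy w h8 h9 => ?_, fun x z hz hx _ => ?_⟩⟩
  · obtain e | e := H
    · have := Submodule.finrank_le (eig y (-1))
      by_cases e' : finrank F (eig y (-1)) = 1
      · have := le_eig_add h4
        have := h5 (-1) (by simp)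
        exact ⟨φ, h3, sim_of_sq h2 h4 hy rfl (by omega)⟩
      · exact key y hy (by grind)
    · refine key y hy ((neg_one_pow_eq_one_iff_even fun e => h2 (by linear_combination -e)).1 ?_)
      rw [← det_of_sq h2 hy, det_eq_one_of_sq h2 (by omega) e hy h8 h9]
  · obtain ⟨s, hs⟩ := exists_root_map (F := E) (r := 2) (hk ▸ Module.natCard_eq_pow_finrank)
      (io_eq_one_iff.1 (io_two h2)) z
    have : s ≠ 0 := by
      rintro rfl
      exact hz 0 ((algebraMap F E).injective (by simpa using hs))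
    exact ⟨_, nk_res (this.isUnit.map (algebraMap E (End E V))), sim_nonpow Nat.prime_two hz
      (by rw [res_pow, ← map_pow, hs]; exact LinearMap.ext fun v => by simp) hx rfl⟩

theorem lin_nk_max (hk : finrank F E = r) (hn : finrank F V = r) (hr : r.Prime) (h2 : r ≠ 2)
    (hF : (r : F) ≠ 0) (hi : io r F = r - 1) : AllE D1 r (SC (NK E (F := F) (V := V))) := by
  have h0 := hr.two_le
  have := nontrivial_of_finrank_pos (hn ▸ hr.pos)
  obtain ⟨φ, h3, h4, h5⟩ := exists_frob (V := V) hk hr.one_lt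
  have h6 := h5 1 one_ne_zero
  have h7 := finrank_eig_add_rng φ 1
  have key : ∀ y : End F V, y ^ r = 1 → rk y ≠ 0 → rk y = r - 1 := fun y hy h => by
    have h8 := io_mul_le hr hF hy
    rw [rk_of_pow hr hF hy, hi] at *
    obtain ⟨m, rfl⟩ : ∃ m, r = m + 3 := ⟨r - 3, by omega⟩
    have : (fac y).card = 1 := by
      by_contra e
      have : 2 ≤ (fac y).card := by
        rcases Nat.lt_or_ge (fac y).card 2 with h9 | h9
        · interval_cases (fac y).card <;> simp_all
        · exact h9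
      simp only [Nat.add_one_sub_one] at h8; nlinarith
    rw [this, mul_one]
  refine (allE_sc hr hF sc_nk hn).2 ⟨fun y hy _ _ _ => ?_, fun x z hz hx h1 => ?_⟩
  · by_cases h8 : rk y = 0
    · exact rk_eq_zero h8 ▸ .of nk_one
    exact ⟨φ, h3, sim_of_rk' hr hF hi h4 hy rfl
      ((key φ h4 (by unfold rk; omega)).trans (key y hy h8).symm)⟩
  · have := ((np_iff hr hF hr.ne_zero).1 ((np_iff_exists hr hn).2 ⟨x, z, hz, hx, h1⟩)).1
    omega

theorem lin_nk_prime (hk : finrank F E = r) (hn : finrank F V = r) (hr : r.Prime) (h3 : 3 < r)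
    (hF : (r : F) ≠ 0) : AllE D1 r (SC (NK E (F := F) (V := V))) ↔ io r F = r - 1 := by
  classical
  refine ⟨fun H => by_contra fun e => ?_, lin_nk_max hk hn hr (by omega) hF⟩
  have h4 : r ≠ 4 := by rintro rfl; norm_num at hr
  have key : ∀ y : End F V, y ^ r = 1 → LinearMap.det y = 1 → r < 2 * finrank F (eig y 1) →
      finrank F (eig y 1) < r → False := fun y h1 h2 h5 h6 =>
    not_allE sc_nk h1 one_ne_zero (by simpa) (not_gc_nk one_ne_zero (by omega) fun h =>
      (Nat.le_of_dvd (by omega) h).not_gt (by omega)) H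
  by_cases hi : io r F = 1
  · obtain ⟨ζ, hζ⟩ := exists_primRoot (io_eq_one_iff.1 hi)
    obtain ⟨y, hy⟩ := exists_dgm (V := V) (s := ζ ::ₘ ζ⁻¹ ::ₘ Multiset.replicate (r - 2) 1)
      (by simp; omega)
    have h5 := (hζ.ne_one hr.one_lt).symm
    have h6 : finrank F (eig y 1) = r - 2 := by simp [hy.eig, h5, eq_comm (a := (1 : F)), h5.symm]
    exact key y (hy.pow_eq_one.2 (by simp +contextual [hζ.pow_eq_one, Multiset.mem_replicate]))
      (by simp [hy.det, hζ.ne_zero hr.ne_zero]) (by omega) (by omega)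
  have h0 := io_pos hr hF
  have h5 := card_Phi hr hF
  have h6 : 2 * io r F ≤ r - 1 := by
    rw [← h5] at e ⊢
    refine Nat.mul_le_mul_right _ ?_
    have := card_Phi_ne_zero hr hF
    by_contra h; exact e (by rw [show (Phi r F).card = 1 by omega, one_mul])
  obtain ⟨y, h7, h8⟩ := exists_pow_card (V := V) (a := 1) hr hF (by omega)
  have h9 := finrank_eig_add hr hF h7
  rw [h8] at h9
  exact key y h7 (det_eq_one_of_io hr hi h7) (by omega) (by omega)

omit [Finite E] [Finite F] [FiniteDimensional E V] [FiniteDimensional F V] [Algebra F E] in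
theorem three_parts [DecidableEq F] {ζ : F} (hζ : IsPrimitiveRoot ζ 3) {s : Multiset F}
    (h : ∀ a ∈ s, a ^ 3 = 1) : s = Multiset.replicate (s.count 1) 1 +
      Multiset.replicate (s.count ζ) ζ + Multiset.replicate (s.count ζ⁻¹) ζ⁻¹ := by
  have h1 := hζ.ne_one (by decide)
  have h2 := hζ.inv.ne_one (by decide)
  have h0 := hζ.ne_zero (by decide)
  have h3 : ζ⁻¹ = ζ ^ 2 := inv_eq_of_mul_eq_one_right (by rw [← pow_succ', hζ.pow_eq_one])
  have h4 : ζ⁻¹ ≠ ζ := fun e => h1 (by
    rw [h3, sq] at e; exact mul_left_cancel₀ h0 (e.trans (mul_one ζ).symm))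
  ext a
  simp only [Multiset.count_add, Multiset.count_replicate]
  by_cases ha : a ∈ s
  · obtain ⟨j, h5, rfl⟩ := hζ.eq_pow_of_pow_eq_one (h a ha)
    interval_cases j <;> simp [← h3, h1, h2, h4, h1.symm, h2.symm, h4.symm]
  · have := Multiset.count_eq_zero.2 ha
    split_ifs <;> simp_all

theorem lin_nk_three (p : ℕ) [Fact p.Prime] [CharP F p] (hk : finrank F E = 3)
    (hn : finrank F V = 3) (hΩ : Nat.card F % 3 = 2 → Nat.card F % 9 = 8) :
    AllE D1 3 (SC (NK E (F := F) (V := V))) ↔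
      Nat.card F % 9 = 4 ∨ Nat.card F % 9 = 7 ∨ Nat.card F % 9 = 8 := by
  classical
  have := nontrivial_of_finrank_pos (hn ▸ three_pos)
  have key : ∀ y : End F V, finrank F (eig y 1) = 2 → ¬ GC (NK E) y := fun y h =>
    not_gc_nk one_ne_zero (by omega) (by rw [hk]; omega)
  have h0 := two_le_card (F := F)
  by_cases hp : 3 = p
  · subst hp
    obtain ⟨y, h1, h2⟩ := exists_tv (F := F) (V := V) 3 (by omega)
    have := char_dvd_card (F := F) 3
    exact iff_of_false (fun H => key y (by omega) ((allE_sc_char 3 sc_nk).1 H y h1).gc) (by omega)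
  have hF := cast_ne_zero_of_ne (F := F) Nat.prime_three hp
  by_cases hi : io 3 F = 1
  swap
  · have h1 := io_le_pred Nat.prime_three hF
    have h2 := io_pos Nat.prime_three hF
    have h3 := (ZMod.natCast_eq_zero_iff _ _).not.1 (card_ne_zero_zmod Nat.prime_three hF)
    rw [io_eq_one_iff] at hi
    exact iff_of_true (lin_nk_max hk hn Nat.prime_three (by decide) hF (by
      rw [← io_eq_one_iff] at hi; omega)) (by omega)
  rw [io_eq_one_iff] at hi
  obtain ⟨ζ, hζ⟩ := exists_primRoot hi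
  have h1 := one_le_padicValNat_of_dvd (by omega) hi
  have h2 := padicValNat_dvd_iff_le (p := 3) (a := Nat.card F - 1) (n := 2) (by omega)
  have h3 := (hζ.ne_one (by decide)).symm
  refine ⟨fun H => by_contra fun e => ?_, fun e => allE_exc (.inl rfl) hn (by omega) sc_nk
    fun y s h4 h5 h6 => ?_⟩
  · obtain ⟨w, hw⟩ := exists_pow_eq_root Nat.prime_three three_ne_zero
      (by rw [padicValNat_self]; omega) hζ.inv.pow_eq_one
    obtain ⟨y, hy⟩ := exists_dgm (V := V) (s := {ζ, 1, 1}) (by simp [hn])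
    have h4 := hζ.ne_zero three_ne_zero
    exact not_allE sc_nk (hy.pow_eq_one.2 (by simp [hζ.pow_eq_one])) (w := w)
      (by rintro rfl; simp [h4.symm] at hw) (by simp [hy.det, hn, hw, h4])
      (key y (by simp [hy.eig, h3])) H
  obtain ⟨φ, h7, h8, h9⟩ := exists_frob (V := V) hk (by decide)
  obtain ⟨t, ht⟩ := exists_dg_of_pow Nat.prime_three hF (io_eq_one_iff.2 hi) h8
  have e1 := three_parts hζ (h5.pow_eq_one.1 h4)
  have e2 := three_parts hζ (ht.pow_eq_one.1 h8)
  have e3 := congrArg Multiset.card e1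
  have e4 := congrArg Multiset.card e2
  have e5 : s.count ζ⁻¹ = s.count ζ := by
    nth_rw 1 [← h6]; exact Multiset.count_map_eq_count' _ _ inv_injective ζ
  have e6 := h9 1 one_ne_zero
  have e7 := h9 ζ (hζ.ne_zero three_ne_zero)
  have e8 := h9 _ (hζ.inv.ne_zero three_ne_zero)
  simp only [ht.eig, Multiset.card_add, Multiset.card_replicate, h5.card, ht.card] at *
  by_cases e9 : s.count ζ = 0
  · rw [← pow_one y, h5.pow_eq_one.2 (by rw [e1, e5, e9]; simp +contextual [Multiset.mem_replicate])]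
    exact .of nk_one
  refine ⟨φ, h7, ht.sim ?_⟩
  rwa [e2, show t.count 1 = s.count 1 by omega, show t.count ζ = s.count ζ by omega,
    show t.count ζ⁻¹ = s.count ζ⁻¹ by omega, ← e1]

omit [FiniteDimensional F V] [Finite F] [FiniteDimensional E V] in
theorem SL.eq_one [Nontrivial V] (h : SL τ x) (h1 : x ^ r = 1) (hr : r.Coprime (finrank F E)) :
    τ = 1 := by
  have : Finite F := .of_injective _ (algebraMap F E).injective
  exact pow_eq_one_iff_of_coprime hr |>.1 ⟨h.pow_eq_one one_ne_zero (by simpa),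
    IsGalois.card_aut_eq_finrank F E ▸ pow_card_eq_one'⟩

omit [Finite E] [Finite F] [FiniteDimensional E V] [Algebra F E] in
theorem rk_sim (h : Sim x y) : rk x = rk y := by
  have := finrank_eig_add_rng x 1
  have := finrank_eig_add_rng y 1
  have := finrank_eig_sim h 1
  unfold rk; omega

omit [Finite E] [Finite F] in
theorem rk_res (x : End E V) : rk (x.restrictScalars F) = finrank F E * rk x := by
  rw [rk, rk, ← finrank_res, ← map_one (algebraMap F E), show rng (x.restrictScalars F) 1 =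
    (rng x (algebraMap F E 1)).restrictScalars F by ext; simp [mem_rng]]

omit [Finite F] in
theorem not_res_min {σ : E →+* E} {K : Kind σ} {D : Form K V} {x : End E V} (hD : D.Nondeg)
    (hx : IsIsometry D D x) (hr : r.Prime) (hE : (r : E) ≠ 0) (h : x.restrictScalars F ^ r = 1)
    (H : ∀ g ∈ Phi r E, pd σ g ≠ g) : rk (x.restrictScalars F) ≠ finrank F E * io r E := fun e => by
  have h1 : x ^ r = 1 := LinearMap.ext fun v => LinearMap.congr_fun ((res_pow x r).symm.trans h) v
  have := Module.Finite.of_finite (R := F) (M := E)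
  rw [rk_res, rk_of_pow hr hE h1, mul_right_inj' finrank_pos.ne', mul_eq_left₀ (io_pos hr hE).ne',
    Multiset.card_eq_one] at e
  obtain ⟨g, hg⟩ := e
  exact H g (fac_mem_Phi hr hE h1 g (by simp [hg])) (by simpa [hg] using map_pd_fac hD hx (ss_of_pow' hE h1))

omit [Finite F] in
theorem tr_ne_zero : Algebra.trace F E ≠ 0 :=
  have : Finite F := .of_injective _ (algebraMap F E).injective
  Algebra.trace_ne_zero F E

omit [FiniteDimensional F V] [FiniteDimensional E V] in
theorem exists_alt_tr {D : Form (altKind F) V} (hD : D.Nondeg)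
    (hσ : ∀ (a : E) u v, D.B (a • u) v = D.B u (a • v)) (ha : ∀ (a : E) u, D.B (a • u) u = 0) :
    ∃ D' : Form (altKind E) V, D'.Nondeg ∧ ∀ x y, D.B x y = Algebra.trace F E (D'.B x y) := by
  obtain ⟨β, hβ⟩ := exists_lift tr_ne_zero D.B (RingHom.id E) hσ
  exact ⟨ofAlt β fun x => eq_zero_of_comp tr_ne_zero fun c => by
      rw [← smul_eq_mul, ← map_smul, ← hβ, ← hσ, ha],
    fun x hx => hD x fun y => by rw [hβ, show β x y = 0 from hx y, map_zero], hβ⟩

omit [Finite F] in
theorem exists_mu {σ : E →+* E} (h : IsConj σ (Nat.card F)) :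
    ∃ μ : E →ₗ[F] F, μ ≠ 0 ∧ ∀ a, μ (σ a) = -μ a := by
  obtain ⟨θ, h0, hθ⟩ := h.exists_trace_zero
  let τ : E ≃ₐ[F] E := .ofBijective { σ with commutes' := h.map_algebraMap rfl }
    (Function.Involutive.bijective h.σσ)
  refine ⟨Algebra.trace F E ∘ₗ LinearMap.mul F E θ, fun e => h0 (eq_zero_of_comp tr_ne_zero fun a =>
    by simpa [mul_comm] using LinearMap.congr_fun e a), fun a => ?_⟩
  change Algebra.trace F E (θ * σ a) = -Algebra.trace F E (θ * a)
  rw [← map_neg, ← Algebra.trace_eq_of_algEquiv τ (-_)]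
  congr 1
  change _ = σ _
  rw [map_neg, map_mul]; linear_combination σ a * hθ

section Alt
variable {D : Form (altKind F) V}

omit [Finite E] [FiniteDimensional E V] [Algebra F E] in
theorem alt_min (hD : D.Nondeg) (hr : r.Prime) (h2 : r ≠ 2) (hF : (r : F) ≠ 0) {c : ℕ}
    (hc : c = if Even (io r F) then io r F else 2 * io r F) (h : c ≤ finrank F V) :
    ∃ y : End F V, IsIsometry D D y ∧ y ^ r = 1 ∧ rk y = c := by
  obtain ⟨M, h6, h7, h8⟩ := (prof_of (σ := RingHom.id F) (fun _ => rfl) hr hF _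
    fun _ => pd_id_iff hr h2 hF).nd_ex 1
  have h4 : io r F * M.card = c := by rw [hc, h8]; split_ifs <;> ring
  obtain ⟨g, h9, h10⟩ := (alt_real_iff hD hr h2 hF h6).1 ⟨h7, h4 ▸ h⟩
  exact ⟨_, isIsometry_nat g, h9, by rw [rk_of_pow hr hF h9, h10, h4]⟩

omit [Finite E] [Finite F] [FiniteDimensional E V] in
theorem not_ic_tv (p : ℕ) [Fact p.Prime] [CharP F p] (hD : D.Nondeg) (hk : 1 < finrank F E)
    (hn : 2 < finrank F V) : ¬ AllE (fun x => IsIsometry D D x) p (IC D (NK E)) := fun H => by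
  have := nontrivial_of_finrank_pos (R := F) (M := V) (by omega)
  obtain ⟨y, h1, h2, h3⟩ := alt_tv p hD
  refine not_gc_nk one_ne_zero (by omega) (fun h => ?_) (H y h1 ⟨1, by simpa⟩).gc
  have := (Nat.dvd_add_right h).1 ⟨_, h3.trans (finrank_mul_finrank F E V).symm⟩
  rw [Nat.dvd_one] at this; omega

variable {μ : E →ₗ[F] F}

theorem sp_sp (p : ℕ) [Fact p.Prime] [CharP F p] {D' : Form (altKind E) V} (hD : D.Nondeg)
    (hD' : D'.Nondeg) (hB : ∀ u v, D.B u v = Algebra.trace F E (D'.B u v)) (hk : finrank F E = k)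
    (hp : k.Prime) (hn : finrank F V = 2 * d) (hd : 2 ≤ d) (hr : r.Prime) {N : Subgroup D.isom}
    (hN : ∀ g, NK E (nat D g) → g ∈ N) (hΩ : r ∣ N.relIndex ⊤) :
    AllE (fun x => IsIsometry D D x) r (IC D (NK E)) ↔ r = 2 ∧ d = 2 ∧ k = 2 ∧ (2 : F) ≠ 0 := by
  have := nontrivial_of_finrank_pos (R := F) (M := V) (by omega)
  obtain ⟨m, hm⟩ := Symp.exists_finrank_eq hD'
  have h0 := finrank_mul_finrank F E V
  obtain rfl : d = k * m := by rw [hk, hm, hn] at h0; nlinarith
  have h1 := hp.two_le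
  have h3 : 0 < m := Nat.pos_of_ne_zero (by rintro rfl; simp at hd)
  have key : ∀ y, IC D (NK E) y → IsIsometry D D y → y.IsSemisimple → ∀ c : F, c * c = 1 →
      (∀ (x : End F V) τ, Sim x y → SL (E := E) τ x → τ = 1) → 2 * k ∣ finrank F (eig y c) := by
    rintro y ⟨x, ⟨-, τ, h4⟩, h5⟩ h6 h7 c hc H
    obtain ⟨x, rfl⟩ := (H x τ h5.sim h4 ▸ h4).res
    have h8 := nondeg_eig hD (ss_of_sim h5.sim.symm h7) (h5.symm.isIsometry h6) (c := c) hc
    rw [eig_res] at h8
    obtain ⟨l, hl⟩ := Symp.exists_finrank_eq (nondeg_up hB h8)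
    exact ⟨l, by rw [← finrank_eig_sim h5.sim, eig_res, finrank_res, hk, hl]; ring⟩
  have big : ∀ y : End F V, k * m < finrank F (eig y 1) → ∀ (x : End F V) τ, Sim x y →
      SL (E := E) τ x → τ = 1 := fun y h x τ h4 h5 => by_contra fun e => by
    have := h5.two_mul_le e one_ne_zero
    rw [finrank_eig_sim h4] at this; omega
  rcases r_cases (F := F) p hr with rfl | ⟨rfl, -, h2⟩ | ⟨-, -, h2, h4, hF⟩
  · exact iff_of_false (not_ic_tv r hD (by omega) (by omega)) fun ⟨e, _, _, h⟩ =>
      h (by subst e; exact CharTwo.two_eq_zero)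
  · simp only [h2, ne_eq, not_false_iff, and_true, true_and]
    refine ⟨fun H => by_contra fun e => ?_, fun ⟨e1, e2⟩ => ?_⟩
    · have h4 : 2 < k * m := lt_of_le_of_ne hd fun e' => e ⟨e'.symm,
        ((Nat.prime_dvd_prime_iff_eq hp Nat.prime_two).1 ⟨m, e'⟩)⟩
      obtain ⟨U, hU⟩ := cp_alt.sub (fSymp_nondeg 1) hD (by rw [finrank_plus]; omega)
      have h5 := hD.isOrthCompl ((D.nondeg_restrict_iff).1 (hU.symm.nondeg (fSymp_nondeg 1)))
      have h6 : finrank F U = 2 := by simpa using hU.finrank_eq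
      have h7 := finrank_eig_pm h2 h5.symm
      have h9 := hD.finrank_perp U
      have := Nat.le_of_dvd (by omega) (key _ (H _ (pm_isIsometry _) ⟨1, by simpa using pm_sq _⟩)
        (pm_isIsometry _) (ss_of_pow' h2 (pm_sq _)) (-1) (by simp) (big _ (by omega)))
      omega
    subst e2
    have h5 : (2 : E) ≠ 0 := fun e => h2 ((algebraMap F E).injective (by rw [map_ofNat, e, map_zero]))
    refine (allE_two hD fun _ h => h).2 ⟨fun y h6 h7 => ?_, fun y h6 h7 => ?_⟩
    · obtain ⟨a, ha⟩ := Symp.exists_finrank_eq (nondeg_eig hD (ss_of_pow' h2 h7) h6 (c := -1) (by simp))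
      have h8 := Submodule.finrank_le (eig y (-1))
      have h9 := le_eig_add h7
      obtain rfl | rfl | rfl : a = 0 ∨ a = 1 ∨ a = 2 := by omega
      · exact ⟨y, nk_of_eig one_ne_zero (by omega), .refl _ _⟩
      · obtain ⟨τ, h10, h11⟩ := exists_tau (F := F) (E := E) (by omega)
        obtain ⟨e, he⟩ := Symp.iso_fSymp hD' hm
        let b := (Pi.basisFun E _).map e.symm
        have h12 := frob_pow b (hk ▸ h11)
        have h13 := le_eig_add h12
        have h14 := (sl_frob b).two_mul_le h10 one_ne_zero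
        have h15 := (sl_frob b).two_mul_le h10 (neg_ne_zero.2 one_ne_zero)
        exact ⟨_, ⟨isUnit_of_pow Nat.prime_two h12, τ, sl_frob b⟩, isoC_alt hD hD (ss_of_pow' h2 h12)
          (alt_isIsometry fun u v => by
            rw [hB, hB, frob_B b D' (l := 1) (fun _ => rfl) (fun i j => by
              simp [b, he.symm.B_map, fSymp_B', Pi.single_apply, apply_ite τ]), one_mul,
              Algebra.trace_eq_of_algEquiv]) h6 (sim_of_sq h2 h12 h7 rfl (by omega))⟩
      · exact ⟨y, nk_of_eig (neg_ne_zero.2 one_ne_zero) (by omega), .refl _ _⟩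
    · obtain ⟨x, h8, h9⟩ := exists_neg_one.1 (alt_rt h5 hD')
      have h10 : x.restrictScalars F ^ 2 = algebraMap F _ (-1) := by rw [res_pow, h9]; simp; rfl
      exact ⟨_, nk_res (isUnit_of_isIsometry hD' h8.B_map), (nr_neg_one h2).isoC hD hD
        (alt_isIsometry fun u v => by simp [hB, h8.B_map]) h6 h10 (by simpa using h7) rfl⟩
  refine iff_of_false (fun H => ?_) (by simp [h2])
  have hq : Nat.card E = Nat.card F ^ k := hk ▸ Module.natCard_eq_pow_finrank
  obtain ⟨j, h5, h6⟩ := exists_dvd_of_prod hr (n := k * m) (f := fun i => if k ∣ i + 1 then 1 else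
    Nat.card F ^ (2 * (i + 1)) - 1) (card_ne_zero_zmod hr hF) (dvd_of_relIndex' hΩ (D'.resHom D fun g => alt_isIsometry fun u v => by rw [hB, hB, g.2.B_map])
    (D'.resHom_injective _ _) (fun g => hN _ (nk_res (y := nat D' g) ((Group.isUnit g).map _)))
    (by rw [Symp.card_isom hD hn, spOrder, prod_mul_split (fun i => Nat.card F ^ (2 * i) - 1) hp.pos])
    (by rw [Symp.card_isom hD' hm, spOrder, hq]; simp only [← pow_mul, mul_left_comm k]; rfl))
  split_ifs at h6 with h7
  · exact hr.not_dvd_one h6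
  rw [dvd_pow_sub_one_iff Nat.card_pos.ne'] at h6
  obtain ⟨c, hc⟩ : ∃ c, c = if Even (io r F) then io r F else 2 * io r F := ⟨_, rfl⟩
  have h8 : ∀ j, io r F ∣ 2 * j → c ∣ 2 * j := fun j h => by
    rw [hc]; split_ifs with e
    exacts [h, Nat.mul_dvd_mul_left 2 ((Nat.coprime_two_right.2
      (Nat.not_even_iff_odd.1 e)).dvd_of_dvd_mul_left h)]
  have h9 := Nat.le_of_dvd (by omega) (h8 _ h6)
  obtain ⟨y, h10, h11, h12⟩ := alt_min hD hr h2 hF hc (by omega)
  have h13 := finrank_eig_add_rng y 1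
  have h14 := key y (H y h10 ⟨1, by simpa⟩) h10 (ss_of_pow' hF h11) 1 (by simp) (by
    by_cases e : r = k
    · obtain ⟨t, ht⟩ := h4
      have := Nat.le_of_dvd (by omega) (h8 t ⟨(Phi r F).card, by rw [mul_comm (io r F), card_Phi hr hF]; omega⟩)
      have := Nat.le_mul_of_pos_right k h3
      exact big y (by unfold rk at h12; omega)
    · exact fun x τ h h' => h'.eq_one (by simpa using sim_pow_scalar (z := 1) h.symm (by simpa))
        (hk ▸ (Nat.coprime_primes hr hp).2 e))
  have h15 : 2 * k ∣ c := (Nat.dvd_add_right h14).1 ⟨m, by unfold rk at h12; rw [← h12, h13, hn]; ring⟩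
  exact h7 (Nat.dvd_of_mul_dvd_mul_left two_pos (h15.trans (h8 _ h6)))

theorem sp_gu (p : ℕ) [Fact p.Prime] [CharP F p] {σ : E →+* E} {h : IsConj σ (Nat.card F)}
    {D' : Form h.kind V} (hD : D.Nondeg) (hD' : D'.Nondeg) (hμ : μ ≠ 0) (h1 : ∀ a, μ (σ a) = -μ a)
    (hB : ∀ u v, D.B u v = μ (D'.B u v)) (hk : finrank F E = 2) (h2 : (2 : F) ≠ 0)
    (hn : finrank F V = 2 * d) (hd : 2 ≤ d) (hr : r.Prime) {N : Subgroup D.isom}
    (hN : ∀ g, NK E (nat D g) → g ∈ N) (hΩ : r ∣ N.relIndex ⊤) :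
    AllE (fun x => IsIsometry D D x) r (IC D (NK E)) ↔ r = 2 := by
  have := nontrivial_of_finrank_pos (R := F) (M := V) (by omega)
  have h0 := hk ▸ finrank_mul_finrank F E V
  have hm : finrank E V = d := by omega
  have h5 : (2 : E) ≠ 0 := fun e => h2 ((algebraMap F E).injective (by rw [map_ofNat, e, map_zero]))
  rcases r_cases (F := F) p hr with rfl | ⟨rfl, -, -⟩ | ⟨-, -, h3, h4, hF⟩
  · exact iff_of_false (not_ic_tv r hD (by omega) (by omega)) fun e =>
      h2 (by subst e; exact CharTwo.two_eq_zero)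
  · refine iff_of_true ((allE_two hD fun _ h => h).2 ⟨fun y h6 h7 => ?_, fun y h6 h7 => ?_⟩) rfl
    · obtain ⟨a, ha⟩ := Symp.exists_finrank_eq (nondeg_eig hD (ss_of_pow' h2 h7) h6 (c := -1) (by simp))
      have h8 := Submodule.finrank_le (eig y (-1))
      obtain ⟨x, h9, h10⟩ := exists_res_sq (E := E) (V := V) h2 (a := a) (by omega)
      obtain ⟨g, hg⟩ := ((selfDual_iff_fac h.σσ (ss_of_pow' h5 h9) (isUnit_of_pow Nat.prime_two h9)).2
        (fac_pd_of_sq h.σσ h5 h9)).exists_herm_isom hD' rfl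
      have h11 : (nat D' g).restrictScalars F ^ 2 = 1 := by
        rw [res_pow, nat_apply, sim_pow_scalar (z := 1) hg (by simpa)]; simp; rfl
      refine ⟨_, nk_res ((Group.isUnit g).map (nat D')), isoC_alt hD hD (ss_of_pow' h2 h11)
        (alt_isIsometry fun u v => by simp [hB, nat_apply, g.2.B_map]) h6
        (sim_of_sq h2 h11 h7 rfl ?_)⟩
      rw [eig_res, finrank_res] at h10 ⊢
      rw [nat_apply, ← finrank_eig_sim hg, h10, hk, ha]
    · obtain ⟨b, hb⟩ := Herm.exists_orthonormal hD' hm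
      obtain ⟨a, ha⟩ := h.exists_norm_eq (a := -1) (by simp)
      let τ : E ≃ₐ[F] E := .ofBijective { σ with commutes' := h.map_algebraMap rfl }
        (Function.Involutive.bijective h.σσ)
      have hτ : ∀ a, τ a = σ a := fun _ => rfl
      have h8 : frob b τ ^ 2 = 1 := frob_pow b (AlgEquiv.ext h.σσ)
      let x := ((a • 1 : End E V).restrictScalars F) * frob b τ
      have hx : ∀ v, x v = a • frob b τ v := fun _ => rfl
      have h9 : x ^ 2 = algebraMap F _ (-1) := LinearMap.ext fun v => by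
        have := LinearMap.congr_fun h8 v
        simp only [sq, End.mul_apply, End.one_apply] at this
        simp [sq, hx, sl_frob b a, smul_smul, hτ, ha, this]
      have h10 : IsIsometry D D x := alt_isIsometry fun u v => by
        rw [hB, hB, hx, hx, D'.B_smul_left, D'.B_smul_right, frob_B b D' (l := 1) (fun _ => rfl)
          (fun i j => by simp [hb, apply_ite τ]), ← mul_assoc, mul_comm (σ a), ha]
        simp [hτ, h1]
      exact ⟨x, ⟨isUnit_of_isIsometry hD h10.B_map, τ, fun c v => by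
        rw [hx, hx, sl_frob b, smul_comm]⟩, (nr_neg_one h2).isoC hD hD h10 h6 h9 (by simpa using h7) rfl⟩
  refine iff_of_false (fun H => ?_) h3
  have hE : (r : E) ≠ 0 := fun e => hF ((algebraMap F E).injective (by rw [map_natCast, e, map_zero]))
  obtain ⟨j, h6, h7⟩ := exists_dvd_of_prod hr (n := d) (f := fun i => if Even i then
    Nat.card F ^ (i + 1) - 1 else Nat.card F ^ (i + 1) + 1) (card_ne_zero_zmod hr hF)
    (dvd_of_relIndex' hΩ (D'.resHom D fun g => alt_isIsometry fun u v => by rw [hB, hB, g.2.B_map])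
    (D'.resHom_injective _ _) (fun g => hN _ (nk_res (y := nat D' g) ((Group.isUnit g).map _)))
    (P := ∏ i ∈ Finset.range d, if Even i then Nat.card F ^ (i + 1) + 1 else Nat.card F ^ (i + 1) - 1)
    (by
      rw [Symp.card_isom hD hn, spOrder, ← Finset.prod_mul_distrib]
      refine congrArg _ (Finset.prod_congr rfl fun i _ => ?_)
      rw [pow_mul', sq_sub_one_eq]
      split_ifs
      exacts [rfl, mul_comm _ _])
    (by rw [Herm.card_isom hD', hm, guOrder]))
  have h8 := io_herm (r := r) h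
  have h9 : (if Even (io r F) then io r F else 2 * io r F) = 2 * io r E ∧ io r E ≤ d ∧
      io r F % 4 ≠ 2 := by
    rw [h8]
    change _ = 2 * (if Even (io r F) then io r F / 2 else io r F) ∧
      (if Even (io r F) then io r F / 2 else io r F) ≤ d ∧ _
    split_ifs at h7 with e
    · rw [dvd_pow_sub_one_iff Nat.card_pos.ne'] at h7
      have := Odd.of_dvd_nat e.add_one h7
      have := Nat.le_of_dvd (by omega) h7
      unfold io; grind
    · rw [dvd_pow_add_one_iff hr h3] at h7
      have := Nat.le_of_dvd (by omega) h7.1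
      obtain ⟨t, ht⟩ := even_of_dvd_two_mul h7.1 h7.2
      rw [show io r F = 2 * t by unfold io; omega, if_pos (by simp), if_pos (by simp)]
      refine ⟨by omega, by omega, fun e' => h7.2 ?_⟩
      rw [ht, ← two_mul] at h7 ⊢
      exact Nat.Coprime.mul_dvd_of_dvd_of_dvd (by rw [Nat.coprime_two_left, Nat.odd_iff]; omega)
        (by grind) (Nat.dvd_of_mul_dvd_mul_left two_pos h7.1)
  obtain ⟨y, h10, h11, h12⟩ := alt_min hD hr h3 hF h9.1.symm (by omega)
  obtain ⟨x, ⟨-, τ, h13⟩, h14⟩ := H y h10 ⟨1, by simpa⟩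
  have h15 : x ^ r = 1 := by simpa using sim_pow_scalar (z := 1) h14.sim.symm (by simpa)
  obtain ⟨x, rfl⟩ := (h13.eq_one h15 (hk ▸ h4.coprime_two_right) ▸ h13).res
  exact not_res_min hD' (herm_isIsometry (iso_up hμ hB (h14.symm.isIsometry h10))) hr hE h15
    (fun g hg e => h9.2.2 ((pd_herm_iff h hr h3 hE hg).1 e)) (by rw [rk_sim h14.sim, h12, hk])

end Alt

end Cfsg.Lib.Elu
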