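import Cfsg.Agent.Lib.Elu.C3

/-!
Elements of prime order of orthogonal groups and quadratic extension field subgroups.
-/

set_option autoImplicit false

namespace Cfsg.Lib.Elu

open Module Cfsg.Lib.Forms Cfsg.Lib.Forms.Form Cfsg.Lib.Known Cfsg.Lib.Conj

theorem om_conj {G : Type*} [Group G] {S N : Subgroup G} {α β : G →* ℤˣ}
    (hS : ∀ g, g ∈ S ↔ α g = 1 ∧ β g = 1) {s t h x : G} (hs : s ∈ N) (h1 : α s = 1) (h2 : β s = -1)
    (hh : h ∈ N) (h3 : α t = -1) (h4 : t * h * t⁻¹ ∈ N) (h5 : IsConj h x) :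
    ∃ g ∈ S, g⁻¹ * x * g ∈ N := by
  have key : ∀ g h, h ∈ N → α g = 1 → ∃ k ∈ S, k⁻¹ * (g * h * g⁻¹) * k ∈ N := fun g h h6 h7 => by
    rcases Int.units_eq_one_or (β g) with e | e
    · exact ⟨g, (hS g).2 ⟨h7, e⟩, by simpa [mul_assoc]⟩
    · exact ⟨g * s, (hS _).2 (by simp [*]), by
        simpa [mul_assoc] using N.mul_mem (N.mul_mem (N.inv_mem hs) h6) hs⟩
  obtain ⟨g, rfl⟩ := isConj_iff.1 h5
  rcases Int.units_eq_one_or (α g) with e | e
  · exact key g h hh e
  · simpa [mul_assoc] using key (g * t⁻¹) _ h4 (by simp [*])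

variable {F E V : Type*} [Field F] [Field E] [Algebra F E] [AddCommGroup V] [Module F V]
  [Module E V] [IsScalarTower F E V] {x y : End F V} {r n k d : ℕ} {σ : E →+* E}
  {μ : E →ₗ[F] F} {D : Form (quadKind F) V} {D' : Form (quadKind E) V}

theorem NK.mul (h : NK E x) (h' : NK E y) : NK E (x * y) :=
  let ⟨h1, τ, h2⟩ := h
  let ⟨h3, ρ, h4⟩ := h'
  ⟨h1.mul h3, τ * ρ, fun a v => by simp [h2 _ _, h4 _ _]⟩

/-- `x` is conjugate into `N` under the commutator subgroup. -/
def OC (N : Subgroup D.isom) (y : End F V) : Prop :=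
  ∃ x, nat D x = y ∧ ∃ g ∈ commutator D.isom, g⁻¹ * x * g ∈ N

variable (σ μ) in
/-- A quadratic extension of a finite field of odd order with its trace. -/
structure Qx : Prop where
  conj : IsConj σ (Nat.card F)
  two : (2 : F) ≠ 0
  rank : finrank F E = 2
  tr : ∀ a, algebraMap F E (μ a) = a + σ a

theorem exists_qx [Finite F] (h2 : (2 : F) ≠ 0) (hk : finrank F E = 2) :
    ∃ (σ : E →+* E) (μ : E →ₗ[F] F), Qx σ μ := by
  have : FiniteDimensional F E := .of_finrank_eq_succ hk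
  have : Finite E := Module.finite_of_finite F
  have h := isConj_frob (F := E) (hk ▸ Module.natCard_eq_pow_finrank)
  obtain ⟨ρ, hρ⟩ := exists_retraction F E
  refine ⟨_, ρ ∘ₗ (LinearMap.id + h.lin rfl), h, h2, hk, fun a => ?_⟩
  obtain ⟨b, hb⟩ := (h.fixed_iff_mem_range rfl (x := a + Forms.frob _ a)).1 (by
    rw [map_add, h.σσ, add_comm])
  exact (congrArg _ ((congrArg ρ hb.symm).trans (hρ b))).trans hb

namespace Qx

variable (H : Qx σ μ)
include H

theorem two' : (2 : E) ≠ 0 := fun e =>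
  H.two ((algebraMap F E).injective (by rw [map_ofNat, e, map_zero]))

theorem ne : μ ≠ 0 := fun e => H.two' (by simpa [e, one_add_one_eq_two, eq_comm] using H.tr 1)

theorem map (a : F) : σ (algebraMap F E a) = algebraMap F E a := H.conj.map_algebraMap rfl a

theorem fix {a : E} (h : σ a = a) : ∃ b, algebraMap F E b = a :=
  (H.conj.fixed_iff_mem_range rfl).1 h

/-- The conjugation as an algebra automorphism. -/
noncomputable def tau : E ≃ₐ[F] E :=
  .ofBijective { σ with commutes' := H.map } (Function.Involutive.bijective H.conj.σσ)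

theorem tau_apply (a : E) : H.tau a = σ a := rfl

theorem exists_quad (hD : D.Nondeg) (hσ : ∀ (a : E) u v, D.B (a • u) v = D.B u (a • v)) :
    ∃ D' : Form (quadKind E) V, D'.Nondeg ∧ ∀ x y, D.B x y = μ (D'.B x y) := by
  have : FiniteDimensional F E := .of_finrank_eq_succ H.rank
  obtain ⟨β, hβ⟩ := exists_lift H.ne D.B (RingHom.id E) hσ
  have h2 := H.two'
  refine ⟨ofSymm ((2 : E)⁻¹ • β) fun x y => congrArg _ (sub_eq_zero.1 (eq_zero_of_comp H.ne
    fun c => ?_)), fun x hx => hD x fun y => ?_, fun x y => by simp [ofSymm, hβ, h2]⟩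
  · rw [mul_sub, map_sub, ← smul_eq_mul, ← smul_eq_mul, ← map_smul, ← map_smul, ← hβ, ← hβ, ← hσ,
      quad_symm, sub_self]
  · rw [hβ, show β x y = 0 by simpa [ofSymm, h2] using hx y, map_zero]

variable [Finite F] [Finite E]

theorem chi_norm {a : F} {c : E} (hc : c ≠ 0) (h : algebraMap F E a = c * σ c) : chi a = chi c := by
  have key : ∀ (a : F) c, algebraMap F E a = c * σ c → IsSquare c → IsSquare a := by
    rintro a _ h ⟨s, rfl⟩
    obtain ⟨b, hb⟩ := H.fix (a := s * σ s) (by rw [map_mul, H.conj.σσ, mul_comm])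
    exact ⟨b, (algebraMap F E).injective (by rw [h, map_mul, map_mul, hb]; ring)⟩
  by_cases e : IsSquare c
  · rw [chi_of_isSquare e, chi_of_isSquare (key a c h e)]
  obtain ⟨b, hb⟩ := exists_not_isSquare H.two
  obtain ⟨u, hu⟩ := H.conj.exists_norm_eq (H.map b)
  rw [chi_of_not_isSquare e, chi_of_not_isSquare fun e' => not_isSquare_mul e' ?_ hb
    (key _ _ ?_ (isSquare_mul_of_not_isSquare e (mt (key b u hu.symm) hb)))]
  · rintro rfl; simp [hc] at h
  · rw [map_mul, map_mul, h, ← hu]; ring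

omit [Finite F] [Finite E] in
theorem chi_anti {a : F} {c : E} (hc : c ≠ 0) (h1 : σ c = -c) (h : algebraMap F E a = c ^ 2) :
    chi a = -1 := chi_of_not_isSquare (by
  rintro ⟨b, rfl⟩
  rw [map_mul, ← sq, sq_eq_sq_iff_eq_or_eq_neg] at h
  have := H.map b
  rcases h with h | h <;> rw [h] at this
  · exact mul_ne_zero H.two' hc (by linear_combination h1 - this)
  · exact mul_ne_zero H.two' hc (by rw [map_neg] at this; linear_combination this + h1))

theorem isSquare (a : F) : IsSquare (algebraMap F E a) :=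
  let ⟨b, hb⟩ := exists_root_map (F := E) (r := 2) H.conj.card (io_eq_one_iff.1 (io_two H.two)) a
  ⟨b, by rw [← hb, sq]⟩

omit [Finite F] [Finite E]
variable (hB : ∀ u v, D.B u v = μ (D'.B u v))
include hB

theorem Q_eq (v : V) : algebraMap F E (D.Q v) = D'.Q v + σ (D'.Q v) :=
  mul_left_cancel₀ H.two' (by
    have := H.tr (D'.B v v)
    rwa [← hB, quad_B_self, quad_B_self, map_mul, map_mul, map_ofNat, map_ofNat, ← mul_add] at this)

theorem exists_Q {v : V} (h : D'.Q v ≠ 0) : ∃ c : E, c ≠ 0 ∧ D.Q (c • v) ≠ 0 := by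
  by_contra! e
  have key : ∀ c : E, c * c * D'.Q v + σ (c * c * D'.Q v) = 0 := fun c => by
    by_cases hc : c = 0
    · simp [hc]
    simpa [e c hc, D'.Q_smul, eq_comm] using H.Q_eq hB (c • v)
  have h1 := key (1 + (D'.Q v)⁻¹)
  rw [show (1 + (D'.Q v)⁻¹) * (1 + (D'.Q v)⁻¹) * D'.Q v = 1 * 1 * D'.Q v + 2 +
    (D'.Q v)⁻¹ * (D'.Q v)⁻¹ * D'.Q v by field_simp; ring, map_add, map_add, map_ofNat] at h1
  exact mul_ne_zero H.two' H.two' (by linear_combination h1 - key 1 - key (D'.Q v)⁻¹)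

/-- Restriction of scalars on isometries. -/
def res : D'.isom →* D.isom :=
  D'.resHom D fun g => quad_of_B (x := (nat D' g).restrictScalars F) H.two fun u v =>
    (hB _ _).trans ((congrArg μ (g.2.B_map u v)).trans (hB _ _).symm)

theorem res_apply (g : D'.isom) (v : V) : (H.res hB g).1 v = g.1 v := rfl

theorem nk_res' (g : D'.isom) : NK E (nat D (H.res hB g)) :=
  nk_res (y := nat D' g) ((Group.isUnit g).map _)

theorem refl_mul {w : V} {ξ : E} (h1 : D.Q w ≠ 0) (h2 : D'.Q w ≠ 0) (h3 : D.Q (ξ • w) ≠ 0)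
    (h4 : D.B w (ξ • w) = 0) : D.refl w * D.refl (ξ • w) = H.res hB (D'.refl w) := by
  refine isom_ext fun v => ?_
  obtain ⟨c, u, rfl, hu⟩ : ∃ (c : E) (u : V), v = c • w + u ∧ D'.B w u = 0 :=
    ⟨D'.B w v / (2 * D'.Q w), v - _, (add_sub_cancel _ _).symm, by
      have := H.two'
      simp [quad_B_self]; field_simp; ring⟩
  obtain ⟨s, t, rfl⟩ := exists_comb H.rank (ξ := ξ) (by
    rintro c rfl
    rw [algebraMap_smul] at h3 h4
    simp [quad_B_self, D.Q_smul, H.two, h1] at h3 h4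
    exact h3 h4) c
  have h5 : D.B w u = 0 := by simp [hB, hu]
  have h6 : D.B (ξ • w) u = 0 := by simp [hB, hu]
  rw [H.res_apply, map_add (D'.refl w).1, map_smul, refl_apply_self h2, refl_apply_of_perp hu]
  simp only [map_add, map_smul, add_smul, neg_add, mul_smul, algebraMap_smul, isom_mul_apply,
    refl_apply_self h3, refl_apply_of_perp h6,
    refl_apply_of_perp ((quad_symm D _ _).trans h4), refl_apply_self h1, refl_apply_of_perp h5,
    map_neg, refl_apply_of_perp h4, smul_neg]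

variable [Finite F] [Finite E] [FiniteDimensional F V] [FiniteDimensional E V] (hD : D.Nondeg)
  (hD' : D'.Nondeg)

theorem res_refl {v : V} (h : D'.Q v ≠ 0) : dickson hD (H.res hB (D'.refl v)) = 1 ∧
    spinor hD (H.res hB (D'.refl v)) = -chi (D'.Q v) := by
  obtain ⟨c, hc, h1⟩ := H.exists_Q hB h
  have h2 : D'.Q (c • v) = c ^ 2 * D'.Q v := by simp [D'.Q_smul, sq]
  rw [← refl_smul v hc, ← chi_sq_mul h hc, ← h2]
  have h3 : D'.Q (c • v) ≠ 0 := by simp [h2, hc, h]
  generalize c • v = w at *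
  obtain ⟨θ, h4, h5⟩ := H.conj.exists_trace_zero
  replace h5 : σ θ = -θ := by linear_combination h5
  obtain ⟨δ, hδ⟩ := H.fix (a := θ ^ 2) (by simp [h5])
  obtain ⟨a, ha⟩ := H.fix (a := D'.Q w * σ (D'.Q w)) (by rw [map_mul, H.conj.σσ, mul_comm])
  have h6 := (map_ne_zero σ).2 h3
  have h7 : D.Q ((θ / D'.Q w) • w) * a = D.Q w * δ := (algebraMap F E).injective (by
    simp only [map_mul, H.Q_eq hB, ha, hδ, D'.Q_smul, RingHom.id_apply, map_div₀, h5]
    field_simp; ring)
  have h8 : δ ≠ 0 := by rintro rfl; exact pow_ne_zero 2 h4 (by simpa using hδ.symm)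
  have h9 : a ≠ 0 := by rintro rfl; simp [h1, h8] at h7
  have h10 : D.Q ((θ / D'.Q w) • w) ≠ 0 := fun e => by simp [e, h1, h8] at h7
  have h11 := congrArg chi h7
  rw [chi_mul h10 h9, chi_mul h1 h8, H.chi_norm h3 ha, H.chi_anti h4 h5 hδ] at h11
  rw [← H.refl_mul hB h1 h3 h10 ((algebraMap F E).injective (by
    rw [hB, H.tr]; simp [quad_B_self, h5, map_ofNat]; field_simp; ring)), map_mul, map_mul,
    dickson_refl hD h1, dickson_refl hD h10, spinor_refl hD h1, spinor_refl hD h10,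
    eq_mul_inv_of_mul_eq h11]
  simp [← mul_assoc]

theorem disc_eq : disc hD = (-1) ^ finrank E V * disc hD' := by
  have : (spinor hD).comp (H.res hB) = dickson hD' * spinor hD' :=
    MonoidHom.eq_of_eqOn_dense (hD'.closure_refl (good_of_two_ne_zero H.two')) (by
      rintro _ ⟨v, hv, rfl⟩
      simp [(H.res_refl hB hD hv).2, dickson_refl hD' hv, spinor_refl hD' hv])
  rw [← dickson_negOne hD' H.two']
  exact (congrArg (spinor hD) (isom_ext fun _ => by simp [H.res_apply] :
    D.negOne = H.res hB D'.negOne)).trans (DFunLike.congr_fun this D'.negOne)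

omit [Finite F] [Finite E] [FiniteDimensional F V] [FiniteDimensional E V] H in
theorem orth {U U' : Submodule E V} (h : D'.IsOrthCompl U U') :
    D.IsOrthCompl (U.restrictScalars F) (U'.restrictScalars F) :=
  ⟨(Submodule.isCompl_restrictScalars_iff F).2 h.compl, fun v hv u hu => by
    rw [hB, h.orth hv u hu, map_zero]⟩

include hD hD'

theorem omc (hn : 2 ≤ finrank E V) {N : Subgroup D.isom} (hN : ∀ g, g ∈ N ↔ NK E (nat D g))
    {t h x : D.isom} (h1 : NK E (nat D h)) (h2 : dickson hD t = -1)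
    (h3 : NK E (nat D (t * h * t⁻¹))) (h4 : IsoC D (nat D h) D (nat D x)) :
    ∃ g ∈ commutator D.isom, g⁻¹ * x * g ∈ N := by
  obtain ⟨v, hv⟩ := Quad.exists_Q_eq hD' hn 1
  have := H.res_refl hB hD (v := v) (by simp [hv])
  exact om_conj (fun _ => hD.mem_commutator_iff (good_of_two_ne_zero H.two))
    ((hN _).2 (H.nk_res' hB _)) this.1 (by simpa [hv] using this.2) ((hN _).2 h1) h2 ((hN _).2 h3)
    (isConj_iff_isoC.2 h4)

theorem two_conj (hn : finrank E V = d) (hd : 2 ≤ d) {N : Subgroup D.isom}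
    (hN : ∀ g, g ∈ N ↔ NK E (nat D g)) {x : D.isom} (hx : x ∈ commutator D.isom)
    (h : nat D x ^ 2 = 1 ∨ nat D x ^ 2 = -1) : ∃ g ∈ commutator D.isom, g⁻¹ * x * g ∈ N := by
  classical
  have h0 := H.rank ▸ finrank_mul_finrank F E V
  have h2 := H.two
  obtain ⟨ν, hν⟩ := exists_not_isSquare H.two'
  have h1 : ν ≠ 0 := by rintro rfl; simp at hν
  have h3 := fun b => fDiag_nondeg H.two' (w := fun _ : Fin b => ν) fun _ => h1
  have h4 : ∀ b, disc (h3 b) = (-1) ^ b := fun b => by simp [disc_fDiag, chi_of_not_isSquare hν]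
  obtain h | h := h
  · obtain ⟨U, U', hc, hU⟩ := exists_pm h2 (isIsometry_nat x) h
    obtain ⟨⟨b, hb⟩, h5⟩ := (extend_negOne_mem_commutator_iff hD h2 hc.symm).1
      (om_nat.1 (show Om D (pm hc) from hU ▸ om_nat.2 hx))
    have h6 := finrank_eig_pm h2 hc
    have h7 := Submodule.finrank_add_eq_of_isCompl hc.compl
    by_cases e : b = 0 ∨ b = d
    · refine ⟨1, one_mem _, (hN _).2 ?_⟩
      rw [inv_one, one_mul, mul_one, hU]
      exact e.elim (fun _ => nk_of_eig one_ne_zero (by omega)) fun _ =>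
        nk_of_eig (neg_ne_zero.2 one_ne_zero) (by omega)
    obtain ⟨A, hA⟩ := cp_quad.sub (h3 b) hD' (by simp; omega)
    have h8 := hA.symm.nondeg (h3 b)
    have h9 := (hD'.isOrthCompl (D'.nondeg_restrict_iff.1 h8)).symm
    have h10 := orth hB h9
    have h11 : finrank E A = b := by simpa using hA.finrank_eq
    have : FiniteDimensional F A := .trans F E A
    have h12 : finrank F (A.restrictScalars F) = finrank F U' := by
      rw [finrank_res, H.rank, h11, hb, two_mul]
    have h13 : disc (h10.symm.nondeg_left hD) = 1 := by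
      have := H.disc_eq (D := D.comap (A.subtype.restrictScalars F)) (D' := D'.restrict A)
        (fun u v => hB u v) (h10.symm.nondeg_left hD) h8
      rwa [hA.disc_eq h8 (h3 b), h4, h11, Int.units_mul_self] at this
    have := nontrivial_of_finrank_pos (R := F) (M := A.restrictScalars F) (by omega)
    obtain ⟨w, hw⟩ := (h10.symm.nondeg_left hD).quad_exists_Q_ne_zero
    obtain ⟨g, hg⟩ := exists_nat hD' (pm_isIsometry h9)
    have h14 : nat D (H.res hB g) = pm h10 := LinearMap.ext_on_codisjoint h10.compl.codisjoint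
      (fun v hv => (LinearMap.congr_fun hg v).trans ((pm_left h9 hv).trans (pm_left h10 hv).symm))
      fun v hv => (LinearMap.congr_fun hg v).trans ((pm_right h9 hv).trans (pm_right h10 hv).symm)
    have h15 := conj_refl (H.res hB g) w.1
    rw [show (H.res hB g).1 w.1 = (-1 : F) • w.1 from (LinearMap.congr_fun h14 w).trans
      ((pm_right h10 w.2).trans (neg_one_smul F _).symm), refl_smul _ (by simp),
      mul_inv_eq_iff_eq_mul] at h15
    refine H.omc hB hD hD' (by omega) hN (H.nk_res' hB g) (dickson_refl hD (v := w) hw)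
      (by rw [← h15, mul_inv_cancel_right]; exact H.nk_res' hB g) ?_
    have h16 := Submodule.finrank_add_eq_of_isCompl h10.compl
    have h17 := (h10.disc_eq hD).symm.trans (hc.disc_eq hD)
    rw [h13, h5, mul_one, mul_one] at h17
    rw [h14, hU]
    exact .of_orthCompl h10 hc (h1 := pm_inv _) (h2 := pm_inv' _) (h3 := pm_inv _) (h4 := pm_inv' _)
      (isoC_of_smul (c := 1) (iso_of_disc _ _ h2 (by omega) h17)
        (fun v => Subtype.ext (by simpa using pm_left h10 v.2))
        fun v => Subtype.ext (by simpa using pm_left hc v.2))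
      (isoC_of_smul (c := -1) (iso_of_disc _ _ h2 h12 (h13.trans h5.symm))
        (fun v => Subtype.ext (by simpa using pm_right h10 v.2))
        fun v => Subtype.ext (by simpa using pm_right hc v.2))
  have h5 := ((quad_rt_iff h2 hD).1 (exists_neg_one.2 ⟨_, isIsometry_nat x, h⟩)).2
  rw [H.disc_eq hB hD hD', hn, mul_eq_one_iff_inv_eq, ← inv_pow, inv_neg_one, ← h4] at h5
  obtain ⟨e, he⟩ := iso_of_disc hD' (h3 d) H.two' (by simp [hn]) h5.symm
  let b := (Pi.basisFun E _).map e.symm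
  have hb : ∀ i j, D'.B (b i) (b j) = if i = j then 2 * ν else 0 := fun i j => by
    simp [b, he.symm.B_map, fDiag_B_single, Pi.single_apply]
  obtain ⟨m, hm⟩ : Odd (Nat.card F) := odd_card_iff.2 h2
  have h6 := H.conj.apply
  have h7 : σ ν = ν * (ν ^ m) ^ 2 := by rw [h6, hm]; ring
  have h8 : ν ^ m * σ (ν ^ m) = -1 := by
    have := Fintype.ofFinite E
    have h9 := (FiniteField.isSquare_iff (ringChar_eq_two_iff.not.2 H.two') h1).not.1 hν
    refine (FiniteField.pow_dichotomy (ringChar_eq_two_iff.not.2 H.two') h1).resolve_left h9 ▸ ?_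
    rw [h6, ← pow_mul, ← pow_add, ← Nat.card_eq_fintype_card, H.conj.card, hm]
    congr 1
    rw [show (2 * m + 1) ^ 2 = 2 * (m + m * (2 * m + 1)) + 1 by ring]; omega
  generalize ν ^ m = a at h7 h8
  have h9 : a ≠ 0 := by rintro rfl; simp at h8
  have h10 : frob b H.tau ^ 2 = 1 := frob_pow b (AlgEquiv.ext H.conj.σσ)
  let y := ((a • 1 : End E V).restrictScalars F) * frob b H.tau
  have hy : ∀ v, y v = a • frob b H.tau v := fun _ => rfl
  have h11 : y ^ 2 = algebraMap F _ (-1) := LinearMap.ext fun v => by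
    have := LinearMap.congr_fun h10 v
    simp only [sq, End.mul_apply, End.one_apply] at this
    simp [sq, hy, sl_frob b a, smul_smul, H.tau_apply, h8, this]
  have h12 : IsIsometry D D y := quad_of_B h2 fun u v => (algebraMap F E).injective (by
    rw [hB, hB, hy, hy, D'.B_smul_left, D'.B_smul_right, frob_B b D' (l := (a ^ 2)⁻¹)
      (fun _ => rfl) fun i j => ?_, H.tr, H.tr, H.tau_apply, RingHom.id_apply,
      show ∀ z, a * (a * ((a ^ 2)⁻¹ * z)) = z from fun z => by field_simp, H.conj.σσ, add_comm]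
    rw [hb, H.tau_apply]
    split_ifs
    · rw [map_mul, map_ofNat, h7]; field_simp
    · simp)
  obtain ⟨g, hg⟩ := exists_nat hD h12
  rw [← hg] at h11
  have h13 : NK E (nat D g) := hg ▸ ⟨isUnit_of_isIsometry hD h12.B_map, H.tau, fun c v => by
    rw [hy, hy, sl_frob b, smul_comm]⟩
  have h14 : D'.Q (b ⟨0, by omega⟩) ≠ 0 := fun e => by
    simpa [quad_B_self, e, h1, H.two'] using hb ⟨0, by omega⟩ ⟨0, by omega⟩
  obtain ⟨c, hc, h15⟩ := H.exists_Q hB h14
  have h16 : g.1 (c • b ⟨0, by omega⟩) = (a * σ c / c) • c • b ⟨0, by omega⟩ := by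
    rw [smul_smul, div_mul_cancel₀ _ hc, mul_smul, ← H.tau_apply]
    exact (LinearMap.congr_fun hg _).trans (by rw [hy, sl_frob b, frob_basis])
  have h17 : D'.Q (c • b ⟨0, by omega⟩) ≠ 0 := by simp [D'.Q_smul, hc, h14]
  generalize c • b ⟨0, by omega⟩ = w at h15 h16 h17
  have h18 := H.refl_mul hB h15 h17 (h16 ▸ (g.2.Q_map w).trans_ne h15) (by
    have h18 := g.2.B_map w (g.1 w)
    rw [show g.1 (g.1 w) = -w by simpa [sq, nat_apply] using LinearMap.congr_fun h11 w,
      map_neg, quad_symm, h16] at h18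
    exact (mul_eq_zero_iff_left h2).1 (by linear_combination -h18))
  refine H.omc hB hD hD' (by omega) hN h13 (dickson_refl hD h15) ?_ ((nr_neg_one h2).isoC hD hD
    (isIsometry_nat g) (isIsometry_nat x) h11 (by simpa using h) rfl)
  rw [refl_inv, show D.refl w * g * D.refl w = D.refl w * (g * D.refl w * g⁻¹) * g by group,
    conj_refl, h16, h18, map_mul]
  exact (H.nk_res' hB _).mul h13

theorem hasTS_iff {m : ℕ} (hn : finrank E V = 2 * m) : D.HasTS (2 * m) ↔ D'.HasTS m := by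
  have h0 := H.rank ▸ finrank_mul_finrank F E V
  have := H.isSquare (-1)
  rw [map_neg, map_one] at this
  rw [hasTS_iff_disc hD H.two (by omega), hasTS_iff_disc hD' H.two' hn, H.disc_eq hB hD hD', hn,
    chi_of_isSquare this]
  simp [pow_mul]

theorem index (hn : finrank E V = d) (hd : 2 ≤ d) (hr : r.Prime) (h2 : r ≠ 2) (hF : (r : F) ≠ 0)
    {N : Subgroup D.isom} (hN : ∀ g, g ∈ N ↔ NK E (nat D g))
    (hΩ : r ∣ N.relIndex (commutator D.isom)) : ∃ o ≤ d, Odd o ∧ io r F ∣ 2 * o ∧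
      (o = d → (D.HasTS d ↔ io r F ∣ d)) := by
  classical
  have h0 := H.rank ▸ finrank_mul_finrank F E V
  have h1 := H.conj.card
  have key : ∀ {a b P Q m : ℕ}, Nat.card D.isom = 2 * Nat.card F ^ a * (P * (Q * ∏ i ∈ Finset.range m,
      (Nat.card F ^ (2 * (2 * i + 1)) - 1))) → Nat.card D'.isom = b * P → 2 * m ≤ d → r ∣ Q ∨
      ∃ o ≤ d, Odd o ∧ io r F ∣ 2 * o ∧ (o = d → (D.HasTS d ↔ io r F ∣ d)) := by
    intro a b P Q m h3 h4 h5
    have h6 := dvd_of_relIndex' hΩ (H.res hB) (D'.resHom_injective _ _)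
      (fun g => (hN _).2 (H.nk_res' hB g)) h3 h4
    rw [mul_assoc, hr.dvd_mul, Nat.prime_dvd_prime_iff_eq hr Nat.prime_two, mul_left_comm,
      hr.dvd_mul] at h6
    refine (h6.resolve_left h2).imp_right fun h7 => ?_
    obtain ⟨i, h8, h9⟩ := exists_dvd_of_prod hr (card_ne_zero_zmod hr hF) h7
    exact ⟨2 * i + 1, by omega, by simp, (dvd_pow_sub_one_iff Nat.card_pos.ne').1 h9, by omega⟩
  have e := prod_two_mul fun j => Nat.card F ^ (2 * j) - 1
  obtain ⟨m, rfl | rfl⟩ := Nat.even_or_odd' d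
  · obtain ⟨m, rfl⟩ : ∃ l, m = l + 1 := ⟨m - 1, by omega⟩
    have h3 := H.hasTS_iff hB hD hD' hn
    have h4 : finrank F V = 2 * (2 * m + 1 + 1) := by omega
    refine (key (Q := 1) (m := m + 1) (a := (2 * m + 1 + 1) * (2 * m + 1))
      (b := 2 * Nat.card E ^ ((m + 1) * m)) ?_ ?_ le_rfl (P := (if D'.HasTS (m + 1) then
        Nat.card E ^ (m + 1) - 1 else Nat.card E ^ (m + 1) + 1) *
        ∏ i ∈ Finset.range m, (Nat.card E ^ (2 * (i + 1)) - 1))).resolve_left hr.not_dvd_one
    · split_ifs with h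
      · rw [Quad.card_isom_plus hD h4 (h3.2 h), Finset.prod_range_succ, e, Finset.prod_range_succ, h1]
        simp only [← pow_mul]; ring_nf
      · rw [Quad.card_isom_minus hD h4 (mt h3.1 h), Finset.prod_range_succ, e, Finset.prod_range_succ,
          h1]
        simp only [← pow_mul]; ring
    · split_ifs with h
      · rw [Quad.card_isom_plus hD' hn h, mul_assoc]
      · rw [Quad.card_isom_minus hD' hn h, mul_assoc]
  have h4 : finrank F V = 2 * (2 * m + 1) := by omega
  by_cases h : D.HasTS (2 * m + 1)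
  · refine (key (Q := Nat.card F ^ (2 * m + 1) - 1) (m := m) (a := (2 * m + 1) * (2 * m)) ?_
      (Quad.card_isom_odd hD' hn) (by omega)).elim (fun h5 => ?_) id
    · rw [Quad.card_isom_plus hD h4 h, e, h1]
      simp only [← pow_mul]; ring
    · rw [dvd_pow_sub_one_iff Nat.card_pos.ne'] at h5
      exact ⟨_, le_rfl, by simp, h5.mul_left 2, fun _ => iff_of_true h h5⟩
  · refine (key (Q := Nat.card F ^ (2 * m + 1) + 1) (m := m) (a := (2 * m + 1) * (2 * m)) ?_
      (Quad.card_isom_odd hD' hn) (by omega)).elim (fun h5 => ?_) id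
    · rw [Quad.card_isom_minus hD h4 h, e, h1]
      simp only [← pow_mul]; ring
    · rw [dvd_pow_add_one_iff hr h2] at h5
      exact ⟨_, le_rfl, by simp, h5.1, fun _ => iff_of_false h h5.2⟩

theorem main (p : ℕ) [Fact p.Prime] [CharP F p] (hn : finrank F V = 2 * d) (hd : 3 ≤ d)
    (hr : r.Prime) {N : Subgroup D.isom} (hN : ∀ g, g ∈ N ↔ NK E (nat D g))
    (hΩ : r ∣ N.relIndex (commutator D.isom)) : AllE (Om D) r (OC N) ↔ r = 2 := by
  have h0 := H.rank ▸ finrank_mul_finrank F E V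
  have h1 := H.two
  have := nontrivial_of_finrank_pos (R := F) (M := V) (by omega)
  by_cases h2 : r = 2
  · subst h2
    refine iff_of_true ((allE_two hD fun _ => Om.isIsometry).2 ⟨?_, ?_⟩) rfl <;>
      rintro _ ⟨x, hx, rfl⟩ h
    exacts [⟨x, rfl, H.two_conj hB hD hD' rfl (by omega) hN hx (.inl h)⟩,
      ⟨x, rfl, H.two_conj hB hD hD' rfl (by omega) hN hx (.inr h)⟩]
  refine iff_of_false (fun A => ?_) h2
  have h3 := hr.odd_of_ne_two h2
  have key : ∀ y : End F V, IsIsometry D D y → y ^ r = 1 → ∃ x : End E V, IsIsometry D' D' x ∧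
      x.restrictScalars F ^ r = 1 ∧ Sim (x.restrictScalars F) y := fun y h4 h5 => by
    obtain ⟨y, rfl, g, -, h6⟩ := A y (om_of_odd hD (good_of_two_ne_zero h1) h3 h4 h5) ⟨1, by simpa⟩
    obtain ⟨-, τ, h7⟩ := (hN _).1 h6
    have h8 : Sim (nat D (g⁻¹ * y * g)) (nat D y) := sim_of_isConj _ (isConj_iff.2 ⟨g, by group⟩)
    have h9 : nat D (g⁻¹ * y * g) ^ r = 1 := by
      simpa using sim_pow_scalar (z := 1) h8.symm (by simpa)
    obtain ⟨x, hx⟩ := (h7.eq_one h9 (H.rank ▸ h3.coprime_two_right) ▸ h7).res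
    exact ⟨x, quad_of_B H.two' (iso_up H.ne hB (hx ▸ isIsometry_nat _)), hx ▸ h9, hx ▸ h8⟩
  by_cases hp : r = p
  · subst hp
    obtain ⟨y, h4, h5, h6⟩ := quad_real_odd r h1 hD (o := 3 ::ₘ Multiset.replicate (2 * d - 3) 1)
      (k := 0) (by simp +contextual [Multiset.mem_replicate]) (by simp; omega) (.inl (by simp))
    obtain ⟨x, -, -, h7⟩ := key y h4 h5
    have h8 := second_diff_of_hasED (h6.of_sim h7) 2
    have h9 : ∀ k, 2 ∣ finrank F (LinearMap.ker ((x.restrictScalars F - 1) ^ k)) := fun k =>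
      ⟨finrank E (LinearMap.ker ((x - 1) ^ k)), by
        rw [← H.rank, ← finrank_res, ← LinearMap.ker_restrictScalars, ← res_pow]; rfl⟩
    have := h9 2
    have := h9 4
    simp [Multiset.count_replicate] at h8
    omega
  have hF := cast_ne_zero_of_ne (F := F) hr hp
  have hE : (r : E) ≠ 0 := fun e => hF ((algebraMap F E).injective (by rw [map_natCast, e, map_zero]))
  obtain ⟨o, h4, h5, h6, h7⟩ := H.index hB hD hD' (d := d) (by omega) (by omega) hr h2 hF hN hΩ
  have h8 : io r E = if Even (io r F) then io r F / 2 else io r F := io_herm H.conj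
  obtain ⟨M, h9, h10, h11⟩ := (prof_of (σ := RingHom.id F) (fun _ => rfl) hr hF _
    fun _ => pd_id_iff hr h2 hF).nd_ex 1
  have h12 : io r F * M.card = 2 * io r E := by
    rw [h8, h11]; split_ifs with e
    exacts [by simpa using (Nat.two_mul_div_two_of_even e).symm, by ring]
  have h13 : io r E ∣ o := by
    rw [h8]; split_ifs with e
    exacts [Nat.dvd_of_mul_dvd_mul_left two_pos (by rwa [Nat.two_mul_div_two_of_even e]),
      (Nat.coprime_two_right.2 (Nat.not_even_iff_odd.1 e)).dvd_of_dvd_mul_left h6]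
  have h14 := Nat.le_of_dvd h5.pos h13
  obtain ⟨g, h15, h16⟩ := (quad_even_real_iff hD hn hr h2 hF h9).1 ⟨h10, by omega, fun e => by
    obtain rfl : o = d := by omega
    rw [h7 rfl, h11]
    split_ifs with e'
    · simpa [e', Nat.not_odd_iff_even.2 e'] using fun h => Nat.not_even_iff_odd.2 (h5.of_dvd_nat h) e'
    · simpa [h8, e'] using h13⟩
  obtain ⟨x, h17, h18, h19⟩ := key _ (isIsometry_nat g) h15
  exact not_res_min hD' h17 hr hE h18 (fun g hg e => Nat.not_even_iff_odd.2 (h5.of_dvd_nat h13)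
    ((pd_id_iff hr h2 hE hg).1 e)) (by rw [rk_sim h19, rk_of_pow hr hF h15, h16, h12, H.rank])

end Qx

theorem om_ext {ι : Type} [Fintype ι] [DecidableEq ι] [Finite F] (p : ℕ) [Fact p.Prime] [CharP F p]
    {D : Form (quadKind F) (ι → F)} (hD : D.Nondeg) (h2 : (2 : F) ≠ 0) (hn : Fintype.card ι = 2 * d)
    (hd : 3 ≤ d) {K : Subalgebra F (Matrix ι ι F)} (hK : Geo.IsFieldSubalgebra 2 K)
    (hf : Geo.IsSelfAdjointFor (QuadraticMap.polar D.Q) K) (hr : r.Prime)
    (hΩ : r ∣ (Geo.subalgebraNormalizer K).relIndex (Geo.omegaGL D.Q)) :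
    (∀ x ∈ Geo.omegaGL D.Q, (∃ z : F, ((x ^ r : GL ι F) : Matrix ι ι F) = z • (1 : Matrix ι ι F)) →
      (∀ z : F, (x : Matrix ι ι F) ≠ z • (1 : Matrix ι ι F)) →
      ∃ g ∈ Geo.omegaGL D.Q, g⁻¹ * x * g ∈ Geo.subalgebraNormalizer K) ↔ r = 2 := by
  have : Nonempty ι := Fintype.card_pos_iff.1 (by omega)
  obtain ⟨E, _, _, _, _, _, _, e, h1, -, h4, -, h5, h3⟩ := exists_field hK
  have : Finite E := Module.finite_of_finite F
  obtain ⟨σ, μ, H⟩ := exists_qx h2 h1
  obtain ⟨D', hD', hB⟩ := H.exists_quad hD fun a u v => by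
    rw [h5, h5]; exact (polar_toQuad D _ _).symm.trans ((hf _ (h4 a) u v).trans (polar_toQuad D _ _))
  have hN := fun g => mem_comap_toGL (D := D) (g := g) (inM_nk h3)
  rw [omegaGL_eq_commutator, ← Subgroup.relIndex_comap] at hΩ
  rw [isoc_iff (omegaGL_eq_commutator D) (S := Om D) (P := OC _) (fun _ => .rfl)
    (fun x _ c h => ⟨x, rfl, 1, one_mem _, ?_⟩) fun x _ => ⟨fun h => ⟨x, rfl, h⟩,
      fun ⟨_, h, h'⟩ => nat_injective D h ▸ h'⟩, H.main hB hD hD' p (by simpa) hd hr hN hΩ]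
  rw [inv_one, one_mul, mul_one, hN, h, Algebra.algebraMap_eq_smul_one]
  refine sc_nk _ c ?_ nk_one
  rintro rfl
  exact ((Group.isUnit x).map (nat D)).ne_zero (h.trans (map_zero _))

end Cfsg.Lib.Elu
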