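import Cfsg.Agent.Lib.Elu.C3
import Cfsg.Agent.Lib.Max.TM

/-!
Elements of prime order and stabilizers of tensor decompositions.
-/

set_option autoImplicit false

namespace Cfsg.Lib.Elu

open Module Cfsg.Lib.Forms Cfsg.Lib.Forms.Form Cfsg.Lib.Known Cfsg.Lib.Conj TensorProduct
  Cfsg.Lib.Forms.Ten

variable {F U W V : Type*} [Field F] [AddCommGroup U] [Module F U] [AddCommGroup W] [Module F W]
  [AddCommGroup V] [Module F V] {A : End F U} {B : End F W} {x y : End F V} {r n a b d : ℕ}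
  {c z : F} {Φ : U ⊗[F] W ≃ₗ[F] V}

/-- Maps preserving a tensor decomposition. -/
def TS (Φ : U ⊗[F] W ≃ₗ[F] V) (y : End F V) : Prop :=
  ∃ (A : End F U) (B : End F W), IsUnit A ∧ IsUnit B ∧ ∀ t, Φ (map A B t) = y (Φ t)

theorem sc_ts : Sc (TS Φ) := fun x c hc ⟨A, B, h1, h2, h⟩ =>
  ⟨c • A, B, Algebra.smul_def c A ▸ (hc.isUnit.map _).mul h1, h2, fun t => by
    simp [map_smul_left, h]⟩

theorem ts_conj (h1 : IsUnit A) (h2 : IsUnit B) : TS Φ (Φ.conj (map A B)) :=
  ⟨A, B, h1, h2, fun t => by simp⟩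

theorem sim_conj (x : End F (U ⊗[F] W)) : Sim x (Φ.conj x) := ⟨Φ, fun t => by simp⟩

theorem gc_ts (h1 : IsUnit A) (h2 : IsUnit B) (h : Sim (map A B) y) : GC (TS Φ) y :=
  ⟨_, ts_conj h1 h2, (sim_conj _).symm.trans h⟩

theorem inM_ts {ι : Type} [Fintype ι] [DecidableEq ι] {Φ : U ⊗[F] W ≃ₗ[F] (ι → F)}
    {M : Subgroup (GL ι F)} (h : M.comap (toM Φ) = tens F U W) : InM M = TS Φ := by
  ext y
  refine ⟨?_, fun ⟨A, B, h1, h2, h3⟩ => ?_⟩
  · rintro ⟨g, hg, rfl⟩
    obtain ⟨g, rfl⟩ : ∃ k, toM Φ k = g :=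
      ((glEquiv ι F).symm.surjective.comp (linAutCongr Φ).surjective) g
    obtain ⟨a, b, rfl⟩ := (show g ∈ tens F U W from h ▸ hg)
    exact ⟨a, b, (End.isUnit_iff _).2 a.bijective, (End.isUnit_iff _).2 b.bijective,
      fun t => (toM_mulVec Φ (congr a b) t).symm⟩
  · obtain ⟨a, rfl⟩ := exists_equiv_of_isUnit h1
    obtain ⟨b, rfl⟩ := exists_equiv_of_isUnit h2
    refine ⟨toM Φ (congr a b), show _ ∈ M.comap _ from h ▸ ⟨a, b, rfl⟩, LinearMap.ext fun v => ?_⟩
    obtain ⟨t, rfl⟩ := Φ.surjective v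
    exact (toM_mulVec ..).trans (h3 t)

theorem exists_indep (h : ∀ c, A ≠ algebraMap F _ c) :
    ∃ (v : U) (ψ : Dual F U), ψ v = 0 ∧ ψ (A v) = 1 := by
  by_contra! H
  obtain ⟨c, hc⟩ := LinearMap.exists_eq_smul_id_of_forall_notLinearIndependent (f := A) fun v hv => by
    obtain ⟨ψ, h1, h2⟩ := Submodule.exists_dual_map_eq_bot_of_notMem (p := F ∙ v) (x := A v)
      (fun e => by
        obtain ⟨t, ht⟩ := Submodule.mem_span_singleton.1 e
        simpa using (LinearIndependent.pair_iff.1 hv t (-1) (by simp [ht])).2) inferInstance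
    refine H v ((ψ (A v))⁻¹ • ψ) ?_ (by simp [h1])
    simpa [h1] using h2.le (Submodule.mem_map_of_mem (Submodule.mem_span_singleton_self v))
  exact h c hc

theorem scalar_left [Nontrivial W] (hB : IsUnit B) (h : map A B = algebraMap F _ z) :
    ∃ c, A = algebraMap F _ c := by
  by_contra! H
  obtain ⟨v, ψ, h1, h2⟩ := exists_indep H
  obtain ⟨w, hw⟩ := exists_ne (0 : W)
  have := congrArg (ctl W ψ) (LinearMap.congr_fun h (v ⊗ₜ w))
  exact hw (((End.isUnit_iff _).1 hB).1 (by simpa [h1, h2] using this))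

theorem map_scalar_left (c : F) (B : End F W) :
    map (algebraMap F (End F U) c) B = map (1 : End F U) (c • B) := by
  rw [Algebra.algebraMap_eq_smul_one, map_smul_left, map_smul_right]

theorem map_scalar_right (c : F) (A : End F U) :
    map A (algebraMap F (End F W) c) = map (c • A) (1 : End F W) := by
  rw [Algebra.algebraMap_eq_smul_one, map_smul_left, map_smul_right]

variable [FiniteDimensional F U] [FiniteDimensional F W]

theorem le_rng_map (hA : IsUnit A) (hB : IsUnit B) (h1 : ∀ c, A ≠ algebraMap F _ c)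
    (h2 : ∀ c, B ≠ algebraMap F _ c) (c : F) :
    finrank F U + finrank F W ≤ finrank F (rng (map A B) c) + 2 := by
  obtain ⟨v, ψ, h3, h4⟩ := exists_indep h1
  obtain ⟨w, φ, h5, h6⟩ := exists_indep h2
  have h7 : v ≠ 0 := by rintro rfl; simp at h4
  obtain ⟨χ, h8⟩ := Module.Projective.exists_dual_eq_one F h7
  have iA := ((End.isUnit_iff _).1 hA).1
  have iB := ((End.isUnit_iff _).1 hB).1
  let L := ((map A B - algebraMap F _ c : End F _).rangeRestrict) ∘ₗ
    (cu U w ∘ₗ (LinearMap.ker χ).subtype).coprod (mk F U W v ∘ₗ (LinearMap.ker φ).subtype)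
  have h9 := LinearMap.finrank_le_finrank_of_injective (f := L) ((injective_iff_map_eq_zero _).2
    fun ⟨⟨s, hs⟩, t, ht⟩ h => by
      have e1 : A s ⊗ₜ[F] B w + A v ⊗ₜ B t - c • (s ⊗ₜ w + v ⊗ₜ t) = 0 := by
        simpa [L] using congrArg Subtype.val h
      rw [LinearMap.mem_ker] at hs ht
      have e2 : A (s + φ (B t) • v) = 0 := by
        simpa [h5, h6, ht] using congrArg (ctr U φ) e1
      have e3 := iA (e2.trans (map_zero A).symm)
      have e4 : φ (B t) = 0 := by simpa [hs, h8] using congrArg χ e3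
      obtain rfl : s = 0 := by simpa [e4] using e3
      obtain rfl : t = 0 := iB (by simpa [h3, h4] using congrArg (ctl W ψ) e1)
      rfl)
  have e1 := Module.Dual.finrank_ker_add_one_of_ne_zero (f := χ) (by rintro rfl; simp at h8)
  have e2 := Module.Dual.finrank_ker_add_one_of_ne_zero (f := φ) (by rintro rfl; simp at h6)
  have : finrank F (LinearMap.ker χ) + finrank F (LinearMap.ker φ) ≤
    finrank F (rng (map A B) c) := finrank_prod.symm.trans_le h9
  omega

theorem rng_one_map (B : End F W) (c : F) :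
    finrank F (rng (map (1 : End F U) B) c) = finrank F U * finrank F (rng B c) := by
  have : (map (1 : End F U) B - algebraMap F _ c : End F _) = map 1 (B - algebraMap F _ c) :=
    ext' fun u w => by simp [tmul_sub]
  rw [rng, this, TF.rk_map, End.one_eq_id, LinearMap.range_id, finrank_top, rng]

theorem rng_map_one (A : End F U) (c : F) :
    finrank F (rng (map A (1 : End F W)) c) = finrank F W * finrank F (rng A c) := by
  have : (map A (1 : End F W) - algebraMap F _ c : End F _) = map (A - algebraMap F _ c) 1 :=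
    ext' fun u w => by simp [sub_tmul, smul_tmul']
  rw [rng, this, TF.rk_map, End.one_eq_id, LinearMap.range_id, finrank_top, rng, mul_comm]

omit [FiniteDimensional F U] [FiniteDimensional F W] in
theorem rng_sim {V' : Type*} [AddCommGroup V'] [Module F V'] [FiniteDimensional F V] {y : End F V'}
    (h : Sim x y) (c : F) : finrank F (rng x c) = finrank F (rng y c) := by
  have : FiniteDimensional F V' := let ⟨e, _⟩ := h; e.finiteDimensional
  have h1 : finrank F V = finrank F V' := let ⟨e, _⟩ := h; e.finrank_eq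
  have := finrank_eig_add_rng x c
  have := finrank_eig_add_rng y c
  have := finrank_eig_sim h c
  omega

theorem TS.cases (h : TS Φ x) : (∃ B : End F W, ∀ t, Φ (map 1 B t) = x (Φ t)) ∨
    (∃ A : End F U, ∀ t, Φ (map A 1 t) = x (Φ t)) ∨
    ∃ (A : End F U) (B : End F W), IsUnit B ∧ (∀ t, Φ (map A B t) = x (Φ t)) ∧
      (∀ c, A ≠ algebraMap F _ c) ∧ ∀ c, finrank F U + finrank F W ≤ finrank F (rng x c) + 2 := by
  obtain ⟨A, B, h1, h2, h⟩ := h
  by_cases h3 : ∃ c, A = algebraMap F _ c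
  · obtain ⟨c, rfl⟩ := h3
    exact .inl ⟨_, map_scalar_left (U := U) c B ▸ h⟩
  by_cases h4 : ∃ c, B = algebraMap F _ c
  · obtain ⟨c, rfl⟩ := h4
    exact .inr (.inl ⟨_, map_scalar_right (W := W) c A ▸ h⟩)
  push Not at h3 h4
  exact .inr (.inr ⟨A, B, h2, h, h3, fun c => rng_sim ⟨Φ, h⟩ c ▸ le_rng_map h1 h2 h3 h4 c⟩)

theorem GC.ts_rng (h : GC (TS Φ) y) : (∀ c, finrank F U ∣ finrank F (rng y c)) ∨
    (∀ c, finrank F W ∣ finrank F (rng y c)) ∨
    ∀ c, finrank F U + finrank F W ≤ finrank F (rng y c) + 2 := by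
  have := Φ.finiteDimensional
  obtain ⟨x, h, e⟩ := h
  simp only [← rng_sim e]
  obtain ⟨B, h⟩ | ⟨A, h⟩ | ⟨-, -, -, -, -, h⟩ := h.cases
  · exact .inl fun c => ⟨_, (rng_sim ⟨Φ, h⟩ c).symm.trans (rng_one_map B c)⟩
  · exact .inr (.inl fun c => ⟨_, (rng_sim ⟨Φ, h⟩ c).symm.trans (rng_map_one A c)⟩)
  · exact .inr (.inr h)

theorem not_gc_ts (ha : finrank F U = a) (hb : finrank F W = b) (h2 : 2 ≤ a) (h3 : 3 ≤ b)
    (h : finrank F (rng y c) = 1 ∨ finrank F (rng y c) = 2 ∧
      (2 < a ∨ ∃ c, finrank F (rng y c) + 1 = a * b)) : ¬ GC (TS Φ) y := fun H => by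
  subst ha hb
  obtain H | H | H := H.ts_rng
  · have := Nat.le_of_dvd (by omega) (H c)
    obtain h | ⟨e, h | ⟨c, h⟩⟩ := h
    · omega
    · omega
    have := Nat.le_of_dvd one_pos ((Nat.dvd_add_right (H c)).1 ⟨_, h⟩)
    omega
  · have := Nat.le_of_dvd (by omega) (H c)
    omega
  · have := H c
    omega

omit [FiniteDimensional F U] [FiniteDimensional F W] in
theorem map_pow_eq (h : ∀ t, Φ (map A B t) = x (Φ t)) (hx : x ^ r = 1) :
    map (A ^ r) (B ^ r) = algebraMap F _ 1 := by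
  rw [← TensorProduct.map_pow]
  exact sim_pow_scalar (Sim.symm ⟨Φ, h⟩) (by simpa)

variable [Finite F]

theorem not_ts_min (hr : r.Prime) (hF : (r : F) ≠ 0) (h2 : 2 ≤ finrank F U) (h3 : 3 ≤ finrank F W)
    {k : ℕ} (hk : 0 < k) (hi : io r F = 1 → k ≤ finrank F U) (hx : x ^ r = 1) (h : rk x = k)
    (hB : ∀ B : End F W, (∀ t, Φ (map 1 B t) = x (Φ t)) → B ^ r = 1 → B ≠ 1 → k ≤ rk B)
    (hA : ∀ (A : End F U) (B : End F W), (∀ t, Φ (map A B t) = x (Φ t)) → A ^ r = 1 → A ≠ 1 →
      B = 1 ∨ io r F ≠ 1 → k ≤ rk A) : ¬ TS Φ x := fun H => by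
  have := nontrivial_of_finrank_pos (R := F) (M := U) (by omega)
  have := nontrivial_of_finrank_pos (R := F) (M := W) (by omega)
  obtain ⟨u, hu⟩ := exists_ne (0 : U)
  obtain ⟨w, hw⟩ := exists_ne (0 : W)
  obtain ⟨B, H⟩ | ⟨A, H⟩ | ⟨A, B, h4, H, h5, h6⟩ := H.cases
  · have e := (h.symm.trans (rng_sim ⟨Φ, H⟩ 1).symm).trans (rng_one_map B 1)
    obtain ⟨ψ, hψ⟩ := Module.Projective.exists_dual_eq_one F hu
    have := hB B H (LinearMap.ext fun w => by
      simpa [hψ] using congrArg (ctl W ψ) (LinearMap.congr_fun (map_pow_eq H hx) (u ⊗ₜ w))) (by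
      rintro rfl; rw [rng, map_one, sub_self, LinearMap.range_zero, finrank_bot] at e; omega)
    unfold rk at this; nlinarith
  · have e := (h.symm.trans (rng_sim ⟨Φ, H⟩ 1).symm).trans (rng_map_one A 1)
    have := hA A 1 H (LinearMap.ext fun u => cu_injective hw (by
      simpa using LinearMap.congr_fun (map_pow_eq H hx) (u ⊗ₜ w))) (by
      rintro rfl; rw [rng, map_one, sub_self, LinearMap.range_zero, finrank_bot] at e; omega) (.inl rfl)
    unfold rk at this; nlinarith
  have h7 := h6 1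
  have h8 : io r F ≠ 1 := fun e => by have := hi e; unfold rk at h; omega
  obtain ⟨c, hc⟩ := scalar_left (h4.pow r) (map_pow_eq H hx)
  have h9 : c ≠ 0 := by
    rintro rfl
    have := LinearMap.congr_fun (map_pow_eq H hx) (u ⊗ₜ w)
    exact TF.tmul_ne_zero hu hw (by simpa [hc] using this.symm)
  obtain ⟨s, -, hs⟩ := exists_root_of_coprime ((Nat.Prime.coprime_iff_not_dvd hr).2
    (mt io_eq_one_iff.2 h8)) (pow_card_sub_one h9) (by have := Finite.one_lt_card (α := F); omega)
  have h10 : s ≠ 0 := by rintro rfl; exact h9 (by simpa [hr.ne_zero] using hs.symm)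
  have := hA (s⁻¹ • A) (s • B) (fun t => by simp [map_smul_left, map_smul_right, h10, H])
    (smul_pow_eq_one h10 hs hc) (fun e => h5 s (by
      rw [Algebra.algebraMap_eq_smul_one, ← e, smul_inv_smul₀ h10])) (.inr h8)
  have := Submodule.finrank_le (rng (s⁻¹ • A) 1)
  unfold rk at *; omega

omit [Finite F] in
theorem finrank_ts (Φ : U ⊗[F] W ≃ₗ[F] V) : finrank F V = finrank F U * finrank F W := by
  rw [← Φ.finrank_eq, finrank_tensorProduct]

omit [Finite F] in
theorem eig_one_map (B : End F W) (c : F) :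
    finrank F (eig (map (1 : End F U) B) c) = finrank F U * finrank F (eig B c) := by
  have h1 := finrank_eig_add_rng (map (1 : End F U) B) c
  rw [rng_one_map, finrank_tensorProduct, ← finrank_eig_add_rng B c] at h1
  linarith

omit [Finite F] [FiniteDimensional F U] [FiniteDimensional F W] in
theorem one_map_pow (h : B ^ r = 1) : map (1 : End F U) B ^ r = 1 := by
  rw [TensorProduct.map_pow, h, one_pow, TensorProduct.map_one]

omit [Finite F] [FiniteDimensional F U] [FiniteDimensional F W] in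
theorem map_one_pow (h : A ^ r = algebraMap F _ z) :
    map A (1 : End F W) ^ r = algebraMap F _ z := by
  rw [TensorProduct.map_pow, h, one_pow, map_scalar_left, map_smul_right, TensorProduct.map_one,
    Algebra.algebraMap_eq_smul_one]

theorem lin_ts (p : ℕ) [Fact p.Prime] [CharP F p] (ha : finrank F U = a) (hb : finrank F W = b)
    (h1 : 2 ≤ a) (h3 : 3 ≤ b) (hr : r.Prime) (hΩ : (r : F) ≠ 0 → io r F ≤ a * b) :
    AllE D1 r (SC (TS Φ)) ↔ r = 2 ∧ a = 2 ∧ (2 : F) ≠ 0 ∧
      padicValNat 2 (Nat.card F - 1) ≤ padicValNat 2 (a * b) := by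
  classical
  have := Φ.finiteDimensional
  have hn : finrank F V = a * b := by rw [finrank_ts Φ, ha, hb]
  have h0 : 6 ≤ a * b := by nlinarith
  have := nontrivial_of_finrank_pos (R := F) (M := V) (by omega)
  have dg : ∀ u v : F, u * v = 1 → u ≠ 1 → v ≠ 1 → u ^ r = 1 → v ^ r = 1 → (2 < a ∨ u ≠ v) →
      ¬ AllE D1 r (SC (TS Φ)) := fun u v e1 e2 e3 e4 e5 e6 => by
    obtain ⟨y, hy⟩ := exists_dgm (V := V) (s := u ::ₘ v ::ₘ Multiset.replicate (a * b - 2) 1)
      (by simp; omega)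
    have e7 := finrank_eig_add_rng y 1
    have e8 := finrank_eig_add_rng y u
    rw [hy.eig] at e7 e8
    refine not_allE sc_ts (hy.pow_eq_one.2 (by simp +contextual [Multiset.mem_replicate, *]))
      one_ne_zero (by simp [hy.det, e1]) (not_gc_ts (c := 1) ha hb h1 h3 (.inr ⟨?_,
        e6.imp_right fun e => ⟨u, ?_⟩⟩))
    · simp [e2.symm, e3.symm] at e7; omega
    · simp [e, Multiset.count_replicate, e2.symm] at e8; omega
  rcases r_cases (F := F) p hr with rfl | ⟨rfl, -, h2⟩ | ⟨-, -, h2, h4, hF⟩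
  · obtain ⟨y, h4, h5⟩ := exists_tv (F := F) (V := V) r (by omega)
    have := finrank_eig_add_rng y 1
    exact iff_of_false (not_allE sc_ts h4 one_ne_zero (by simpa using det_unip (nil_of_pow_char r h4))
      (not_gc_ts (c := 1) ha hb h1 h3 (.inl (by omega)))) fun ⟨e, _, h, _⟩ =>
      h (by subst e; exact CharTwo.two_eq_zero)
  · have h4 : (-1 : F) ≠ 1 := fun e => h2 (by linear_combination -e)
    simp only [h2, ne_eq, not_false_iff, true_and]
    refine ⟨fun H => ⟨by_contra fun e => dg (-1) (-1) (by simp) h4 h4 (by simp) (by simp)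
      (.inl (by omega)) H, by_contra fun e => not_allE_refl h2 hn (by omega) (by omega) sc_ts
        (fun x h5 _ _ h6 => ?_) H⟩, fun ⟨e, H⟩ =>
      (allE_sc Nat.prime_two h2 sc_ts hn).2 ⟨fun y hy w h5 h6 => ?_, fun x z hz hx _ => ?_⟩⟩
    · have := finrank_eig_add_rng x 1
      exact not_gc_ts (c := 1) ha hb h1 h3 (.inl (by omega)) (.of h5)
    · obtain ⟨k, hk⟩ := (neg_one_pow_eq_one_iff_even h4).1 ((det_of_sq h2 hy).symm.trans
        (det_eq_one_of_sq h2 (by omega) H hy h5 h6))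
      have := Submodule.finrank_le (eig y (-1))
      subst e
      obtain ⟨B, hB⟩ := exists_dgm (F := F) (V := W)
        (s := Multiset.replicate k (-1) + Multiset.replicate (b - k) 1) (by simp; omega)
      have h7 : B ^ 2 = 1 := hB.pow_eq_one.2 (by simp +contextual [Multiset.mem_replicate, or_imp])
      exact gc_ts isUnit_one (isUnit_of_pow Nat.prime_two h7) (sim_of_sq h2 (one_map_pow h7) hy
        Φ.finrank_eq (by rw [eig_one_map, hB.eig]; simp [Multiset.count_replicate, h4.symm, ha]; omega))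
    · obtain ⟨A, hA⟩ := exists_nonpow (V := U) Nat.prime_two hz (k := 1) (by omega)
      have h7 := (nonpow_props two_ne_zero hA).2.1
      exact gc_ts ((isUnit_pow_iff two_ne_zero).1 (h7 ▸ (IsUnit.mk0 z fun e =>
        hz 0 (by simp [e])).map _)) isUnit_one
        (sim_nonpow Nat.prime_two hz (map_one_pow h7) hx Φ.finrank_eq)
  refine iff_of_false ?_ (by simp [h2])
  by_cases hi : io r F = 1
  · obtain ⟨ζ, hζ⟩ := exists_primRoot (io_eq_one_iff.1 hi)
    have h5 := hζ.ne_one hr.one_lt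
    have h6 := hζ.ne_zero hr.ne_zero
    exact dg ζ ζ⁻¹ (mul_inv_cancel₀ h6) h5 (inv_ne_one.2 h5) hζ.pow_eq_one
      (by rw [inv_pow, hζ.pow_eq_one, inv_one]) (.inr fun e => h2 ((Nat.prime_dvd_prime_iff_eq hr
        Nat.prime_two).1 (hζ.dvd_of_pow_eq_one 2 (by rw [sq]; nth_rw 1 [e]; exact inv_mul_cancel₀ h6))))
  obtain ⟨y, h5, h6⟩ := exists_pow_card (V := V) hr hF (a := 1) (by simpa [hn] using hΩ hF)
  refine not_allE sc_ts h5 one_ne_zero (by simpa using det_eq_one_of_io hr hi h5) fun ⟨x, h7, h8⟩ =>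
    not_ts_min hr hF (by omega) (by omega) (io_pos hr hF) (fun e => absurd e hi)
      (by simpa using sim_pow_scalar (z := 1) h8.symm (by simpa using h5))
      (by rw [rk_sim h8, rk_of_pow hr hF h5, h6, mul_one]) (fun _ _ => io_le_of_pow hr hF)
      (fun _ _ _ e e' _ => io_le_of_pow hr hF e e') h7

theorem le_rk_iso {K : Kind (RingHom.id F)} {D : Form K U} (hD : D.Nondeg) (hr : r.Prime)
    (h2 : r ≠ 2) (hF : (r : F) ≠ 0) (hA : IsIsometry D D A) (h : A ^ r = 1) (h1 : A ≠ 1) :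
    (if Even (io r F) then io r F else 2 * io r F) ≤ rk A := by
  obtain ⟨a, ha, -⟩ := (prof_of (σ := RingHom.id F) (fun _ => rfl) hr hF _
    fun _ => pd_id_iff hr h2 hF).nd (fac_mem_Phi hr hF h) (map_pd_fac hD hA (ss_of_pow' hF h))
  have h3 := rk_of_pow hr hF h
  have : 0 < a := Nat.pos_of_ne_zero (by rintro rfl; exact h1 (rk_eq_zero (by simp [h3, ha])))
  rw [h3, ha]
  split_ifs <;> nlinarith

theorem sp_ts (p : ℕ) [Fact p.Prime] [CharP F p] {D : Form (altKind F) V} {β : Form (altKind F) U}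
    {ω : Form (quadKind F) W} (hD : D.Nondeg) (hβ : β.Nondeg) (hω : ω.Nondeg) (h2 : (2 : F) ≠ 0)
    (hB : ∀ u w u' w', D.B (Φ (u ⊗ₜ w)) (Φ (u' ⊗ₜ w')) = β.B u u' * ω.B w w')
    (ha : finrank F U = a) (hb : finrank F W = b) (h1 : 2 ≤ a) (h3 : 3 ≤ b) (hn : finrank F V = 2 * d)
    (hr : r.Prime) (hΩ : r ∣ Nat.card D.isom) :
    AllE (fun x => IsIsometry D D x) r (IC D (TS Φ)) ↔ r = 2 ∧ a = 2 := by
  have := Φ.finiteDimensional
  have hn' : finrank F V = a * b := by rw [finrank_ts Φ, ha, hb]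
  have h0 : 6 ≤ a * b := by nlinarith
  have := nontrivial_of_finrank_pos (R := F) (M := V) (by omega)
  have := nontrivial_of_finrank_pos (R := F) (M := U) (by omega)
  have := nontrivial_of_finrank_pos (R := F) (M := W) (by omega)
  have iso : ∀ (A : End F U) (B : End F W), IsIsometry β β A → IsIsometry ω ω B →
      IsIsometry D D (Φ.conj (map A B)) := fun A B e1 e2 => alt_isIsometry fun s t => by
    obtain ⟨s, rfl⟩ := Φ.surjective s
    obtain ⟨t, rfl⟩ := Φ.surjective t
    induction s <;> induction t <;> simp_all [e1.B_map, e2.B_map]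
  rcases r_cases (F := F) p hr with rfl | ⟨rfl, -, -⟩ | ⟨-, -, h4, h5, hF⟩
  · obtain ⟨y, h4, h5, h6⟩ := alt_tv r hD
    have := finrank_eig_add_rng y 1
    exact iff_of_false (fun H => not_gc_ts (c := 1) ha hb h1 h3 (.inl (by omega))
      (H y h4 ⟨1, by simpa⟩).gc) fun ⟨e, _⟩ => h2 (by subst e; exact CharTwo.two_eq_zero)
  · simp only [true_and]
    refine ⟨fun H => by_contra fun e => ?_, fun e =>
      (allE_two hD fun _ h => h).2 ⟨fun y h6 h7 => ?_, fun y h6 h7 => ?_⟩⟩
    · obtain ⟨T, hT⟩ := cp_alt.sub (fSymp_nondeg 1) hD (by rw [finrank_plus]; omega)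
      have h5 := hD.isOrthCompl ((D.nondeg_restrict_iff).1 (hT.symm.nondeg (fSymp_nondeg 1)))
      have h6 : finrank F T = 2 := by simpa using hT.finrank_eq
      have h7 := finrank_eig_pm h2 h5.symm
      have h9 := hD.finrank_perp T
      have := finrank_eig_add_rng (pm h5.symm) 1
      exact not_gc_ts (c := 1) ha hb h1 h3 (.inr ⟨by omega, .inl (by omega)⟩)
        (H _ (pm_isIsometry _) ⟨1, by simpa using pm_sq _⟩).gc
    · classical
      obtain ⟨k, hk⟩ := Symp.exists_finrank_eq (nondeg_eig hD (ss_of_pow' h2 h7) h6 (c := -1) (by simp))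
      have := Submodule.finrank_le (eig y (-1))
      subst e
      obtain ⟨B, h8⟩ := exists_dgm (F := F) (V := W)
        (s := Multiset.replicate k (-1) + Multiset.replicate (b - k) 1) (by simp; omega)
      have h9 : B ^ 2 = 1 := h8.pow_eq_one.2 (by simp +contextual [Multiset.mem_replicate, or_imp])
      obtain ⟨C, h10, h11⟩ := quad_invol h2 hω h9
      have h12 : C ^ 2 = 1 := by simpa using sim_pow_scalar (z := 1) h11.symm (by simpa using h9)
      have h4 : (1 : F) ≠ -1 := fun e => h2 (by linear_combination e)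
      exact ⟨_, ts_conj isUnit_one (isUnit_of_pow Nat.prime_two h12), (isoC_alt hD hD
        (ss_of_pow' h2 h7) h6 (iso 1 C ⟨fun _ _ => rfl, fun _ => rfl⟩ h10) ((sim_of_sq h2 h7
          (one_map_pow h12) Φ.finrank_eq.symm (by
            rw [eig_one_map, finrank_eig_sim h11, h8.eig]
            simp [Multiset.count_replicate, h4, ha]; omega)).trans (sim_conj _))).symm⟩
    · obtain ⟨A, h8, h9⟩ := alt_rt h2 hβ
      exact ⟨_, ts_conj (isUnit_of_isIsometry hβ h8.B_map) isUnit_one, (nr_neg_one h2).isoC hD hD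
        (iso A 1 h8 ⟨fun _ _ => rfl, fun _ => rfl⟩) h6 (sim_pow_scalar (sim_conj _) (map_one_pow h9))
        (by simpa using h7) rfl⟩
  refine iff_of_false (fun H => ?_) (by simp [h4])
  rw [Symp.card_isom hD hn, spOrder] at hΩ
  obtain ⟨j, h6, h7⟩ := exists_dvd_of_prod hr (card_ne_zero_zmod hr hF) hΩ
  rw [dvd_pow_sub_one_iff Nat.card_pos.ne'] at h7
  obtain ⟨c, hc⟩ : ∃ c, c = if Even (io r F) then io r F else 2 * io r F := ⟨_, rfl⟩
  have h8 : c ∣ 2 * (j + 1) := by
    rw [hc]; split_ifs with e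
    exacts [h7, Nat.mul_dvd_mul_left 2 ((Nat.coprime_two_right.2
      (Nat.not_even_iff_odd.1 e)).dvd_of_dvd_mul_left h7)]
  have h9 := Nat.le_of_dvd (by omega) h8
  obtain ⟨y, h10, h11, h12⟩ := alt_min hD hr h4 hF hc (by omega)
  obtain ⟨x, h13, h14⟩ := H y h10 ⟨1, by simpa⟩
  have h15 := h14.symm.isIsometry h10
  obtain ⟨u, hu⟩ := exists_ne (0 : U)
  obtain ⟨u', hu'⟩ := not_forall.1 (mt (hβ u) hu)
  obtain ⟨w, hw⟩ := exists_ne (0 : W)
  obtain ⟨w', hw'⟩ := not_forall.1 (mt (hω w) hw)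
  have key : ∀ {A : End F U} {B : End F W}, (∀ t, Φ (map A B t) = x (Φ t)) → ∀ u w u' w',
      β.B (A u) (A u') * ω.B (B w) (B w') = β.B u u' * ω.B w w' := fun e u w u' w' => by
    rw [← hB, ← hB, ← h15.B_map (Φ (u ⊗ₜ w)), ← e, ← e]; rfl
  refine not_ts_min hr hF (by omega) (by omega) (k := c) (Nat.pos_of_dvd_of_pos h8 (by omega))
    (fun e => by simpa [hc, e, ha])
    (by simpa using sim_pow_scalar (z := 1) h14.sim.symm (by simpa using h11))
    ((rk_sim h14.sim).trans h12) (fun B e e1 e2 => hc ▸ le_rk_iso hω hr h4 hF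
      (quad_of_B h2 fun w w' => mul_left_cancel₀ hu' (key e u w u' w')) e1 e2)
    (fun A B e e1 e2 e3 => hc ▸ le_rk_iso hβ hr h4 hF (alt_isIsometry fun s t => ?_) e1 e2) h13
  obtain rfl | e3 := e3
  · exact mul_right_cancel₀ hw' (key e s w t w')
  have e4 : ω.B (B w) (B w') ≠ 0 := fun h => mul_ne_zero hu' hw' (by rw [← key e, h, mul_zero])
  have e5 : Mu β (ω.B w w' / ω.B (B w) (B w')) A := fun s t => by
    field_simp; linear_combination key e s w t w'
  rw [e5, eq_one_of_io hr e3 _ ((e5.norm hβ (z := 1) (by simpa using e1)).trans (by simp)), one_mul]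

end Cfsg.Lib.Elu
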