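import Cfsg.Agent.Lib.Elu.C3
import Cfsg.Agent.Lib.PGrp.Extra

/-!
Elements of prime order and normalizers of groups of symplectic type.
-/

set_option autoImplicit false

namespace Cfsg.Lib.Elu

open Module Cfsg.Lib.Forms Cfsg.Lib.Forms.Form Cfsg.Lib.Known Cfsg.Lib.Conj Subgroup

variable {F V Γ : Type*} [Field F] [AddCommGroup V] [Module F V] [Group Γ] {ρ : Γ →* End F V}
  {x y m S T : End F V} {r n k : ℕ} {c z : F} {a b s t : Γ}

/-- Invertible maps normalizing the image of `ρ`. -/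
def NR (ρ : Γ →* End F V) (y : End F V) : Prop := IsUnit y ∧ ∀ a, ∃ b, y * ρ a = ρ b * y

theorem sc_nr : Sc (NR ρ) := fun x c hc ⟨h1, h⟩ =>
  ⟨Algebra.smul_def c x ▸ (hc.isUnit.map _).mul h1, fun a => (h a).imp fun b e => by simp [e]⟩

theorem NR.mul (hx : NR ρ x) (hy : NR ρ y) : NR ρ (x * y) := ⟨hx.1.mul hy.1, fun a =>
  let ⟨b, h⟩ := hy.2 a; let ⟨c, h'⟩ := hx.2 b
  ⟨c, by rw [mul_assoc, h, ← mul_assoc, h', mul_assoc]⟩⟩

theorem unit_rho (a : Γ) : IsUnit (ρ a) := (Group.isUnit a).map ρ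

theorem nr_rho (a : Γ) : NR ρ (ρ a) :=
  ⟨unit_rho a, fun b => ⟨a * b * a⁻¹, by rw [← map_mul, ← map_mul]; simp⟩⟩

theorem nr_one : NR ρ 1 := map_one ρ ▸ nr_rho 1

theorem NR.pow (h : NR ρ y) (k : ℕ) : NR ρ (y ^ k) := by
  induction k with
  | zero => simpa using nr_one
  | succ k ih => exact pow_succ y k ▸ ih.mul h

theorem nr_of_closure {X : Set Γ} (hX : closure X = ⊤) (hy : IsUnit y)
    (h : ∀ a ∈ X, ∃ b, y * ρ a = ρ b * y) : NR ρ y := by
  refine ⟨hy, fun a => ?_⟩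
  induction (hX ▸ mem_top a : a ∈ closure X) using closure_induction with
  | mem a ha => exact h a ha
  | one => exact ⟨1, by simp⟩
  | mul a b _ _ h1 h2 =>
    obtain ⟨a', h1⟩ := h1; obtain ⟨b', h2⟩ := h2
    exact ⟨a' * b', by rw [map_mul, map_mul, ← mul_assoc, h1, mul_assoc, h2, mul_assoc]⟩
  | inv a _ h1 =>
    obtain ⟨a', h1⟩ := h1
    refine ⟨a'⁻¹, (unit_rho (ρ := ρ) a').mul_left_cancel ?_⟩
    rw [← mul_assoc, ← h1, mul_assoc, ← mul_assoc (ρ a'), ← map_mul, ← map_mul]; simp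

section Mat

variable {ι : Type} [Fintype ι] [DecidableEq ι]

/-- The natural representation of a matrix group. -/
noncomputable def rep (R : Subgroup (GL ι F)) : R →* End F (ι → F) :=
  (Matrix.toLinAlgEquiv' : Matrix ι ι F ≃ₐ[F] _).toMonoidHom.comp ((Units.coeHom _).comp R.subtype)

theorem rep_apply {R : Subgroup (GL ι F)} (a : R) :
    rep R a = Matrix.toLin' ((a : GL ι F) : Matrix ι ι F) := rfl

theorem rep_injective (R : Subgroup (GL ι F)) : Function.Injective (rep R) := fun _ _ h =>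
  Subtype.ext (Units.ext (Matrix.toLin'.injective h))

theorem inM_nr [Finite F] (R : Subgroup (GL ι F)) : InM (Geo.subgroupNormalizer R) = NR (rep R) := by
  have key : ∀ (g : GL ι F) (a b : R), Matrix.toLin' (g : Matrix ι ι F) * rep R a =
      rep R b * Matrix.toLin' (g : Matrix ι ι F) ↔ g * a * g⁻¹ = b := fun g a b => by
    rw [mul_inv_eq_iff_eq_mul, Units.ext_iff, ← Matrix.toLin'.injective.eq_iff]
    simp [rep_apply, Matrix.toLin'_mul, End.mul_eq_comp]
  ext y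
  refine ⟨?_, fun ⟨h1, h2⟩ => ?_⟩
  · rintro ⟨g, hg, rfl⟩
    exact ⟨g.isUnit.map (Matrix.toLinAlgEquiv' : Matrix ι ι F ≃ₐ[F] _), fun a =>
      ⟨⟨_, (mem_normalizer_iff.1 hg a).1 a.2⟩, (key g a _).2 rfl⟩⟩
  · obtain ⟨e, rfl⟩ := exists_equiv_of_isUnit h1
    refine ⟨ofLin F ι e, mem_normalizer_fintype fun a ha => ?_, toLin'_ofLin e⟩
    obtain ⟨b, hb⟩ := h2 ⟨a, ha⟩
    rw [← toLin'_ofLin, key] at hb
    exact hb ▸ b.2

theorem rep_irr {R : Subgroup (GL ι F)} (h : Geo.ActsAbsolutelyIrreducibly (Geo.matrixSet R))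
    (M : End F (ι → F)) (hM : ∀ a, M * rep R a = rep R a * M) : ∃ c, M = algebraMap F _ c := by
  obtain ⟨M, rfl⟩ := Matrix.toLin'.surjective M
  refine (h.2 M ?_).imp fun c => toLin'_eq_scalar.1
  rintro _ ⟨g, hg, rfl⟩
  simpa [rep_apply, End.mul_eq_comp, ← Matrix.toLin'_mul] using hM ⟨g, hg⟩

theorem exists_sl_order [Finite F] (hr : r.Prime) {M : Subgroup (GL ι F)}
    (h : r ∣ M.relIndex (Geo.specialLinear ι F)) :
    ∃ y : End F (ι → F), y ^ r = 1 ∧ y ≠ 1 ∧ LinearMap.det y = 1 := by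
  have := Fact.mk hr
  obtain ⟨g, hg⟩ := exists_prime_orderOf_dvd_card' r (h.trans (relIndex_dvd_card _ _))
  exact ⟨rep _ g, by rw [← map_pow, ← hg, pow_orderOf_eq_one, map_one], fun e => hr.ne_one (by
    rw [← hg, rep_injective _ (e.trans (map_one _).symm), orderOf_one]),
    (LinearMap.det_toLin' _).trans (congrArg Units.val g.2)⟩

end Mat

theorem mul_dvd_card {G : Type*} [Group G] {A M S : Subgroup G} (h1 : A ≤ M) (h2 : A ≤ S)
    (h : r ∣ M.relIndex S) : r * Nat.card A ∣ Nat.card S := by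
  rw [← (A.subgroupOf S).index_mul_card, Nat.card_congr (subgroupOfEquivOfLe h2).toEquiv]
  exact Nat.mul_dvd_mul_right (h.trans (relIndex_dvd_of_le_left S h1)) _

section IC

variable {σ : F →+* F} {K : Kind σ} {D : Form K V} {H : End F V → Prop}

theorem exists_isom_order [Finite F] [FiniteDimensional F V] (hr : r.Prime) {E : Subgroup D.isom}
    (h : r ∣ Nat.card E) : ∃ g ∈ E, nat D g ^ r = 1 ∧ nat D g ≠ 1 := by
  have := Fact.mk hr
  obtain ⟨g, hg⟩ := exists_prime_orderOf_dvd_card' r h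
  rw [← orderOf_coe] at hg
  exact ⟨g, g.2, by rw [← map_pow, ← hg, pow_orderOf_eq_one, map_one], fun e => hr.ne_one (by
    rw [← hg, show g.1 = 1 from isom_ext (LinearMap.congr_fun e), orderOf_one])⟩

theorem Sc.ic (hH : Sc H) : Sc (IC D H) := fun _ c hc ⟨h, h1, e, h2, h3⟩ =>
  ⟨c • h, hH h c hc h1, e, h2, fun v => by simp [h3]⟩

theorem allE_ic (hH : Sc H) {G : End F V → Prop} (h1 : ∀ x, G x → IsIsometry D D x)
    (h2 : ∀ x z, G x → x ^ r = algebraMap F _ z → ∃ w, w * σ w = 1 ∧ w ^ r = z)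
    (h3 : ∀ y : End F V, IsIsometry D D y → y ^ r = 1 → IC D H y) : AllE G r (IC D H) :=
  fun x hx ⟨z, hz⟩ => by
    obtain ⟨w, h4, rfl⟩ := h2 x z hx hz
    have h0 := left_ne_zero_of_mul_eq_one h4
    exact (hH.ic.iff (inv_ne_zero h0)).1 (h3 _ (isIsometry_smul' (h1 x hx) (norm_inv h4))
      (smul_pow_eq_one h0 rfl hz))

theorem Mu.mul {d : F} (h : Mu D c x) (h' : Mu D d y) : Mu D (c * d) (x * y) := fun u v => by
  rw [End.mul_apply, End.mul_apply, h, h', mul_assoc]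

theorem Mu.smul (h : Mu D c x) (d : F) : Mu D (σ d * d * c) (d • x) := fun u v => by
  simp [h u v]; ring

theorem Mu.one_add (h : Mu D 1 S) (h1 : S * S = -1) : Mu D 2 (1 + S) := fun u v => by
  have := h (S u) v
  rw [← End.mul_apply, h1] at this
  simp only [LinearMap.add_apply, End.one_apply, map_add, h u v]
  simp at this
  linear_combination -this

end IC

section Herm

variable {σ : F →+* F} {q : ℕ} {h : IsConj σ q} [Finite F]

theorem su_root [FiniteDimensional F V] [Nontrivial V] {D : Form h.kind V} (hD : D.Nondeg)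
    (hr : r.Prime) (hF : (r : F) ≠ 0) (hn : finrank F V = n)
    (H : ∀ z : F, r ∣ n → (-1) ^ n * (-z) ^ (n / r) = 1 → ∃ w, w * σ w = 1 ∧ w ^ r = z)
    (x : End F V) (z : F) (hx : IsIsometry D D x ∧ LinearMap.det x = 1)
    (hz : x ^ r = algebraMap F _ z) : ∃ w, w * σ w = 1 ∧ w ^ r = z := by
  by_contra! h2
  have h5 := nr_of_herm h hr hF (norm_of_pow hD hx.1 hz) h2
  subst hn
  obtain ⟨w, h6, h7⟩ := H z (h5.dvd hD ⟨x, hx.1, hz⟩) ((h5.det hD hx.1 hz).symm.trans hx.2)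
  exact h2 w h6 h7

variable {ι : Type} [Fintype ι] [DecidableEq ι] [Nonempty ι] {D : Form h.kind (ι → F)}
  {M G : Subgroup (GL ι F)} {H : End F (ι → F) → Prop}

theorem su_ic (hD : D.Nondeg) (hG : G = D.det.ker.map (toGL D)) (hH : InM M = H) (h0 : Sc H)
    {P : Prop} (h1 : AllE (fun x => IsIsometry D D x ∧ LinearMap.det x = 1) r (IC D H) ↔ P)
    (hF : P → (r : F) ≠ 0) :
    (∀ x ∈ G, (∃ z : F, ((x ^ r : GL ι F) : Matrix ι ι F) = z • (1 : Matrix ι ι F)) →
      (∀ z : F, (x : Matrix ι ι F) ≠ z • (1 : Matrix ι ι F)) → ∃ g ∈ G, g⁻¹ * x * g ∈ M) ↔ P := by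
  have inj : ∀ {x y : D.isom}, nat D x = nat D y → x = y := fun e => isom_ext (LinearMap.congr_fun e)
  rw [isoc_iff (P := fun y => ∀ x, nat D x = y → ∃ g ∈ D.det.ker, g⁻¹ * x * g ∈ M.comap (toGL D))
    hG (ker_det_iff hD) (fun x _ c e y e' => ⟨1, one_mem _, ?_⟩)
    (fun x _ => ⟨fun H y e => inj e ▸ H, fun H => H x rfl⟩), ← h1]
  · refine ⟨fun H y hy hz => ?_, fun H y hy ⟨z, hz⟩ x e => ?_⟩
    · obtain ⟨x, rfl⟩ := exists_nat hD hy.1
      obtain ⟨g, -, h2⟩ := H _ hy hz x rfl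
      exact ⟨_, (mem_comap_toGL hH).1 h2, isConj_iff_isoC.1 (isConj_iff.2 ⟨g, by group⟩)⟩
    · subst e
      obtain ⟨k, h2, h3⟩ := H _ hy ⟨z, hz⟩
      obtain ⟨k, rfl⟩ := exists_nat hD (h3.symm.isIsometry hy.1)
      obtain ⟨g, hg⟩ := isConj_iff.1 (isConj_iff_isoC.2 h3)
      obtain ⟨u, h4, h5⟩ := herm_exists_comm_det hD (g := x) (ss_of_pow_scalar (hF (h1.1 H))
        (ne_zero_of_pow ((Group.isUnit x).map (nat D)) hz) hz) g⁻¹
      refine ⟨u * g, by simp [h5], ?_⟩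
      rw [mul_inv_rev, mul_assoc, mul_assoc, ← mul_assoc x, ← h4, mul_assoc, inv_mul_cancel_left, ← hg]
      simpa [mul_assoc] using (mem_comap_toGL hH).2 h2
  · rw [inv_one, one_mul, mul_one, mem_comap_toGL hH, e', e, Algebra.algebraMap_eq_smul_one]
    refine h0 _ c ?_ ((mem_comap_toGL hH).1 (one_mem (M.comap (toGL D))))
    rintro rfl
    exact ((Group.isUnit x).map (nat D)).ne_zero (e.trans (map_zero _))

end Herm

/-- Faithful absolutely irreducible representations. -/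
structure Rp (ρ : Γ →* End F V) : Prop where
  inj : Function.Injective ρ
  irr : ∀ M, (∀ a, M * ρ a = ρ a * M) → ∃ c, M = algebraMap F _ c

/-- The elements commuting with `y`. -/
def cm (ρ : Γ →* End F V) (y : End F V) : Subgroup Γ where
  carrier := {a | Commute y (ρ a)}
  mul_mem' h h' := by simpa using Commute.mul_right h h'
  one_mem' := by simp
  inv_mem' {a} h := by
    have := Commute.units_inv_right (u := ρ.toHomUnits a) h
    rwa [← map_inv] at this

theorem mem_cm : a ∈ cm ρ y ↔ Commute y (ρ a) := Iff.rfl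

theorem Rp.cen (h : Rp ρ) (ha : a ∈ center Γ) : ∃ c, ρ a = algebraMap F _ c :=
  h.irr _ fun b => by rw [← map_mul, ← map_mul, mem_center_iff.1 ha]

theorem Rp.center_le (h : Rp ρ) : center Γ ≤ cm ρ y := fun _ ha =>
  let ⟨c, hc⟩ := h.cen ha; mem_cm.2 (hc ▸ (Algebra.commutes c y).symm)

theorem pow_conj {f : Γ → Γ} (hf : ∀ a, y * ρ a = ρ (f a) * y) (k : ℕ) (a : Γ) :
    y ^ k * ρ a = ρ (f^[k] a) * y ^ k := by
  induction k with
  | zero => simp
  | succ k ih => rw [pow_succ', mul_assoc, ih, ← mul_assoc, hf, Function.iterate_succ_apply', mul_assoc]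

theorem NR.count [Finite Γ] (h : NR ρ y) (hi : Function.Injective ρ) (hr : r.Prime) (hy : y ^ r = 1)
    (P : Γ → Prop) (hP : ∀ a b, y * ρ a = ρ b * y → P a → P b) :
    Nat.card {a // P a} ≡ Nat.card {a // P a ∧ a ∈ cm ρ y} [MOD r] := by
  choose f hf using h.2
  convert card_modEq_fix P f (fun a => hP a _ (hf a)) (k := 1) hr fun a _ => hi (by
    simpa [hy] using (pow_conj hf r a).symm) using 5 with a
  rw [mem_cm, Commute, SemiconjBy, hf, h.1.mul_left_inj, hi.eq_iff]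

theorem NR.card_cm [Finite Γ] (h : NR ρ y) (hi : Function.Injective ρ) (hr : r.Prime)
    (hy : y ^ r = 1) : Nat.card Γ ≡ Nat.card (cm ρ y) [MOD r] := by
  simpa using h.count hi hr hy (fun _ => True) fun _ _ _ _ => trivial

theorem Rp.scalar [Finite Γ] (h : Rp ρ) (hy : NR ρ y) (hr : r.Prime) (h1 : y ^ r = 1)
    (H : Nat.card (center Γ) ∣ Nat.card (cm ρ y) → Nat.card (cm ρ y) ∣ Nat.card Γ →
      Nat.card Γ ≡ Nat.card (cm ρ y) [MOD r] → Nat.card (cm ρ y) = Nat.card Γ) :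
    ∃ c, y = algebraMap F _ c := by
  have := (card_eq_iff_eq_top _).1 (H (card_dvd_of_le h.center_le) (card_subgroup_dvd_card _)
    (hy.card_cm h.inj hr h1))
  exact h.irr y fun a => mem_cm.1 (this ▸ mem_top a)

theorem not_gc_of_scalar {H : End F V → Prop} (h1 : y ^ r = 1) (h2 : ∀ c, y ≠ algebraMap F _ c)
    (h : ∀ x, H x → Sim x y → x ^ r = 1 → ∃ c, x = algebraMap F _ c) : ¬ GC H y :=
  fun ⟨x, h3, h4⟩ => by
    obtain ⟨c, hc⟩ := h x h3 h4 (by simpa using sim_pow_scalar (z := 1) h4.symm (by simpa using h1))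
    exact h2 c (by simpa using sim_pow_scalar (r := 1) h4 (by simpa using hc))

theorem not_scalar_of_det [FiniteDimensional F V] [Nontrivial V] (h1 : y ^ r = 1) (h2 : y ≠ 1)
    (h3 : LinearMap.det y = 1) (hn : finrank F V = n) (h : r.Coprime n) (c : F) :
    y ≠ algebraMap F _ c := by
  rintro rfl
  rw [← map_pow, ← map_one (algebraMap F (End F V)), (algebraMap F _).injective.eq_iff] at h1
  rw [Algebra.algebraMap_eq_smul_one, LinearMap.det_smul, map_one, mul_one, hn] at h3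
  exact h2 (by rw [eq_one_of_coprime h h3 h1, map_one])

/-- Anticommuting maps. -/
def An (S T : End F V) : Prop := S * T = -(T * S)

theorem An.symm (h : An S T) : An T S := by rw [An, h, neg_neg]

theorem An.mul_cm (h : An S T) (h' : Commute S m) : An S (T * m) := by
  rw [An, ← mul_assoc, h, neg_mul, mul_assoc, h'.eq, mul_assoc]

theorem An.cm_mul (h : An S T) (h' : Commute S m) : An S (m * T) := by
  rw [An, ← mul_assoc, h'.eq, mul_assoc, h, mul_neg, mul_assoc]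

theorem An.mul_an (h : An S T) (h' : An S m) : Commute S (T * m) := by
  rw [Commute, SemiconjBy, ← mul_assoc, h, neg_mul, mul_assoc, h', mul_neg, neg_neg, mul_assoc]

theorem An.mul_sq (h : An S T) : S * T * (S * T) = -(S * S * (T * T)) := by
  rw [mul_assoc, ← mul_assoc T, h.symm, neg_mul, mul_neg, mul_assoc, mul_assoc]

theorem eq_zero_of_neg (h2 : (2 : F) ≠ 0) {M : Type*} [AddCommGroup M] [Module F M] {v : M}
    (h : v = -v) : v = 0 :=
  (smul_eq_zero.1 (by rw [two_smul]; exact add_eq_zero_iff_eq_neg.2 h)).resolve_left h2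

theorem An.not_cm [Nontrivial V] (h : An S T) (h2 : (2 : F) ≠ 0) (hS : IsUnit S) (hT : IsUnit T) :
    ¬ Commute S T := fun e => (hT.mul hS).ne_zero (eq_zero_of_neg h2 (e.eq.symm.trans h))

theorem An.trace (h : An S T) (h2 : (2 : F) ≠ 0) (hT : IsUnit T) : LinearMap.trace F V S = 0 := by
  obtain ⟨T, rfl⟩ := hT
  refine eq_zero_of_neg h2 ?_
  conv_lhs => rw [← T.mul_inv_cancel_right S, h, neg_mul, map_neg, LinearMap.trace_mul_cycle]
  simp

theorem An.eig_eq [FiniteDimensional F V] (h : An S T) (hT : IsUnit T) (c : F) :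
    finrank F (eig S c) = finrank F (eig S (-c)) := by
  have key : ∀ c, finrank F (eig S c) ≤ finrank F (eig S (-c)) := fun c =>
    LinearMap.finrank_le_finrank_of_injective (f := T.restrict (p := eig S c) (q := eig S (-c))
      fun v hv => mem_eig.2 (by simpa [mem_eig.1 hv] using LinearMap.congr_fun h v))
      fun _ _ e => Subtype.ext (((End.isUnit_iff T).1 hT).1 (congrArg Subtype.val e))
  exact le_antisymm (key c) ((key (-c)).trans_eq (by rw [neg_neg]))

theorem An.eig_half [FiniteDimensional F V] (h : An S T) (h2 : (2 : F) ≠ 0) (hT : IsUnit T)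
    (h1 : S * S = 1) : 2 * finrank F (eig S (-1)) = finrank F V := by
  have := h.eig_eq hT 1
  have := eig_add_le (x := S) h2
  have := le_eig_add (y := S) (by rwa [pow_two])
  omega

theorem An.smul (h : An S T) (c d : F) : An (c • S) (d • T) := by
  simp [An, smul_smul, mul_comm c, show S * T = _ from h]

theorem exists_mem_inf [FiniteDimensional F V] {P Q : Submodule F V}
    (h : finrank F V < finrank F P + finrank F Q) : ∃ v ≠ 0, v ∈ P ∧ v ∈ Q := by
  have := Submodule.finrank_sup_add_finrank_inf_eq P Q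
  have := Submodule.finrank_le (P ⊔ Q)
  obtain ⟨v, h1, h2⟩ := Submodule.exists_mem_ne_zero_of_ne_bot (p := P ⊓ Q) fun e => by
    have : finrank F (P ⊓ Q : Submodule F V) = 0 := by rw [e, finrank_bot]
    omega
  exact ⟨v, h2, h1⟩

/-- Two commuting pairs of anticommuting maps. -/
structure G4 (A B C D : End F V) : Prop where
  ab : An A B
  cd : An C D
  ac : Commute A C
  ad : Commute A D
  bc : Commute B C
  bd : Commute B D

theorem G4.symm {A B C D : End F V} (h : G4 A B C D) : G4 C D A B :=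
  ⟨h.cd, h.ab, h.ac.symm, h.bc.symm, h.ad.symm, h.bd.symm⟩

theorem G4.smul {A B C D : End F V} (h : G4 A B C D) (a b c d : F) :
    G4 (a • A) (b • B) (c • C) (d • D) :=
  ⟨h.ab.smul _ _, h.cd.smul _ _, (h.ac.smul_left _).smul_right _, (h.ad.smul_left _).smul_right _,
    (h.bc.smul_left _).smul_right _, (h.bd.smul_left _).smul_right _⟩

/-- An element of order three. -/
noncomputable def om (S T : End F V) : End F V := (-2⁻¹ : F) • ((1 + S) * (1 + T))

theorem om_eq (h2 : (2 : F) ≠ 0) (h : An S T) (hS : S * S = -1) (hT : T * T = -1) :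
    om S T * om S T + om S T + 1 = 0 := by
  have e1 : ∀ X, S * (S * X) = -X := fun X => by rw [← mul_assoc, hS, neg_one_mul]
  have e2 : ∀ X, T * (S * X) = -(S * (T * X)) := fun X => by rw [← mul_assoc, h.symm, neg_mul, mul_assoc]
  simp only [om, smul_mul_assoc, mul_smul_comm, mul_add, add_mul, mul_assoc, one_mul, mul_one, e1, e2,
    show T * S = _ from h.symm, hS, hT, mul_neg, neg_neg]
  match_scalars <;> field_simp <;> ring

theorem cube_of (h : y * y + y + 1 = 0) : y ^ 3 = 1 := by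
  rw [← sub_eq_zero, ← mul_zero (y - 1), ← h]; noncomm_ring

theorem rk_of_cube [FiniteDimensional F V] (h3 : (3 : F) ≠ 0) (h : y * y + y + 1 = 0) :
    rk y = finrank F V := by
  have : eig y 1 = ⊥ := eq_bot_iff.2 fun v hv => by
    have h1 : y v = v := by simpa using mem_eig.1 hv
    have := LinearMap.congr_fun h v
    simp only [LinearMap.add_apply, End.mul_apply, h1, End.one_apply] at this
    exact (smul_eq_zero.1 (show (3 : F) • v = 0 from Eq.trans (by module) this)).resolve_left h3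
  rw [← finrank_eig_add_rng y 1, this, finrank_bot, zero_add, rk]

theorem rk_mul [FiniteDimensional F V] {X Y C : End F V} (h3 : (3 : F) ≠ 0) (h1 : X * X + X + 1 = 0)
    (h2 : Y * Y + Y + 1 = 0) (h4 : ¬ Commute C Y) (h5 : Commute C X) (h6 : Commute X Y) :
    (X * Y) ^ 3 = 1 ∧ rk (X * Y) ≠ 0 ∧ rk (X * Y) ≠ finrank F V := by
  have h7 : (X * Y) ^ 3 = 1 := by rw [h6.mul_pow, cube_of h1, cube_of h2, one_mul]
  refine ⟨h7, fun e => h4 ?_, fun e => h4 ?_⟩
  · rw [← one_mul Y, ← cube_of h1, pow_succ, mul_assoc, rk_eq_zero e, mul_one]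
    exact h5.pow_right 2
  have h8 := finrank_eig_add_rng (X * Y) 1
  have h9 : X * Y * (X * Y) + X * Y + 1 = 0 := LinearMap.ext fun v =>
    (Submodule.finrank_eq_zero.1 (show finrank F (eig (X * Y) 1) = 0 by unfold rk at e; omega)).le
      (mem_eig.2 (by
        rw [← End.mul_apply, mul_add, mul_add, ← pow_three, h7]; simp; abel))
  have h10 : (3 : F) • Y = (1 + X + X) * (2 + X) := by
    have e1 : X * X = -X - 1 := by rw [← sub_eq_zero, ← h1]; abel
    have e2 : Y * Y = -Y - 1 := by rw [← sub_eq_zero, ← h2]; abel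
    rw [h6.symm.mul_mul_mul_comm, e1, e2] at h9
    have e3 : (1 + X + X) * (1 + X + X) = (-3 : F) • 1 := by
      simp only [mul_add, add_mul, e1]; simp; module
    have e4 : (1 + X + X) * Y = -(2 + X) := by
      rw [← sub_eq_zero, ← h9, ← one_add_one_eq_two]; noncomm_ring
    rw [← neg_inj, ← neg_smul, ← one_mul Y, ← smul_mul_assoc, ← e3, mul_assoc, e4, mul_neg]
  simpa [← h10, h3] using ((((Commute.one_right C).add_right h5).add_right h5).mul_right
    ((Commute.ofNat_right C 2).add_right h5)).smul_right (3 : F)⁻¹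

theorem trace_of_sq [FiniteDimensional F V] (h2 : (2 : F) ≠ 0) (h : y ^ 2 = 1) :
    LinearMap.trace F V y = finrank F V - 2 * finrank F (eig y (-1)) := by
  have h1 : LinearMap.IsProj (eig y (-1)) ((2⁻¹ : F) • (1 - y)) := ⟨fun v => mem_eig.2 (by
    simp [← End.mul_apply, ← sq, h, smul_sub]; abel), fun v hv => by
      simp [mem_eig.1 hv, ← two_smul F v, smul_smul, h2]⟩
  rw [← h1.trace]; simp [h2]

theorem mu_om {σ : F →+* F} {K : Kind σ} {D : Form K V} (h2 : (2 : F) ≠ 0) (h : Mu D 1 S)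
    (h' : Mu D 1 T) (hS : S * S = -1) (hT : T * T = -1) : Mu D 1 (om S T) := by
  have := ((h.one_add hS).mul (h'.one_add hT)).smul (-2⁻¹)
  rwa [show σ (-2⁻¹) * -2⁻¹ * (2 * 2) = 1 by simp [map_ofNat]; field_simp] at this

theorem om_comm (h1 : Commute m S) (h2 : Commute m T) : Commute m (om S T) :=
  (((Commute.one_right m).add_right h1).mul_right ((Commute.one_right m).add_right h2)).smul_right _

theorem not_comm_om [Nontrivial V] (h2 : (2 : F) ≠ 0) (h : An S T) (hS : S * S = -1)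
    (hT : IsUnit T) : ¬ Commute S (om S T) := fun e => by
  have h3 := ((Commute.one_right S).add_right (.refl S))
  have h4 : (1 - S) * (1 + S) = (2 : F) • 1 := by simp only [sub_mul, mul_add, hS]; simp; module
  have h5 : Commute S ((1 - S) * ((-2 : F) • om S T) - (2 : F) • 1) :=
    ((((Commute.one_right S).sub_right (.refl S)).mul_right (e.smul_right _)).sub_right
      ((Commute.one_right S).smul_right _))
  rw [om, smul_smul, neg_mul_neg, mul_inv_cancel₀ h2, one_smul, ← mul_assoc, h4, smul_mul_assoc,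
    one_mul, smul_add, add_sub_cancel_left] at h5
  exact h.not_cm h2 ⟨⟨S, -S, by simp [hS], by simp [hS]⟩, rfl⟩ hT
    (by simpa [h2] using h5.smul_right (2 : F)⁻¹)

/-- Groups whose elements square to `± 1`. -/
structure P2 (ρ : Γ →* End F V) : Prop extends Rp ρ where
  two : (2 : F) ≠ 0
  sq : ∀ a, ρ a * ρ a = 1 ∨ ρ a * ρ a = -1

namespace P2

variable (h : P2 ρ)
include h

theorem pm (a b : Γ) : Commute (ρ a) (ρ b) ∨ An (ρ a) (ρ b) := by
  have e : ρ a * ρ a * (ρ b * ρ a) * (ρ b * ρ b) = ρ a * (ρ (a * b) * ρ (a * b)) * ρ b := by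
    simp [mul_assoc]
  rw [Commute, SemiconjBy, An]
  rcases h.sq a with h1 | h1 <;> rcases h.sq b with h2 | h2 <;> rcases h.sq (a * b) with h3 | h3 <;>
    simp [h1, h2, h3, -map_mul] at e <;> first | exact .inl e.symm | exact .inr (by simp [← e]) | simp [e]

theorem exists_an (ha : a ∉ center Γ) : ∃ b, An (ρ a) (ρ b) := by
  obtain ⟨b, hb⟩ := not_forall.1 (mt mem_center_iff.2 ha)
  exact ⟨b, (h.pm a b).resolve_left fun e => hb (h.inj (by simpa using e.symm.eq))⟩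

theorem nr_one_add (hs : ρ s * ρ s = -1) : NR ρ (1 + ρ s) := by
  refine ⟨⟨⟨_, (2 : F)⁻¹ • (1 - ρ s), ?_, ?_⟩, rfl⟩, fun a => ?_⟩
  · simp only [mul_smul_comm, mul_sub, add_mul, hs]; match_scalars <;> field_simp [h.two] <;> ring
  · simp only [smul_mul_assoc, mul_add, sub_mul, hs]; match_scalars <;> field_simp [h.two] <;> ring
  rcases h.pm s a with e | e
  · exact ⟨a, ((Commute.one_left _).add_left e).eq⟩
  · exact ⟨s * a, by
      rw [map_mul, mul_add, mul_one, mul_assoc _ (ρ a), e.symm, mul_neg, ← mul_assoc, hs]; simp [add_mul, add_comm]⟩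

theorem comm_of_smul (hr : r.Prime) (h2 : r ≠ 2) (hy : y ^ r = 1) (hk : ¬ r ∣ k)
    (e : y ^ k * ρ a = c • ρ a * y ^ k) : Commute y (ρ a) := by
  rcases subsingleton_or_nontrivial V with _ | _
  · exact Subsingleton.elim _ _
  have u := (isUnit_of_pow hr hy).pow k
  have h1 : c * c = 1 := by
    have : y ^ k * (ρ a * ρ a) = (c * c) • (ρ a * ρ a * y ^ k) := by
      rw [← mul_assoc, e, mul_assoc, e]; simp [mul_smul, mul_assoc]
    rcases h.sq a with h1 | h1 <;> rw [h1] at this <;>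
      exact smul_left_injective F u.ne_zero (by simpa using this.symm)
  have h3 : Commute (y ^ (k * 2)) (ρ a) := by
    rw [pow_mul, pow_two, Commute, SemiconjBy, mul_assoc, e, ← mul_assoc, ← mul_assoc, mul_smul_comm, e]
    simp [smul_smul, h1]
  obtain ⟨m, hm⟩ := exists_pow_eq_self_of_coprime (x := y) (n := k * 2) (Nat.Coprime.coprime_dvd_right
    (orderOf_dvd_of_pow_eq_one hy) (Nat.Coprime.mul_left ((hr.coprime_iff_not_dvd.2 hk).symm)
      ((Nat.coprime_primes Nat.prime_two hr).2 h2.symm)))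
  exact hm ▸ h3.pow_left m

variable [Nontrivial V]

theorem not_cm (e : An (ρ a) (ρ b)) : ¬ Commute (ρ a) (ρ b) := e.not_cm h.two (unit_rho a) (unit_rho b)

theorem not_cen (e : An (ρ a) (ρ b)) : a ∉ center Γ := fun ha => h.not_cm e (h.center_le ha).symm

theorem index_cm (ha : a ∉ center Γ) : (cm ρ (ρ a)).index = 2 := by
  obtain ⟨t, ht⟩ := h.exists_an ha
  refine index_eq_two_iff.2 ⟨t, fun b => ?_⟩
  rw [mem_cm, mem_cm]
  rcases h.pm a b with e | e
  · exact .inr ⟨e, h.not_cm (map_mul ρ b t ▸ ht.cm_mul e)⟩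
  · exact .inl ⟨map_mul ρ b t ▸ e.mul_an ht, h.not_cm e⟩

variable [Finite Γ]

theorem fix_an (hy : NR ρ y) (hr : r.Prime) (h1 : y ^ r = 1) (h2 : ¬ r ∣ Nat.card Γ)
    (ha : a ∉ center Γ) (h3 : Commute y (ρ a)) : ∃ t, Commute y (ρ t) ∧ An (ρ a) (ρ t) := by
  by_contra! H
  have h4 := hy.count h.inj hr h1 (· ∈ cm ρ (ρ a)) fun b c e e' => hy.1.mul_right_cancel (by
    rw [mul_assoc, ← e, ← mul_assoc, ← h3.eq, mul_assoc, (mem_cm.1 e').eq, ← mul_assoc, e,
      mul_assoc, mul_assoc, h3.eq])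
  have h5 := hy.card_cm h.inj hr h1
  rw [Nat.card_congr (Equiv.subtypeEquivRight (q := (· ∈ cm ρ y)) fun b =>
    and_iff_right_of_imp fun e => mem_cm.2 ((h.pm a b).resolve_right (H b e)))] at h4
  have h6 := (cm ρ (ρ a)).index_mul_card
  rw [h.index_cm ha, two_mul] at h6
  exact h2 ((Nat.modEq_zero_iff_dvd.1 (Nat.ModEq.add_left_cancel' (Nat.card (cm ρ (ρ a)))
    ((h6 ▸ h5).trans h4.symm))).trans (card_subgroup_dvd_card _))

theorem large (hc : Nat.card Γ = 16 * Nat.card (center Γ)) (hZ : Nat.card (center Γ) ∣ 4)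
    (hy : NR ρ y) (hr : r.Prime) (h7 : 7 ≤ r) (h1 : y ^ r = 1) : ∃ c, y = algebraMap F _ c := by
  have key : ∀ k, 0 < k → k ∣ 960 → ¬ r ∣ k := fun k _ e e' => by
    have := e'.trans e
    rw [show 960 = 2 ^ 6 * (3 * 5) from rfl, hr.dvd_mul, hr.dvd_mul] at this
    rcases this with e | e | e
    · have := Nat.le_of_dvd two_pos (hr.dvd_of_dvd_pow e); omega
    all_goals have := Nat.le_of_dvd (by omega) e; omega
  have h0 := Nat.card_pos (α := center Γ)
  refine h.scalar hy hr h1 fun ⟨k, hk⟩ e e' => ?_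
  have h2 : k ≠ 2 := by
    rintro rfl
    have h3 : (center Γ).relIndex (cm ρ y) = 2 := Nat.eq_of_mul_eq_mul_right h0 (by
      rw [mul_comm 2, ← hk, ← Nat.card_congr (subgroupOfEquivOfLe (h.center_le (y := y))).toEquiv]
      exact index_mul_card _)
    obtain ⟨a, ha⟩ := index_eq_two_iff.1 h3
    have h4 : a.1 ∉ center Γ := by simpa [mem_subgroupOf, Xor] using ha 1
    obtain ⟨t, h5, h6⟩ := h.fix_an hy hr h1 (key _ Nat.card_pos (hc ▸ (Nat.mul_dvd_mul_left 16 hZ).trans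
      (by decide))) h4 a.2
    rcases ha ⟨t, h5⟩ with e | e
    · exact h.not_cen (b := t) (by simpa using (h6.symm.cm_mul (.refl _)).symm) e.1
    · exact h.not_cen h6.symm e.1
  rw [hc, hk, mul_comm 16] at e e' ⊢
  rw [Nat.mul_dvd_mul_iff_left h0] at e
  have h3 := Nat.le_of_dvd (by omega) e
  have h4 := (Nat.modEq_iff_dvd' (Nat.mul_le_mul_left _ h3)).1 e'.symm
  rw [← Nat.mul_sub, hr.dvd_mul, or_iff_right (key _ h0 (hZ.trans (by decide)))] at h4
  interval_cases k <;> first | rfl | omega | exact absurd h4 (key _ (by decide) (by decide))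

omit [Finite Γ] in
theorem of_eig [FiniteDimensional F V] (hn : finrank F V = 4) (hy : NR ρ y) (hr : Odd r)
    (h1 : y ^ r = 1) (h3 : finrank F (eig y 1) = 3) : ∃ c, y = algebraMap F _ c := h.irr y fun a => by
  obtain ⟨b, hb⟩ := hy.2 a
  rw [← inv_mul_cancel_right b a, map_mul] at hb
  generalize b * a⁻¹ = s at hb
  have hA := (End.isUnit_iff _).1 (unit_rho (ρ := ρ) a)
  obtain ⟨_, h4, h5, u, h6, rfl⟩ := exists_mem_inf (P := eig y 1) (Q := (eig y 1).map (ρ a)) (by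
    rw [← (Submodule.equivMapOfInjective _ hA.1 _).finrank_eq]; omega)
  have h7 : ρ s (ρ a u) = ρ a u := by
    simpa [mem_eig.1 h5, mem_eig.1 h6] using (LinearMap.congr_fun hb u).symm
  by_cases h8 : s ∈ center Γ
  · obtain ⟨c, hc⟩ := h.cen h8
    obtain rfl : c = 1 := smul_left_injective F h4 (by simpa [hc] using h7)
    simpa [hc] using hb
  obtain ⟨t, ht⟩ := h.exists_an h8
  have h9 : ρ s * ρ s = 1 := (h.sq s).resolve_right fun e =>
    h4 (eq_zero_of_neg h.two (by simpa [h7] using LinearMap.congr_fun e (ρ a u)))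
  have := ht.eig_half h.two (unit_rho t) h9
  obtain ⟨w, h10, h11, h12⟩ := exists_mem_inf (P := eig y 1) (Q := eig (ρ s) (-1)) (by omega)
  obtain ⟨w, rfl⟩ := hA.2 w
  have h13 := congrArg (ρ s) (LinearMap.congr_fun hb w)
  rw [End.mul_apply, mem_eig.1 h11, one_smul, mem_eig.1 h12, ← End.mul_apply, ← mul_assoc,
    ← mul_assoc, h9, one_mul, ← map_smul] at h13
  have h14 := pow_apply_of_eig w (hA.1 h13).symm r
  rw [h1, hr.neg_one_pow] at h14
  exact absurd (eq_zero_of_neg h.two (by simpa using h14)) fun e : w = 0 => h10 (by simp [e])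

omit [Finite Γ] in
theorem of_quad [FiniteDimensional F V] (hn : finrank F V = 4) (hy : NR ρ y) (h1 : y ^ 5 = 1)
    (h2 : y * y = c • y - 1) : ∃ c, y = algebraMap F _ c := h.irr y fun a => by_contra fun e => by
  choose f hf using hy.2
  have key : ∀ k, ¬ 5 ∣ k → LinearMap.trace F V (ρ (f^[k] a) * ρ a⁻¹) = 0 := fun k hk => by
    rw [← map_mul]
    obtain ⟨t, ht⟩ := h.exists_an (a := f^[k] a * a⁻¹) fun e' => by
      obtain ⟨c, hc⟩ := h.cen e'
      refine e (h.comm_of_smul (a := a) (c := c) Nat.prime_five (by decide) h1 hk ?_)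
      rw [pow_conj hf, Algebra.smul_def, ← hc, ← map_mul, inv_mul_cancel_right]
    exact ht.trace h.two (unit_rho t)
  have h3 : y ^ 3 = (c ^ 2 - 1) • y - c • 1 := by
    rw [pow_three', h2, sub_mul, smul_mul_assoc, h2]; module
  have h4 : (ρ a - ρ (f^[3] a) + (c ^ 2 - 1) • (ρ (f^[2] a) - ρ (f^[1] a))) * y ^ 3 = 0 := by
    rw [add_mul, smul_mul_assoc, sub_mul, sub_mul, ← pow_conj hf, pow_succ y 2, ← mul_assoc (ρ (f^[2] a)),
      ← pow_conj hf, ← pow_succ, pow_succ' y 2, ← mul_assoc (ρ (f^[1] a)), Function.iterate_one, ← hf,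
      ← pow_succ', h3, pow_two y, h2]
    simp only [mul_sub, sub_mul, smul_mul_assoc, mul_smul_comm, mul_one, one_mul, mul_assoc]
    module
  have h5 := congrArg (fun X => LinearMap.trace F V (X * ρ a⁻¹)) ((hy.1.pow 3).mul_left_eq_zero.1 h4)
  simp only [add_mul, sub_mul, smul_mul_assoc, map_add, map_sub, map_smul, key 1 (by decide),
    key 2 (by decide), key 3 (by decide), ← map_mul ρ a, mul_inv_cancel, map_one,
    LinearMap.trace_one, hn] at h5
  exact mul_ne_zero h.two h.two (by simp at h5; linear_combination h5)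

theorem exists_g4 (hc : Nat.card Γ = 16 * Nat.card (center Γ)) :
    ∃ a b c d, G4 (ρ a) (ρ b) (ρ c) (ρ d) := by
  have h0 := Nat.card_pos (α := center Γ)
  have key : ∀ K : Subgroup Γ, K.index ≤ 4 → ∃ c ∈ K, c ∉ center Γ := fun K hK => by
    by_contra! H
    have := card_le_of_le (show K ≤ _ from H)
    have := K.index_mul_card
    nlinarith
  obtain ⟨a, -, ha⟩ := key ⊤ (by simp)
  obtain ⟨b, hb⟩ := h.exists_an ha
  obtain ⟨c, ⟨h1, h2⟩, h3⟩ := key (cm ρ (ρ a) ⊓ cm ρ (ρ b)) (index_inf_le.trans (by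
    rw [h.index_cm ha, h.index_cm (h.not_cen hb.symm)]))
  obtain ⟨d, hd⟩ := h.exists_an h3
  rcases h.pm a d with e | e <;> rcases h.pm b d with e' | e'
  · exact ⟨a, b, c, d, hb, hd, h1, e, h2, e'⟩
  · exact ⟨a, b, c, d * a, map_mul ρ d a ▸
      ⟨hb, hd.mul_cm h1.symm, h1, e.mul_right (.refl _), h2, e'.mul_an hb.symm⟩⟩
  · exact ⟨a, b, c, d * b, map_mul ρ d b ▸
      ⟨hb, hd.mul_cm h2.symm, h1, e.mul_an hb, h2, e'.mul_right (.refl _)⟩⟩
  · exact ⟨a, b, c, d * a * b, by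
      rw [map_mul, map_mul]
      exact ⟨hb, (hd.mul_cm h1.symm).mul_cm h2.symm, h1, (e.mul_cm (.refl _)).mul_an hb, h2,
        (e'.mul_an hb.symm).mul_right (.refl _)⟩⟩

theorem g4_four (hc : Nat.card Γ = 16 * Nat.card (center Γ)) {i : F} (hi : i * i = -1)
    (hs : ρ s = algebraMap F _ i) : ∃ a b c d, G4 (ρ a) (ρ b) (ρ c) (ρ d) ∧ ρ a * ρ a = -1 ∧
      ρ b * ρ b = -1 ∧ ρ c * ρ c = 1 ∧ ρ d * ρ d = -1 := by
  have key : ∀ a, (∃ b, ∃ u : F, ρ b = u • ρ a ∧ ρ b * ρ b = 1) ∧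
      ∃ b, ∃ u : F, ρ b = u • ρ a ∧ ρ b * ρ b = -1 := fun a => by
    have e : ρ (s * a) = i • ρ a := by rw [map_mul, hs, Algebra.smul_def]
    rcases h.sq a with h1 | h1
    · exact ⟨⟨a, 1, by simp, h1⟩, _, i, e, by simp [e, smul_smul, h1, hi, -map_mul]⟩
    · exact ⟨⟨_, i, e, by simp [e, smul_smul, h1, hi, -map_mul]⟩, a, 1, by simp, h1⟩
  obtain ⟨a, b, c, d, H⟩ := h.exists_g4 hc
  obtain ⟨a', u, h1, h2⟩ := (key a).2
  obtain ⟨b', v, h3, h4⟩ := (key b).2
  obtain ⟨c', w, h5, h6⟩ := (key c).1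
  obtain ⟨d', t, h7, h8⟩ := (key d).2
  exact ⟨a', b', c', d', h1 ▸ h3 ▸ h5 ▸ h7 ▸ H.smul u v w t, h2, h4, h6, h8⟩

theorem g4_minus (hc : Nat.card Γ = 16 * Nat.card (center Γ))
    (hM : ∀ u v, ρ u * ρ u = 1 → ρ v * ρ v = 1 → Commute (ρ u) (ρ v) → u ∉ center Γ →
      v ∉ center Γ → u * v ∈ center Γ) : ∃ a b c d, G4 (ρ a) (ρ b) (ρ c) (ρ d) ∧ ρ a * ρ a = -1 ∧
      ρ b * ρ b = -1 ∧ ρ c * ρ c = 1 ∧ ρ d * ρ d = -1 := by
  have key : ∀ a b C D, G4 (ρ a) (ρ b) C D → ∃ a b, G4 (ρ a) (ρ b) C D ∧ ρ b * ρ b = -1 :=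
    fun a b C D H => by
      rcases h.sq b with h1 | h1
      · rcases h.sq a with h2 | h2
        · exact ⟨a, a * b, map_mul ρ a b ▸ ⟨⟨H.ab.cm_mul (.refl _), H.cd, H.ac, H.ad,
            H.ac.mul_left H.bc, H.ad.mul_left H.bd⟩, by simp [H.ab.mul_sq, h1, h2]⟩⟩
        · exact ⟨b, a, ⟨H.ab.symm, H.cd, H.bc, H.bd, H.ac, H.ad⟩, h2⟩
      · exact ⟨a, b, H, h1⟩
  obtain ⟨a, b, c, d, H⟩ := h.exists_g4 hc
  obtain ⟨a, b, H, h1⟩ := key _ _ _ _ H
  obtain ⟨c, d, H, h2⟩ := key _ _ _ _ H.symm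
  rcases h.sq a with h3 | h3 <;> rcases h.sq c with h4 | h4
  · exact absurd (hM a c h3 h4 H.ac.symm (h.not_cen H.cd) (h.not_cen H.ab)) (h.not_cen (b := b)
      (map_mul ρ a c ▸ (H.cd.symm.mul_cm H.ad.symm).symm))
  · exact ⟨c, d, a, b, H, h4, h2, h3, h1⟩
  · exact ⟨a, b, c, d, H.symm, h3, h1, h4, h2⟩
  have e : ∀ {A C : End F V}, Commute A C → A * A = -1 → C * C = -1 → A * C * (A * C) = 1 :=
    fun e e1 e2 => by rw [e.symm.mul_mul_mul_comm, e1, e2]; simp
  refine absurd (hM (a * c) (b * d) (by simpa using e H.ac.symm h3 h4) (by simpa using e H.bd.symm h1 h2)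
    ?_ (h.not_cen (b := b) (map_mul ρ a c ▸ (H.cd.symm.mul_cm H.ad.symm).symm))
    (h.not_cen (b := a) (map_mul ρ b d ▸ (H.cd.mul_cm H.bc.symm).symm)))
    (h.not_cen (b := a) ?_)
  · simpa using (H.cd.symm.mul_cm H.ad.symm).symm.mul_an (H.ab.symm.cm_mul H.bc).symm
  · simpa using ((H.cd.mul_cm H.bc.symm).cm_mul ((Commute.refl _).mul_right H.ac.symm)).symm

omit [Nontrivial V] [Finite Γ] in
theorem nr_om (hs : ρ s * ρ s = -1) (ht : ρ t * ρ t = -1) : NR ρ (om (ρ s) (ρ t)) :=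
  sc_nr _ _ (by simp [h.two]) ((h.nr_one_add hs).mul (h.nr_one_add ht))

variable {σ : F →+* F} {K : Kind σ} {D : Form K V} (hD : ∀ a, Mu D 1 (ρ a)) {d e : Γ}
  (H : G4 (ρ a) (ρ b) (ρ e) (ρ d)) (ha : ρ a * ρ a = -1) (hb : ρ b * ρ b = -1)
  (he : ρ e * ρ e = 1) (hd : ρ d * ρ d = -1)
include hD H ha hb he hd

omit [Finite Γ] in
theorem exists_five [Finite F] [FiniteDimensional F V] :
    ∃ y, NR ρ y ∧ Mu D 1 y ∧ y ^ 5 = 1 ∧ y ≠ 1 := by
  have h1 : ρ (a * e) * ρ (a * e) = -1 := by rw [map_mul, H.ac.symm.mul_mul_mul_comm, ha, he, mul_one]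
  obtain ⟨G, hG⟩ : ∃ G, G = (1 + ρ a) * (1 + ρ b) * (1 + ρ (a * e)) * (1 + ρ d) := ⟨_, rfl⟩
  have h2 : NR ρ ((4⁻¹ : F) • G) := sc_nr _ _ (inv_ne_zero (by
    simpa [← two_add_two_eq_four, ← two_mul] using h.two)) (hG ▸ (((h.nr_one_add ha).mul
      (h.nr_one_add hb)).mul (h.nr_one_add h1)).mul (h.nr_one_add hd))
  have h3 := (((((hD a).one_add ha).mul ((hD b).one_add hb)).mul ((hD _).one_add h1)).mul
    ((hD d).one_add hd)).smul 4⁻¹
  rw [← hG, show σ 4⁻¹ * 4⁻¹ * (2 * 2 * 2 * 2) = 1 by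
    rw [show (4 : F) = 2 * 2 by norm_num]; simp [map_ofNat]; field_simp [h.two]] at h3
  rw [map_mul] at hG
  have hu := unit_rho (ρ := ρ)
  have h4 := h.not_cm H.cd
  generalize ρ a = A, ρ b = B, ρ e = C, ρ d = E at *
  have m : ∀ {S T : End F V}, Commute S T → ∀ X, T * (S * X) = S * (T * X) := fun e X =>
    e.symm.left_comm X
  have m' : ∀ {S T : End F V}, An S T → ∀ X, T * (S * X) = -(S * (T * X)) := fun e X => by
    rw [← mul_assoc, e.symm, neg_mul, mul_assoc]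
  have l : ∀ {S : End F V}, S * S = -1 → ∀ X, S * (S * X) = -X := fun e X => by
    rw [← mul_assoc, e, neg_one_mul]
  have l' : ∀ X, C * (C * X) = X := fun X => by rw [← mul_assoc, he, one_mul]
  have key : G * A = B * G ∧ G * B = A * C * G ∧ G * (A * C) = E * G ∧
      G * E = B * (C * E) * G ∧ G * (B * (C * E)) = A * G := by
    subst hG
    refine ⟨?_, ?_, ?_, ?_, ?_⟩ <;>
    · simp only [mul_add, add_mul, mul_assoc, one_mul, mul_one, m H.ac, m H.ad, m H.bc, m H.bd, m' H.ab,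
        m' H.cd, l ha, l hb, l hd, l', ha, hb, he, hd, H.ac.symm.eq, H.ad.symm.eq, H.bc.symm.eq,
        H.bd.symm.eq, show B * A = _ from H.ab.symm, show E * C = _ from H.cd.symm, mul_neg, neg_mul,
        neg_neg]
      abel
  obtain ⟨k1, k2, k3, k4, k5⟩ := key
  have st : ∀ {X Y Z : End F V} {k}, ((4⁻¹ : F) • G) ^ k * X = Y * ((4⁻¹ : F) • G) ^ k →
      G * Y = Z * G → ((4⁻¹ : F) • G) ^ (k + 1) * X = Z * ((4⁻¹ : F) • G) ^ (k + 1) := fun e e' => by
    rw [pow_succ', mul_assoc, e, ← mul_assoc, ← mul_assoc, smul_mul_assoc, e', mul_smul_comm]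
  have k6 := st (st (X := A) (Y := A) (k := 0) (by simp) k1) k2
  have k7 := st (st (st k6 k3) k4) k5
  generalize (4⁻¹ : F) • G = g at *
  have : Finite (End F V) := Module.finite_of_finite F
  have h5 := isOfFinOrder_iff_isUnit.2 h2.1
  have h6 : 5 ∣ orderOf g := by_contra fun e => by
    obtain ⟨j, hj⟩ := exists_pow_eq_self_of_coprime ((Nat.prime_five.coprime_iff_not_dvd).2 e)
    have h8 := (Commute.pow_left k7 j).pow_left 2
    rw [hj] at h8
    have h9 := (h2.1.pow 2).mul_right_cancel (h8.eq.symm.trans k6)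
    have h10 : C = 1 := by simpa [← mul_assoc, ha] using congrArg (-A * ·) h9.symm
    exact h4 (h10 ▸ .one_left E)
  have h7 := orderOf_pow_orderOf_div h5.orderOf_pos.ne' h6
  exact ⟨_, h2.pow _, by simpa using h3.pow _, h7 ▸ pow_orderOf_eq_one _, fun e => by simp [e] at h7⟩

omit [Finite Γ] he in
theorem exists_three [Finite F] [FiniteDimensional F V] (hn : finrank F V = 4) (h3 : (3 : F) ≠ 0)
    {i : F} (hi : i * i = -1) (hs : ρ s = algebraMap F _ i) (he : ρ e * ρ e = 1) :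
    (∃ y, NR ρ y ∧ Mu D 1 y ∧ y ^ 3 = 1 ∧ rk y = 4) ∧
      ∃ y, NR ρ y ∧ Mu D 1 y ∧ y ^ 3 = 1 ∧ rk y ≠ 0 ∧ rk y ≠ 4 := by
  have e1 : ρ (s * e) = i • ρ e := by rw [map_mul, hs, Algebra.smul_def]
  have e2 : ρ (s * e) * ρ (s * e) = -1 := by simp [e1, smul_smul, he, hi, -map_mul]
  have H' : G4 (ρ a) (ρ b) (ρ (s * e)) (ρ d) := by simpa [e1, -map_mul] using H.smul 1 1 i 1
  have h1 := om_eq h.two H.ab ha hb
  have h2 := om_eq h.two H'.cd e2 hd
  have h4 := not_comm_om h.two H'.cd e2 (unit_rho d)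
  have h5 := om_comm H'.ac.symm H'.bc.symm
  have h6 := om_comm h5.symm (om_comm H'.ad.symm H'.bd.symm).symm
  exact ⟨⟨_, h.nr_om ha hb, mu_om h.two (hD a) (hD b) ha hb, cube_of h1, hn ▸ rk_of_cube h3 h1⟩, _,
    (h.nr_om ha hb).mul (h.nr_om e2 hd), by simpa using (mu_om h.two (hD a) (hD b) ha hb).mul (mu_om
      h.two (hD _) (hD d) e2 hd), hn ▸ rk_mul h3 h1 h2 h4 h5 h6⟩

omit [Finite Γ] ha hb hd in
theorem exists_refl [Finite F] [FiniteDimensional F V] (hn : finrank F V = 4) {i : F}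
    (hi : i * i = -1) (hs : ρ s = algebraMap F _ i) (ha : ρ a * ρ a = -1) :
    ∃ y, NR ρ y ∧ Mu D 1 y ∧ y ^ 2 = 1 ∧ Odd (finrank F (eig y (-1))) := by
  have e1 : ρ (s * e) = i • ρ e := by rw [map_mul, hs, Algebra.smul_def]
  have e2 : ρ (s * e) * ρ (s * e) = -1 := by simp [e1, smul_smul, he, hi, -map_mul]
  have e3 : ρ (a * e) * ρ (a * e) = -1 := by rw [map_mul, H.ac.symm.mul_mul_mul_comm, ha, he, mul_one]
  have e4 : ρ s * ρ s = -1 := by rw [hs, ← map_mul, hi, map_neg, map_one]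
  have h1 := (((h.nr_one_add ha).mul (h.nr_one_add e2)).mul (h.nr_one_add e3)).mul (h.nr_one_add e4)
  have h2 := (((((hD a).one_add ha).mul ((hD _).one_add e2)).mul ((hD _).one_add e3)).mul
    ((hD _).one_add e4)).smul 4⁻¹
  rw [show σ 4⁻¹ * 4⁻¹ * (2 * 2 * 2 * 2) = 1 by
    rw [show (4 : F) = 2 * 2 by norm_num]; simp [map_ofNat]; field_simp [h.two]] at h2
  have h4 : (4 : F) ≠ 0 := by simpa [← two_add_two_eq_four, ← two_mul] using h.two
  replace h1 := sc_nr _ _ (inv_ne_zero h4) h1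
  have t1 := H.ab.trace h.two (unit_rho b)
  have t2 := H.cd.trace h.two (unit_rho d)
  have t3 := (H.ab.symm.mul_cm H.bc).symm.trace h.two (unit_rho b)
  rw [e1, map_mul, hs, Algebra.algebraMap_eq_smul_one] at h1 h2
  have l : ∀ X, ρ a * (ρ a * X) = -X := fun X => by rw [← mul_assoc, ha, neg_one_mul]
  have l' : ∀ X, ρ e * (ρ a * X) = ρ a * (ρ e * X) := fun X => H.ac.symm.left_comm X
  have l'' := H.ac.symm.eq
  have l₂ : ∀ X, ρ e * (ρ e * X) = X := fun X => by rw [← mul_assoc, he, one_mul]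
  have h0 := h.two
  generalize ρ a = A, ρ e = C at *
  rw [show (4⁻¹ : F) • ((1 + A) * (1 + i • C) * (1 + A * C) * (1 + i • 1)) =
    (2⁻¹ : F) • (1 + i • A - C + i • (A * C)) by
      simp only [mul_add, add_mul, mul_smul_comm, smul_mul_assoc, mul_one, one_mul, mul_assoc, l, l',
        l'', he, ha]
      match_scalars <;> field_simp <;> grind] at h1 h2
  obtain ⟨y, hy⟩ : ∃ y, y = (2⁻¹ : F) • (1 + i • A - C + i • (A * C)) := ⟨_, rfl⟩
  have h5 : y ^ 2 = 1 := by
    simp only [hy, pow_two, mul_add, add_mul, mul_sub, sub_mul, mul_smul_comm, smul_mul_assoc, mul_one,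
      one_mul, mul_assoc, l, l', l'', l₂, he, ha, mul_neg]
    match_scalars <;> field_simp <;> grind
  have h6 := trace_of_sq h0 h5
  have h7 := Submodule.finrank_le (eig y (-1))
  refine ⟨y, hy ▸ h1, hy ▸ h2, h5, Nat.not_even_iff_odd.1 fun ⟨k, hk⟩ => ?_⟩
  have h8 : LinearMap.trace F V y = 2 := by simp [hy, t1, t2, t3, hn]; field_simp; norm_num
  rw [h8, hk, hn] at h6
  obtain rfl | rfl | rfl : k = 0 ∨ k = 1 ∨ k = 2 := by omega
  · exact h0 (by push_cast at h6; linear_combination -h6)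
  · exact h0 (by push_cast at h6; linear_combination h6)
  have h9 : y = -1 := LinearMap.ext fun v => by
    simpa using mem_eig.1 ((Submodule.eq_top_of_finrank_eq (hk.trans hn.symm)).ge (Submodule.mem_top (x := v)))
  have := congrArg (fun X => LinearMap.trace F V (X * C)) (h9.symm.trans hy)
  simp [add_mul, sub_mul, mul_assoc, he, t1, t2, t3, hn, h0] at this
  exact h4 this

omit hD ha hb hd in
theorem minus_fix (hM : ∀ u v, ρ u * ρ u = 1 → ρ v * ρ v = 1 → Commute (ρ u) (ρ v) → u ∉ center Γ →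
      v ∉ center Γ → u * v ∈ center Γ) (hZ : ∀ z ∈ center Γ, ρ z * ρ z = 1)
    (hc : ¬ 3 ∣ Nat.card Γ) (hy : NR ρ y) (h1 : y ^ 3 = 1) :
    ∃ s t, Commute y (ρ s) ∧ Commute y (ρ t) ∧ An (ρ s) (ρ t) ∧ ρ s * ρ s = 1 := by
  choose f hf using hy.2
  have k1 : ∀ a b, y * (ρ a * ρ b) = ρ (f a) * ρ (f b) * y := fun a b => by
    rw [← mul_assoc, hf, mul_assoc, hf, mul_assoc]
  have k2 : ∀ {a b}, An (ρ a) (ρ b) → An (ρ (f a)) (ρ (f b)) := fun e => hy.1.mul_right_cancel (by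
    rw [← k1, e, neg_mul, ← k1, mul_neg])
  have k3 : ∀ {a}, ρ a * ρ a = 1 → ρ (f a) * ρ (f a) = 1 := fun e => hy.1.mul_right_cancel (by
    rw [← k1, e, mul_one, one_mul])
  have k4 : ∀ {a}, Commute y (ρ a) → ρ (f a) = ρ a := fun e => hy.1.mul_right_cancel (by rw [← hf, e.eq])
  have k5 : ρ (f (f (f e))) = ρ e := by simpa [h1] using (pow_conj hf 3 e).symm
  rcases h.pm e (f e) with h2 | h2
  · obtain ⟨c, hc'⟩ := h.cen (hM _ _ he (k3 he) h2 (h.not_cen H.cd) (h.not_cen (k2 H.cd)))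
    have h3 := h.comm_of_smul (a := e) (c := c) (k := 1) Nat.prime_three (by decide) h1 (by decide) (by
      rw [pow_one, hf, Algebra.smul_def, Algebra.commutes, ← hc', map_mul, ← mul_assoc _ (ρ e), he, one_mul])
    obtain ⟨t, h4, h5⟩ := h.fix_an hy Nat.prime_three h1 hc (h.not_cen H.cd) h3
    exact ⟨e, t, h3, h4, h5, he⟩
  have h3 := k2 h2
  have h4 := k5 ▸ k2 h3
  have h5 : Commute y (ρ (e * f e * f (f e))) := by
    rw [map_mul, map_mul, Commute, SemiconjBy, ← mul_assoc, k1, mul_assoc, hf, k5, ← mul_assoc,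
      ← (h2.mul_an h4.symm).eq, mul_assoc (ρ e) (ρ (f e))]
  have h6 : ρ (e * f e * f (f e)) * ρ (e * f e * f (f e)) = -1 := by
    rw [map_mul, map_mul, (h4.mul_an h3.symm).mul_mul_mul_comm, h2.mul_sq, he, k3 he, k3 (k3 he)]; simp
  obtain ⟨t, h7, h8⟩ := h.fix_an hy Nat.prime_three h1 hc (fun e => one_ne_zero
    (eq_zero_of_neg h.two ((hZ _ e).symm.trans h6))) h5
  have h9 : An (ρ e) (ρ t) := (h.pm e t).resolve_left fun e' => by
    have k6 : ∀ {a}, Commute (ρ a) (ρ t) → Commute (ρ (f a)) (ρ t) := fun e =>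
      hy.1.mul_right_cancel (by rw [← k4 h7, ← k1, ← k1, e.eq])
    exact h.not_cm h8 (by simpa using (e'.mul_left (k6 e')).mul_left (k6 (k6 e')))
  have h10 := k4 h7 ▸ k2 h9
  have h11 := k4 h7 ▸ k2 h10
  refine ⟨t, _, h7, h5, h8.symm, (h.sq t).resolve_right fun e' => h.not_cen (b := f (f e)) ?_
    (hM (t * e) (f e) (by simp [h9.symm.mul_sq, he, e']) (k3 he) ?_ (h.not_cen (b := e) ?_)
      (h.not_cen h3))⟩
  · simpa using (h3.symm.cm_mul (h11.mul_an h4)).symm
  · simpa using (h10.mul_an h2.symm).symm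
  · simpa using (h9.mul_cm (.refl _)).symm

end P2

end Cfsg.Lib.Elu
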