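import Cfsg.Agent.Lib.Elu.C6
import Cfsg.Agent.Lib.Known2.ES

/-!
Normalizers of groups of symplectic type in dimension four.
-/

set_option autoImplicit false

namespace Cfsg.Lib.Elu

open Module Cfsg.Lib.Forms Cfsg.Lib.Forms.Form Cfsg.Lib.Known Cfsg.Lib.Conj Subgroup Polynomial

variable {F V Γ : Type*} [Field F] [AddCommGroup V] [Module F V] [Group Γ] {ρ : Γ →* End F V}
  {x y m : End F V} {r n k : ℕ} {c z i : F} {a b d e s : Γ} {σ : F →+* F} {K : Kind σ}
  {D : Form K V} {G : End F V → Prop}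

theorem Rp.p2 [Finite Γ] (h : Rp ρ) (h2 : (2 : F) ≠ 0) (hp : IsPGroup 2 Γ)
    (hs : ∀ A : Subgroup Γ, A.Characteristic → IsMulCommutative A → IsCyclic A)
    (he : Monoid.exponent Γ = 2 * Nat.gcd 2 2) : P2 ρ := by
  have h4 : ∀ a : Γ, a ^ 4 = 1 := fun a => by simpa [he] using Monoid.pow_exponent_eq_one a
  refine ⟨h, h2, fun a => ?_⟩
  obtain ⟨c, hc⟩ : ∃ c, ρ (a * a) = algebraMap F _ c := h.cen (by
    obtain ⟨E, R, h1, h3, h5, h6 | ⟨-, u, v, m, h6, h7⟩⟩ := PGrp.symplectic_type hp hs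
    · have key : ∀ g, (∀ x ∈ E, x * g = g * x) → (∀ x ∈ R, x * g = g * x) → g ∈ center Γ :=
        fun g e e' => mem_center_iff.2 fun x => (mem_centralizer_singleton_iff.1 ((sup_le
          (fun x hx => mem_centralizer_singleton_iff.2 (e x hx))
          fun x hx => mem_centralizer_singleton_iff.2 (e' x hx) : E ⊔ R ≤ _) (h3 ▸ mem_top x)))
      have h7 : R ≤ center Γ := fun g hg => key g (h1 hg) fun x hx =>
        congrArg Subtype.val (h6.isMulCommutative.is_comm.comm (⟨x, hx⟩ : R) ⟨g, hg⟩)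
      have : R.Normal := ⟨fun g hg x => by simpa [mem_center_iff.1 (h7 hg) x]⟩
      obtain ⟨u, hu, v, hv, rfl⟩ := mem_sup_of_normal_right.1 (h3 ▸ mem_top a)
      rw [mul_assoc, ← mul_assoc v, ← mem_center_iff.1 (h7 hv), mul_assoc, ← mul_assoc]
      refine mul_mem ?_ (h7 (mul_mem hv hv))
      obtain rfl | h5 := h5
      · simp [mem_bot.1 hu]
      obtain ⟨w, -, hw⟩ := Known2.exists_ES h5
      obtain e | e := hw.sq_mem u hu <;> rw [e]
      exacts [one_mem _, key w hw.cen fun x hx => (h1 hx w hw.mem).symm]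
    · have := Nat.le_of_dvd (by decide) (orderOf_dvd_of_pow_eq_one (h4 u))
      rw [orderOf_coe, h7.ord] at this
      have := Nat.pow_le_pow_right two_pos (show 3 ≤ m + 2 by omega)
      omega)
  rcases subsingleton_or_nontrivial V with _ | _
  · exact .inl (Subsingleton.elim _ _)
  have : c * c = 1 := (algebraMap F (End F V)).injective (by
    rw [map_mul, ← hc, ← map_mul, map_one, ← map_one ρ, ← h4 a]; simp [pow_succ, mul_assoc])
  rw [← map_mul, hc]
  exact (mul_self_eq_one_iff.1 this).imp (by rintro rfl; simp) (by rintro rfl; simp)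

theorem P2.exists_i [Nontrivial V] (h : P2 ρ) (hc : IsCyclic (center Γ))
    (hZ : Nat.card (center Γ) = 4) : ∃ s, ∃ i : F, i * i = -1 ∧ ρ s = algebraMap F _ i := by
  obtain ⟨s, hs⟩ := hc.exists_ofOrder_eq_natCard
  obtain ⟨i, hi⟩ := h.cen s.2
  refine ⟨s, i, (algebraMap F (End F V)).injective ?_, hi⟩
  rw [map_mul, ← hi, map_neg, map_one]
  refine (h.sq s).resolve_left fun e => ?_
  have := Nat.le_of_dvd two_pos (orderOf_dvd_of_pow_eq_one (x := s) (Subtype.ext (h.inj (by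
    simpa [← pow_two] using e))))
  omega

theorem minus_hM [Finite Γ] (hi : Function.Injective ρ) (hc : Nat.card Γ = 2 ^ 5)
    (hZ : Nat.card (center Γ) = 2)
    (hm : ∀ A : Subgroup Γ, IsMulCommutative A → (∀ x ∈ A, x * x = 1) → Nat.card A < 2 ^ (2 + 1))
    (u v : Γ) (hu : ρ u * ρ u = 1) (hv : ρ v * ρ v = 1) (h : Commute (ρ u) (ρ v))
    (h1 : u ∉ center Γ) (h2 : v ∉ center Γ) : u * v ∈ center Γ := by
  classical
  by_contra h3
  obtain ⟨w, h4, h5, h6⟩ := Known2.exists_invol_of_card_two hZ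
  have h7 : w ∈ center Γ := h6 ▸ mem_zpowers w
  have h8 : u * v = v * u := hi (by simpa using h.eq)
  replace hu : u * u = 1 := hi (by simpa)
  replace hv : v * v = 1 := hi (by simpa)
  have h9 := isMulCommutative_closure (k := {w, u, v}) (by
    simp [h8, mem_center_iff.1 h7 u, mem_center_iff.1 h7 v])
  have h10 := hm _ h9 fun x hx => by
    induction hx using closure_induction with
    | mem x hx => rcases hx with rfl | rfl | rfl <;> assumption
    | one => simp
    | mul x y hx hy e e' =>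
      rw [mul_assoc, ← mul_assoc y, setLike_mul_comm hy hx, mul_assoc, e', mul_one, e]
    | inv x _ e => rw [← mul_inv_rev, e, inv_one]
  have h11 := (Nat.dvd_prime_pow Nat.prime_two).1 (hc ▸ card_subgroup_dvd_card (closure {w, u, v}))
  have h12 : ∀ x ∈ ({w, u, v} : Set Γ), x ∈ closure {w, u, v} := fun x => mem_closure_of_mem
  have h13 : ({1, w, u, v, u * v} : Set Γ).ncard ≤ Nat.card (closure ({w, u, v} : Set Γ)) :=
    Set.ncard_le_ncard (s := {1, w, u, v, u * v}) (t := closure ({w, u, v} : Set Γ)) (by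
      simp [Set.insert_subset_iff, h12, mul_mem])
  have ne : ∀ {x y}, x ∈ center Γ → y ∉ center Γ → x ≠ y := fun e e' h => e' (h ▸ e)
  have h14 : u ≠ v := by rintro rfl; exact h3 (hu ▸ one_mem _)
  rw [Set.ncard_insert_of_notMem (by simp [h4.symm, ne (one_mem _) h1, ne (one_mem _) h2,
    ne (one_mem _) h3]), Set.ncard_insert_of_notMem (by simp [ne h7 h1, ne h7 h2, ne h7 h3]),
    Set.ncard_insert_of_notMem (by simp [h14, (ne (one_mem _) h2).symm]),
    Set.ncard_pair (by simp [(ne (one_mem _) h1).symm])] at h13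
  obtain ⟨j, -, hj⟩ := h11
  rw [hj] at h10 h13
  have := (Nat.pow_lt_pow_iff_right one_lt_two).1 h10
  interval_cases j <;> omega

variable [FiniteDimensional F V]

theorem exists_alt_quad [Finite F] {D : Form (altKind F) V} (hD : D.Nondeg) (hn : finrank F V = 2 * 2)
    (c : F) : ∃ y : End F V, IsIsometry D D y ∧ y * y = c • y - 1 ∧ ∀ c, y ≠ algebraMap F _ c := by
  obtain ⟨e, he⟩ := Symp.iso_fSymp hD hn
  refine ⟨e.symm.conj (Matrix.toLin' (Matrix.fromBlocks 0 (-1) 1 (c • 1))), alt_isIsometry fun u v => ?_,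
    ?_, fun t ht => ?_⟩
  · rw [← he.B_map, ← he.B_map u]
    simp [fSymp_B', Matrix.fromBlocks_mulVec, Matrix.neg_mulVec, Matrix.smul_mulVec]; ring
  · ext v
    apply e.injective
    ext (j | j) <;> simp [Matrix.fromBlocks_mulVec, Matrix.neg_mulVec, Matrix.smul_mulVec] <;> ring
  · simpa [Matrix.fromBlocks_mulVec] using congrFun (congrArg e
      (LinearMap.congr_fun ht (e.symm (Pi.single (.inl 0) 1)))) (.inr 0)

omit [FiniteDimensional F V] in
theorem pow_five (hc : c * c + c = 1) (h : y * y = c • y - 1) : y ^ 5 = 1 := by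
  simp only [pow_succ, pow_zero, one_mul, h, sub_mul, smul_mul_assoc]
  match_scalars <;> grind

omit [FiniteDimensional F V] in
theorem sim_quad (h : Sim x y) (hy : y * y = c • y - 1) : x * x = c • x - 1 := by
  obtain ⟨e, he⟩ := h
  exact LinearMap.ext fun v => e.injective (by simpa [he] using LinearMap.congr_fun hy (e v))

omit [FiniteDimensional F V] in
theorem five_cases (p : ℕ) : orderOf (p : ZMod 5) = 4 ∨ p % 5 = 0 ∨ p % 5 = 1 ∨ p % 5 = 4 := by
  rw [← ZMod.natCast_mod p 5]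
  have := Nat.mod_lt p (show 0 < 5 by decide)
  generalize p % 5 = a at *
  interval_cases a <;> first | omega | exact .inl ((orderOf_eq_iff (by decide)).2 (by decide))

omit [FiniteDimensional F V] in
theorem exists_tau_five (p : ℕ) [Fact p.Prime] [CharP F p] (h2 : p ≠ 2)
    (h : orderOf (p : ZMod 5) ≠ 4) : ∃ c : F, c * c + c = 1 := by
  have h1 := (five_cases p).resolve_left h
  have := Fact.mk Nat.prime_five
  obtain ⟨t, ht⟩ := ((ZMod.exists_sq_eq_prime_iff_of_mod_four_eq_one (p := 5) (q := p) rfl h2).1 (by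
    rw [← ZMod.natCast_mod p 5]
    obtain e | e | e := h1 <;> rw [e]
    exacts [⟨0, rfl⟩, ⟨1, rfl⟩, ⟨2, rfl⟩])).map (ZMod.castHom (dvd_refl p) F)
  have h3 : (2 : F) ≠ 0 := fun e => h2 ((Nat.prime_dvd_prime_iff_eq Fact.out Nat.prime_two).1
    ((CharP.cast_eq_zero_iff F p 2).1 e))
  exact ⟨(t - 1) / 2, by simp [map_ofNat] at ht; field_simp; linear_combination -ht⟩

variable (ρ D) in
/-- Similar to a normalizing isometry. -/
def NI (y : End F V) : Prop := ∃ m, NR ρ m ∧ Mu D 1 m ∧ Sim m y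

omit [FiniteDimensional F V] in
theorem NI.gc (h : NI ρ D y) : GC (NR ρ) y := let ⟨m, h1, _, h2⟩ := h; ⟨m, h1, h2⟩

omit [FiniteDimensional F V] in
theorem mu_one : Mu D 1 1 := fun _ _ => by simp

variable (G r) in
/-- The rank determines elements of order `r`. -/
def RkD : Prop := ∀ x y, G x → G y → x ^ r = 1 → y ^ r = 1 → r - 1 ∣ rk x ∧ (rk x = rk y → Sim x y)

theorem allE_sc_of [Finite F] [Nontrivial V] (hr : r.Prime) (hF : (r : F) ≠ 0) {H : End F V → Prop} (hH : Sc H)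
    (hn : finrank F V = n) (h1 : ∀ y, y ^ r = 1 → GC H y)
    (h2 : ∀ z : F, r ∣ n → (-1) ^ n * (-z) ^ (n / r) = 1 → ∃ b, b ^ r = z) : AllE D1 r (SC H) :=
  (allE_sc hr hF hH hn).2 ⟨fun y hy _ _ _ => h1 y hy, fun x z hz hx h3 => by
    obtain ⟨k, hk⟩ := hasED_nonpow hr hz hx
    obtain ⟨h4, -, -, h5⟩ := nonpow_props hr.ne_zero hk
    obtain ⟨b, hb⟩ := h2 z ⟨k, hn ▸ h4⟩ (by
      rw [← hn, h4, Nat.mul_div_cancel_left k hr.pos, ← h4, ← h5, h3])
    exact absurd hb (hz b)⟩

theorem det_pow_eq (hy : y ^ r = 1) (hk : r ∣ k * n + 1) :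
    (LinearMap.det y ^ k) ^ n * LinearMap.det y = 1 := by
  obtain ⟨j, hj⟩ := hk
  rw [← pow_mul, ← pow_succ, hj, pow_mul, ← map_pow, hy, map_one, one_pow]

theorem not_allE' {H : End F V → Prop} (hH : Sc H) (hy : y ^ r = 1) (hn : finrank F V = n) (hk : r ∣ k * n + 1)
    (h : ¬ GC H y) [Finite F] : ¬ AllE D1 r (SC H) :=
  not_allE hH hy (pow_ne_zero k (right_ne_zero_of_mul_eq_one (det_pow_eq hy hk)))
    (hn ▸ det_pow_eq hy hk) h

variable [Finite F]

theorem ns_of_sq (h2 : (2 : F) ≠ 0) (h : NR ρ m) (h' : Mu D 1 m) (hm : m ^ 2 = 1) (hy : y ^ 2 = 1)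
    (e : finrank F (eig m (-1)) = finrank F (eig y (-1)) ∨
      finrank F (eig m (-1)) + finrank F (eig y (-1)) = finrank F V) : NI ρ D y := by
  obtain e | e := e
  · exact ⟨m, h, h', sim_of_sq h2 hm hy rfl e⟩
  refine ⟨(-1 : F) • m, sc_nr _ _ (by simp) h, by simpa using h'.smul (-1),
    sim_of_sq h2 (by simp [hm]) hy rfl ?_⟩
  have := eig_add_le (x := m) h2
  have := le_eig_add hm
  rw [show eig ((-1 : F) • m) (-1) = eig m 1 from Submodule.ext fun v => by simp [mem_eig]]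
  omega

theorem ns_one (h2 : (2 : F) ≠ 0) (hy : y ^ 2 = 1) (e : finrank F (eig y (-1)) = 0 ∨
    finrank F (eig y (-1)) = finrank F V) : NI ρ D y := by
  have h1 := eig_add_le (x := (1 : End F V)) h2
  rw [show eig (1 : End F V) 1 = ⊤ from eq_top_iff.2 fun v _ => by simp [mem_eig], finrank_top] at h1
  exact ns_of_sq h2 nr_one mu_one (one_pow 2) hy (by omega)

theorem rkD_io (hr : r.Prime) (hF : (r : F) ≠ 0) (hi : io r F = r - 1) : RkD r G :=
  fun _ _ _ _ hx hy => ⟨⟨_, hi ▸ rk_of_pow hr hF hx⟩, sim_of_rk' hr hF hi hx hy rfl⟩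

theorem rkD_pair (hD : D.Nondeg) (hr : r.Prime) (hF : (r : F) ≠ 0) (hi : 2 * io r F = r - 1)
    (h : ∀ g ∈ Phi r F, pd σ g ≠ g) : RkD r fun x : End F V => IsIsometry D D x := by
  classical
  obtain ⟨g, g', h1, h2⟩ := Finset.card_eq_two.1 (card_Phi_eq hr hF hi)
  have h3 : ∀ f ∈ Phi r F, f = g ∨ f = g' := by simp [h2]
  have h4 := (h3 _ (pd_mem_Phi K.σσ hr (g := g) (by simp [h2]))).resolve_left (h g (by simp [h2]))
  have h5 := (h3 _ (pd_mem_Phi K.σσ hr (g := g') (by simp [h2]))).resolve_right (h g' (by simp [h2]))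
  have key : ∀ x : End F V, IsIsometry D D x → x ^ r = 1 → ∃ k, rk x = (r - 1) * k ∧
      fac x = Multiset.replicate k g + Multiset.replicate k g' := fun x hx e => by
    have h6 : fac x = Multiset.replicate ((fac x).count g) g +
        Multiset.replicate ((fac x).count g') g' := Multiset.ext.2 fun f => by
      simp only [Multiset.count_add, Multiset.count_replicate]
      by_cases hf : f ∈ fac x
      · rcases h3 f (fac_mem_Phi hr hF e f hf) with rfl | rfl <;> simp [h1, h1.symm]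
      · have := Multiset.count_eq_zero.2 hf
        split_ifs <;> simp_all
    have h7 := congrArg (Multiset.count g) (map_pd_fac hD hx (ss_of_pow' hF e))
    rw [h6] at h7
    simp only [Multiset.map_add, Multiset.map_replicate, h4, h5, Multiset.count_add,
      Multiset.count_replicate, h1, h1.symm, if_true, if_false, zero_add, add_zero] at h7
    rw [h7] at h6
    exact ⟨_, by rw [rk_of_pow hr hF e, ← hi]; nth_rw 1 [h6]; simp; ring, h6⟩
  intro x y hx hy e e'
  obtain ⟨k, h6, h7⟩ := key x hx e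
  obtain ⟨l, h8, h9⟩ := key y hy e'
  refine ⟨⟨k, h6⟩, fun h10 => sim_of_fac (ss_of_pow' hF e) (ss_of_pow' hF e') rfl ?_⟩
  rw [h7, h9, Nat.eq_of_mul_eq_mul_left (by have := hr.two_le; omega) (h6.symm.trans (h10.trans h8))]

namespace P2

variable (h : P2 ρ) (hn : finrank F V = 4) (hD : ∀ a, Mu D 1 (ρ a))
  (H : G4 (ρ a) (ρ b) (ρ e) (ρ d)) (ha : ρ a * ρ a = -1) (hb : ρ b * ρ b = -1)
  (he : ρ e * ρ e = 1) (hd : ρ d * ρ d = -1)
include h hn hD H he

theorem ni_even (hy : y ^ 2 = 1) (h1 : Even (finrank F (eig y (-1)))) : NI ρ D y := by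
  have := Submodule.finrank_le (eig y (-1))
  have := H.cd.eig_half h.two (unit_rho d) he
  by_cases h2 : finrank F (eig y (-1)) = 2
  · exact ns_of_sq h.two (nr_rho e) (hD e) (by rwa [pow_two]) hy (by omega)
  · exact ns_one h.two hy (by grind)

include ha

theorem ni_two (hi : i * i = -1) (hs : ρ s = algebraMap F _ i) (hy : y ^ 2 = 1) : NI ρ D y := by
  have := nontrivial_of_finrank_pos (R := F) (M := V) (by omega)
  obtain h1 | h1 := Nat.even_or_odd (finrank F (eig y (-1)))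
  · exact h.ni_even hn hD H he hy h1
  obtain ⟨m, h2, h3, h4, h5⟩ := h.exists_refl hD H he hn hi hs ha
  have := Submodule.finrank_le (eig y (-1))
  have := Submodule.finrank_le (eig m (-1))
  exact ns_of_sq h.two h2 h3 h4 hy (by grind)

include hb hd
variable (hG : ∀ m, Mu D 1 m → G m)
include hG

theorem ni_three (h3 : (3 : F) ≠ 0) (hi : i * i = -1) (hs : ρ s = algebraMap F _ i) (hR : RkD 3 G)
    (h1 : G y) (hy : y ^ 3 = 1) : NI ρ D y := by
  have := nontrivial_of_finrank_pos (R := F) (M := V) (by omega)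
  obtain ⟨⟨u, h4, h5, h6, h7⟩, v, h8, h9, h10, h11, h12⟩ := h.exists_three hD H ha hb hd hn h3 hi hs he
  have h13 : ∀ x : End F V, rk x ≤ 4 := fun x => hn ▸ Submodule.finrank_le _
  have := h13 y
  have := h13 v
  have := (hR y y h1 h1 hy hy).1
  have := (hR v v (hG v h9) (hG v h9) h10 h10).1
  obtain e | e | e : rk y = 0 ∨ rk u = rk y ∨ rk v = rk y := by omega
  · exact ⟨1, nr_one, mu_one, rk_eq_zero e ▸ .refl _⟩
  · exact ⟨u, h4, h5, (hR u y (hG u h5) h1 h6 hy).2 e⟩
  · exact ⟨v, h8, h9, (hR v y (hG v h9) h1 h10 hy).2 e⟩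

theorem ni_five (hR : RkD 5 G) (h1 : G y) (hy : y ^ 5 = 1) : NI ρ D y := by
  have := nontrivial_of_finrank_pos (R := F) (M := V) (by omega)
  obtain ⟨u, h4, h5, h6, h7⟩ := h.exists_five hD H ha hb he hd
  have h13 : ∀ x : End F V, rk x ≤ 4 := fun x => hn ▸ Submodule.finrank_le _
  have := h13 y
  have := h13 u
  have := (hR y y h1 h1 hy hy).1
  have := (hR u u (hG u h5) (hG u h5) h6 h6).1
  have := mt rk_eq_zero h7
  obtain e | e : rk y = 0 ∨ rk u = rk y := by omega
  · exact ⟨1, nr_one, mu_one, rk_eq_zero e ▸ .refl _⟩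
  · exact ⟨u, h4, h5, (hR u y (hG u h5) h1 h6 hy).2 e⟩

omit hD H ha hb he hd hG [Finite F]

theorem not_gc_eig (hr : Odd r) (h1 : y ^ r = 1) (h3 : finrank F (eig y 1) = 3) : ¬ GC (NR ρ) y := by
  have := nontrivial_of_finrank_pos (R := F) (M := V) (by omega)
  refine not_gc_of_scalar h1 (fun c e => ?_) fun x h4 h5 h6 =>
    h.of_eig hn h4 hr h6 ((finrank_eig_sim h5 1).trans h3)
  obtain ⟨v, h4, h5⟩ := Submodule.exists_mem_ne_zero_of_ne_bot (p := eig y 1) fun e => by
    rw [e, finrank_bot] at h3; omega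
  obtain rfl : c = 1 := smul_left_injective F h5 (by simpa [e] using mem_eig.1 h4)
  rw [show eig y 1 = ⊤ from eq_top_iff.2 fun v _ => by simp [mem_eig, e], finrank_top] at h3
  omega

theorem not_gc_quad (h1 : y ^ 5 = 1) (h2 : y * y = c • y - 1) (h3 : ∀ c, y ≠ algebraMap F _ c) :
    ¬ GC (NR ρ) y :=
  have := nontrivial_of_finrank_pos (R := F) (M := V) (by omega)
  not_gc_of_scalar h1 h3 fun _ h4 h5 h6 => h.of_quad hn h4 h6 (sim_quad h5 h2)

theorem not_gc_large [Finite Γ] (hc : Nat.card Γ = 16 * Nat.card (center Γ))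
    (hZ : Nat.card (center Γ) ∣ 4) (hr : r.Prime) (h7 : 7 ≤ r) (h1 : y ^ r = 1) (h2 : y ≠ 1)
    (h3 : LinearMap.det y = 1) : ¬ GC (NR ρ) y :=
  have := nontrivial_of_finrank_pos (R := F) (M := V) (by omega)
  not_gc_of_scalar h1 (not_scalar_of_det h1 h2 h3 hn ((Nat.coprime_pow_right_iff two_pos _ 2).2
    ((Nat.coprime_primes hr Nat.prime_two).2 (by omega)))) fun _ h4 _ => h.large hc hZ h4 hr h7

end P2

omit [FiniteDimensional F V] [Finite F] in
theorem prime_cases (hr : r.Prime) : r = 2 ∨ r = 3 ∨ r = 5 ∨ 7 ≤ r := by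
  have := hr.two_le
  by_contra! h
  obtain rfl | rfl : r = 4 ∨ r = 6 := by omega
  all_goals exact absurd hr (by decide)

omit [FiniteDimensional F V] [Finite F] in
theorem cast_ne_zero (p : ℕ) [Fact p.Prime] [CharP F p] (hr : r.Prime) (h : p ≠ r) : (r : F) ≠ 0 :=
  fun e => h ((Nat.prime_dvd_prime_iff_eq Fact.out hr).1 ((CharP.cast_eq_zero_iff F p r).1 e))

omit [Finite F] in
theorem exists_refl_dg (hr : r.Prime) {ζ : F} (hζ : IsPrimitiveRoot ζ r) (hn : finrank F V = 4) :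
    ∃ y : End F V, Dg y {ζ, 1, 1, 1} ∧ y ^ r = 1 ∧ finrank F (eig y 1) = 3 := by
  classical
  obtain ⟨y, hy⟩ := exists_dgm (V := V) (s := {ζ, 1, 1, 1}) (by simp [hn])
  exact ⟨y, hy, hy.pow_eq_one.2 (by simp [hζ.pow_eq_one]), by
    simp [hy.eig, (hζ.ne_one hr.one_lt).symm]⟩

omit [FiniteDimensional F V] [Finite F] in
theorem orderOf_three (p : ℕ) : (p % 3 = 1 → orderOf (p : ZMod 3) = 1) ∧
    (p % 3 = 2 → orderOf (p : ZMod 3) = 2) := by
  rw [← ZMod.natCast_mod p 3]
  exact ⟨fun e => by simp [e], fun e => by rw [e]; exact (orderOf_eq_iff (by decide)).2 (by decide)⟩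

variable [Finite Γ] (p : ℕ) [Fact p.Prime] [CharP F p]

theorem lin_four (h : P2 ρ) (hn : finrank F V = 4) (hc : Nat.card Γ = 2 ^ 6)
    (hZ : Nat.card (center Γ) = 4) (h0 : IsCyclic (center Γ)) (hF : Nat.card F = p) (hp : p % 4 = 1)
    (hr : r.Prime) (hΩ : ∃ y : End F V, y ^ r = 1 ∧ y ≠ 1 ∧ LinearMap.det y = 1) :
    AllE D1 r (SC (NR ρ)) ↔ r = 2 ∨ (r = 3 ∧ p % 3 = 2) ∨ (r = 5 ∧ orderOf (p : ZMod 5) = 4) := by
  have := nontrivial_of_finrank_pos (R := F) (M := V) (by omega)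
  obtain ⟨s, i, hi, hs⟩ := h.exists_i h0 hZ
  obtain ⟨a, b, e, d, H, ha, hb, he, hd⟩ := h.g4_four (by omega) hi hs
  have hD : ∀ a, Mu (zf F V) 1 (ρ a) := fun _ _ _ => by simp [zf]
  obtain rfl | rfl | rfl | h7 := prime_cases hr
  · exact iff_of_true (allE_sc_of hr h.two sc_nr hn (fun y hy => (h.ni_two hn hD H ha he hi hs hy).gc)
      fun z _ hz => (sq_eq_one_iff.1 (show z ^ 2 = 1 by linear_combination hz)).elim
        (fun e => ⟨1, by simp [e]⟩) fun e => ⟨i, by rw [e, sq, hi]⟩) (.inl rfl)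
  · have h3 := cast_ne_zero (F := F) p hr (by omega)
    have h4 : ¬ 3 ∣ p := fun e => by have := (Nat.prime_dvd_prime_iff_eq hr Fact.out).1 e; omega
    simp only [true_and, Nat.reduceEqDiff, false_and, false_or, or_false]
    refine ⟨fun H => by_contra fun e => ?_, fun e => allE_sc_of hr h3 sc_nr hn (fun y hy =>
      (h.ni_three (G := fun _ => True) hn hD H ha hb he hd (fun _ _ => trivial) h3 hi hs (rkD_io hr h3
        (by rw [io, hF, (orderOf_three p).2 e])) trivial hy).gc) fun _ h => absurd h (by decide)⟩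
    obtain ⟨ζ, hζ⟩ := exists_primRoot (F := F) (N := 3) (by omega)
    obtain ⟨y, -, h5, h6⟩ := exists_refl_dg hr hζ hn
    exact not_allE' sc_nr h5 hn (k := 2) (by decide) (h.not_gc_eig hn (by decide) h5 h6) H
  · simp only [true_and, Nat.reduceEqDiff, false_and, false_or]
    refine ⟨fun H => by_contra fun e => ?_, fun e => ?_⟩
    · obtain ⟨c, h3⟩ := exists_tau_five (F := F) p (by omega) e
      let φ := LinearEquiv.ofFinrankEq (R := F) V (Fin 2 ⊕ Fin 2 → F) (by simp [hn])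
      obtain ⟨y, -, h4, h5⟩ := exists_alt_quad ((iso_comap _ φ).symm.nondeg (fSymp_nondeg 2)) hn c
      exact not_allE' sc_nr (pow_five h3 h4) hn (k := 1) (by decide)
        (h.not_gc_quad hn (pow_five h3 h4) h4 h5) H
    have h3 := cast_ne_zero (F := F) p hr (by
      rintro rfl; rw [ZMod.natCast_self, orderOf_zero] at e; omega)
    exact allE_sc_of hr h3 sc_nr hn (fun y hy => (h.ni_five (G := fun _ => True) hn hD H ha hb he hd
      (fun _ _ => trivial) (rkD_io hr h3 (by rw [io, hF, e])) trivial hy).gc)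
      fun _ h => absurd h (by decide)
  obtain ⟨y, h1, h2, h3⟩ := hΩ
  exact iff_of_false (fun H => h.not_gc_large hn (by omega) hZ.dvd hr h7 h1 h2 h3
    (H y h3 ⟨1, by simpa⟩).gc) (by omega)

theorem alt_four {D : Form (altKind F) V} (hV : D.Nondeg) (hD : ∀ a, Mu D 1 (ρ a)) (h : P2 ρ)
    (hn : finrank F V = 4) (hc : Nat.card Γ = 2 ^ 5) (hZ : Nat.card (center Γ) = 2)
    (hm : ∀ A : Subgroup Γ, IsMulCommutative A → (∀ x ∈ A, x * x = 1) → Nat.card A < 2 ^ (2 + 1))
    (hF : Nat.card F = p) (hr : r.Prime) (hΩ : r ∣ Nat.card (⊤ : Subgroup D.isom)) :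
    AllE (fun x => IsIsometry D D x) r (IC D (NR ρ)) ↔
      r = 2 ∨ (r = 5 ∧ orderOf (p : ZMod 5) = 4) := by
  have := nontrivial_of_finrank_pos (R := F) (M := V) (by omega)
  have hM := minus_hM h.inj hc hZ hm
  obtain ⟨a, b, e, d, H, ha, hb, he, hd⟩ := h.g4_minus (by omega) hM
  have iso : ∀ m, Mu D 1 m → IsIsometry D D m := fun m e => alt_isIsometry fun u v => by rw [e, one_mul]
  have key : ∀ y : End F V, IsIsometry D D y → y.IsSemisimple → NI ρ D y → IC D (NR ρ) y :=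
    fun y h1 h2 ⟨m, h3, h4, h5⟩ => ⟨m, h3, (isoC_alt hV hV h2 h1 (iso m h4) h5.symm).symm⟩
  obtain rfl | rfl | rfl | h7 := prime_cases hr
  · refine iff_of_true ((allE_two hV fun _ h => h).2 ⟨fun y h1 h2 => ?_, fun y h1 h2 => ⟨_, nr_rho a,
      (nr_neg_one h.two).isoC hV hV (iso _ (hD a)) h1 (by simp [sq, ha]) (by simpa using h2) rfl⟩⟩)
      (.inl rfl)
    obtain ⟨k, hk⟩ := Symp.exists_finrank_eq
      (nondeg_eig hV (ss_of_pow' h.two h2) h1 (c := -1) (by simp))
    exact key y h1 (ss_of_pow' h.two h2) (h.ni_even hn hD H he h2 ⟨k, by omega⟩)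
  · refine iff_of_false (fun E => ?_) (by simp)
    by_cases h3 : p = 3
    · subst h3
      obtain ⟨y, h1, h2, h3⟩ := alt_tv 3 hV
      exact h.not_gc_eig hn (by decide) h2 (by omega) (E y h1 ⟨1, by simpa⟩).gc
    have h4 := cast_ne_zero (F := F) p hr h3
    have := io_pos hr h4
    have := io_le_pred hr h4
    obtain ⟨y, h1, h2, h5⟩ := alt_min hV hr (by decide) h4 (c := 2) (by grind) (by omega)
    obtain ⟨x, h6, h7⟩ := E y h1 ⟨1, by simpa⟩
    have h8 : x ^ 3 = 1 := by simpa using sim_pow_scalar (z := 1) h7.sim.symm (by simpa using h2)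
    obtain ⟨s, t, h9, h10, h11, h12⟩ := h.minus_fix H he hM (fun z hz => by
      rw [← map_mul, ← sq, ← hZ, ← map_one ρ]
      exact congrArg (ρ ·.1) (pow_card_eq_one' (x := (⟨z, hz⟩ : center Γ)))) (by rw [hc]; decide) h6 h8
    have inv : ∀ {s}, Commute x (ρ s) → Inv (ρ s) (eig x 1) := fun e v hv => mem_eig.2 (by
      rw [← End.mul_apply, e.eq, End.mul_apply, mem_eig.1 hv, map_smul])
    have h13 : (ρ s).restrict (inv h9) * (ρ s).restrict (inv h9) = 1 :=
      LinearMap.ext fun v => Subtype.ext (LinearMap.congr_fun h12 v)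
    have h14 := An.eig_half (S := (ρ s).restrict (inv h9)) (T := (ρ t).restrict (inv h10))
      (LinearMap.ext fun v => Subtype.ext (LinearMap.congr_fun h11 v)) h.two
      (isUnit_restrict (unit_rho t) _) h13
    obtain ⟨k, hk⟩ := Symp.exists_finrank_eq (nondeg_eig (nondeg_eig hV (ss_of_pow' h4 h8)
      (h7.symm.isIsometry h1) (c := 1) (by simp)) (ss_of_pow' h.two (by rwa [sq]))
      (alt_isIsometry fun u v => (iso _ (hD s)).B_map u.1 v.1) (c := -1) (by simp))
    have := finrank_eig_add_rng x 1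
    have := rk_sim h7.sim
    unfold rk at *
    omega
  · simp only [true_and, Nat.reduceEqDiff, false_or]
    refine ⟨fun E => by_contra fun e => ?_, fun e => ?_⟩
    · obtain ⟨c, h3⟩ := exists_tau_five (F := F) p (by rintro rfl; exact h.two CharTwo.two_eq_zero) e
      obtain ⟨y, h1, h4, h5⟩ := exists_alt_quad hV hn c
      exact h.not_gc_quad hn (pow_five h3 h4) h4 h5 (E y h1 ⟨1, by simpa using pow_five h3 h4⟩).gc
    have h3 := cast_ne_zero (F := F) p hr (by
      rintro rfl; rw [ZMod.natCast_self, orderOf_zero] at e; omega)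
    refine allE_ic sc_nr (fun _ h => h) (fun x z h1 h2 => ?_) fun y h1 h2 => key y h1
      (ss_of_pow' h3 h2) (h.ni_five (G := fun _ => True) hn hD H ha hb he hd
      (fun _ _ => trivial) (rkD_io hr h3 (by rw [io, hF, e])) trivial h2)
    have := norm_of_pow hV h1 h2
    exact ⟨z, this, by linear_combination (z ^ 3 + z) * this⟩
  obtain ⟨g, -, h1, h2⟩ := exists_isom_order hr hΩ
  exact iff_of_false (fun E => h.not_gc_large hn (by omega) (by simp [hZ]) hr h7 h1 h2
    ((coe_det g).symm.trans (congrArg Units.val (Symp.det_eq_one hV g)))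
    (E _ (isIsometry_nat g) ⟨1, by simpa⟩).gc) (by omega)

section Herm

variable {q : ℕ} {h' : IsConj σ q} {D : Form h'.kind V}

omit [Finite Γ] in
theorem not_allE_su (hD : D.Nondeg) {H : End F V → Prop} (hH : Sc H) (h : SelfDual σ y)
    (hy : y ^ r = 1) (hn : finrank F V = n) (hk : r ∣ k * n + 1) (h1 : ¬ GC H y) :
    ¬ AllE (fun x => IsIsometry D D x ∧ LinearMap.det x = 1) r (IC D H) := fun E => by
  obtain ⟨g, hg⟩ := h.exists_herm_isom hD rfl
  have h2 : nat D g ^ r = 1 := (sim_pow_scalar (z := 1) hg (by simpa using hy)).trans (map_one _)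
  have h3 := det_pow_eq h2 hk
  have h4 := norm_det hD (isIsometry_nat g)
  refine h1 (((hH.gc.iff (pow_ne_zero k (left_ne_zero_of_mul_eq_one h4))).1
    (E _ ⟨isIsometry_smul' (isIsometry_nat g) ?_, by rwa [LinearMap.det_smul, hn]⟩
      ⟨(_ ^ k) ^ r, by rw [_root_.smul_pow, h2, Algebra.algebraMap_eq_smul_one]⟩).gc).sim hg.symm)
  rw [map_pow, ← mul_pow, h4, one_pow]

omit [Finite Γ] in
theorem NI.ic (h : NI ρ D y) (hD : D.Nondeg) (hy : IsIsometry D D y) : IC D (NR ρ) y :=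
  let ⟨m, h3, h4, h5⟩ := h
  ⟨m, h3, isoC_herm hD hD (herm_isIsometry fun u v => by rw [h4, one_mul]) hy h5⟩

omit [Finite Γ] in
theorem Dg.selfDual {s : Multiset F} (h : Dg y s) (hσ : ∀ a, σ (σ a) = a) (hr : r.Prime)
    (hF : (r : F) ≠ 0) (hy : y ^ r = 1) (h1 : s.map (fun a => (σ a)⁻¹) = s) : SelfDual σ y :=
  (selfDual_iff_pd hσ (ss_of_pow' hF hy) (isUnit_of_pow hr hy)).2 (h.pd (fun a ha => by
    rintro rfl; simpa [hr.ne_zero] using h.pow_eq_one.1 hy 0 ha) h1)

theorem herm_four {h' : IsConj σ p} {D : Form h'.kind V} (hV : D.Nondeg) (hD : ∀ a, Mu D 1 (ρ a))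
    (h : P2 ρ) (hn : finrank F V = 4) (hc : Nat.card Γ = 2 ^ 6)
    (hZ : Nat.card (center Γ) = 4) (h0 : IsCyclic (center Γ)) (hp : p % 4 = 3)
    (hr : r.Prime) (hΩ : r ∣ Nat.card D.det.ker) :
    AllE (fun x => IsIsometry D D x ∧ LinearMap.det x = 1) r (IC D (NR ρ)) ↔
      r = 2 ∨ (r = 3 ∧ p % 3 = 1) ∨ (r = 5 ∧ orderOf (p : ZMod 5) = 4) := by
  have := nontrivial_of_finrank_pos (R := F) (M := V) (by omega)
  obtain ⟨s, i, hi, hs⟩ := h.exists_i h0 hZ
  obtain ⟨a, b, e, d, H, ha, hb, he, hd⟩ := h.g4_four (by omega) hi hs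
  have iso : ∀ m, Mu D 1 m → IsIsometry D D m := fun m e => herm_isIsometry fun u v => by
    rw [e, one_mul]
  have hq := h'.card_sub_one
  obtain rfl | rfl | rfl | h7 := prime_cases hr
  · refine iff_of_true (allE_ic sc_nr (fun _ h => h.1) (su_root hV hr h.two hn fun z _ hz => ?_)
      fun y h1 h2 => (h.ni_two hn hD H ha he hi hs h2).ic hV h1) (.inl rfl)
    exact (sq_eq_one_iff.1 (show z ^ 2 = 1 by linear_combination hz)).elim
      (fun e => ⟨1, by simp [e]⟩) fun e => ⟨i, by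
        simpa [mul_comm] using ((hD s).norm hV (r := 1) (by simpa)).symm, by rw [e, sq, hi]⟩
  · simp only [true_and, Nat.reduceEqDiff, false_and, false_or, or_false]
    refine ⟨fun E => by_contra fun e => ?_, fun e => ?_⟩
    · by_cases h3 : p = 3
      · subst h3
        obtain ⟨y, h1, h2⟩ := exists_tv (F := F) (V := V) 3 (by omega)
        exact not_allE_su hV sc_nr (selfDual_of_unip (fun a => ⟨σ a, h'.σσ a⟩) (nil_of_pow_char 3 h1))
          h1 hn (k := 2) (by decide) (h.not_gc_eig hn (by decide) h1 (by omega)) E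
      have h4 : ¬ 3 ∣ p := fun e => h3 ((Nat.prime_dvd_prime_iff_eq hr Fact.out).1 e).symm
      have h5 : 3 ∣ p + 1 := by omega
      obtain ⟨ζ, hζ⟩ := exists_primRoot (F := F) (N := 3) (hq ▸ h5.mul_right _)
      obtain ⟨y, h6, h7, h8⟩ := exists_refl_dg hr hζ hn
      refine not_allE_su hV sc_nr (h6.selfDual h'.σσ hr (cast_ne_zero p hr h3) h7 ?_) h7 hn (k := 2)
        (by decide) (h.not_gc_eig hn (by decide) h7 h8) E
      simp [inv_eq_of_mul_eq_one_left ((h'.norm_eq ζ).trans ((hζ.pow_eq_one_iff_dvd _).2 h5))]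
    have h3 := cast_ne_zero (F := F) p hr (by omega)
    exact allE_ic sc_nr (fun _ h => h.1) (su_root hV hr h3 hn fun _ h => absurd h (by decide))
      fun y h1 h2 => (h.ni_three hn hD H ha hb he hd iso h3 hi hs (rkD_pair hV hr h3 (by
        simp [io_herm h', (orderOf_three p).1 e]) fun g hg => by
          simp [pd_herm_iff h' hr (by decide) h3 hg, (orderOf_three p).1 e]) h1 h2).ic hV h1
  · have h3 := cast_ne_zero (F := F) p hr (by omega)
    simp only [true_and, Nat.reduceEqDiff, false_and, false_or]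
    refine ⟨fun E => by_contra fun e => ?_, fun e => allE_ic sc_nr (fun _ h => h.1)
      (su_root hV hr h3 hn fun _ h => absurd h (by decide))
      fun y h1 h2 => (h.ni_five hn hD H ha hb he hd iso (rkD_pair hV hr h3 (by
        simp [io_herm h', e]; decide) fun g hg => by
          simp [pd_herm_iff h' hr (by decide) h3 hg, e]) h1 h2).ic hV h1⟩
    have h4 : ¬ 5 ∣ p := fun e => by have := (Nat.prime_dvd_prime_iff_eq hr Fact.out).1 e; omega
    have h5 := (five_cases p).resolve_left e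
    obtain ⟨ζ, hζ⟩ := exists_primRoot (F := F) (N := 5) (hq ▸ hr.dvd_mul.2 (by omega))
    obtain ⟨y, hy⟩ := exists_dgm (V := V) (s := {ζ, ζ⁻¹, ζ, ζ⁻¹}) (by simp [hn])
    have h6 := hζ.ne_zero (by decide)
    have h7 : y ^ 5 = 1 := hy.pow_eq_one.2 (by simp [hζ.pow_eq_one])
    refine not_allE_su hV sc_nr (hy.selfDual h'.σσ hr h3 h7 ?_) h7 hn (k := 1) (by decide)
      (h.not_gc_quad hn (c := ζ + ζ⁻¹) h7 ?_ fun c e => ?_) E
    · obtain e | e : σ ζ = ζ ∨ σ ζ = ζ⁻¹ := by
        rw [h'.apply, ← pow_mod_orderOf, ← hζ.eq_orderOf]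
        refine (h5.resolve_left (by omega)).imp (fun e => by simp [e]) fun e => ?_
        rw [e]; exact eq_inv_of_mul_eq_one_left ((pow_succ ζ 4).symm.trans hζ.pow_eq_one)
      · simp only [Multiset.insert_eq_cons, ← Multiset.cons_zero, Multiset.map_cons, e, inv_inv,
          map_inv₀, Multiset.map_zero, Multiset.cons_swap ζ⁻¹ ζ]
      · simp [e]
    · have := (hy.aeval_iff (X * X - (C (ζ + ζ⁻¹) * X - 1))).2 (by simp [h6]; field_simp; simp)
      simpa [sub_eq_zero, Algebra.smul_def] using this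
    · have := (hy.aeval_iff (X - C c)).1 (by simp [e])
      simp only [Multiset.insert_eq_cons, Multiset.mem_cons, eval_sub, eval_X, eval_C, sub_eq_zero] at this
      exact absurd (hζ.dvd_of_pow_eq_one 2 (by
        rw [sq]; nth_rw 2 [(this _ (.inl rfl)).trans (this _ (.inr (.inl rfl))).symm]
        exact mul_inv_cancel₀ h6)) (by decide)
  obtain ⟨g, h1, h2, h3⟩ := exists_isom_order hr hΩ
  have h4 := ((ker_det_iff hV _).2 ⟨g, h1, rfl⟩)
  exact iff_of_false (fun E => h.not_gc_large hn (by omega) hZ.dvd hr h7 h2 h3 h4.2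
    (E _ h4 ⟨1, by simpa⟩).gc) (by omega)

end Herm

end Cfsg.Lib.Elu
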