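import Cfsg.Agent.Lib.Elu.C6b

/-!
Normalizers of groups of symplectic type in dimensions two and three.
-/

set_option autoImplicit false

namespace Cfsg.Lib.Elu

open Module Cfsg.Lib.Forms Cfsg.Lib.Forms.Form Cfsg.Lib.Known Cfsg.Lib.Conj Subgroup Polynomial

variable {F V Γ : Type*} [Field F] [AddCommGroup V] [Module F V] [Group Γ] {ρ : Γ →* End F V}
  {x y m A B X Y Z : End F V} {r n k : ℕ} {c z ω : F} {a b : Γ} {σ : F →+* F} {K : Kind σ}
  {D : Form K V}

theorem Rp.not_gc_small [Finite Γ] [FiniteDimensional F V] (h : Rp ρ) {l : ℕ} (hl : l = 2 ∨ l = 3)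
    (hn : finrank F V = l) (hc : Nat.card Γ = l ^ 3) (hr : r.Prime) (h5 : 5 ≤ r) (h1 : y ^ r = 1)
    (h2 : y ≠ 1) (h3 : LinearMap.det y = 1) : ¬ GC (NR ρ) y := by
  have := nontrivial_of_finrank_pos (R := F) (M := V) (by omega)
  have hp : l.Prime := by rcases hl with rfl | rfl <;> decide
  have := Fact.mk hp
  have : Nontrivial Γ := Finite.one_lt_card_iff_nontrivial.1 (hc ▸ Nat.one_lt_pow (by decide) hp.one_lt)
  have h4 := Finite.one_lt_card_iff_nontrivial.2 (IsPGroup.of_card hc).center_nontrivial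
  refine not_gc_of_scalar h1 (not_scalar_of_det h1 h2 h3 hn ((Nat.coprime_primes hr hp).2 (by omega)))
    fun x h6 _ h7 => h.scalar h6 hr h7 fun e1 e2 e3 => ?_
  rw [hc] at e2 e3 ⊢
  obtain ⟨j, h8, h9⟩ := (Nat.dvd_prime_pow hp).1 e2
  rw [h9] at e1 e3 ⊢
  have h10 := (Nat.modEq_iff_dvd' (Nat.pow_le_pow_right hp.pos h8)).1 e3.symm
  have key : ∀ k, k ∣ 2 ^ 3 * 3 ^ 2 → ¬ r ∣ k := fun k e e' => by
    rcases hr.dvd_mul.1 (e'.trans e) with e | e <;>
      have := Nat.le_of_dvd (by decide) (hr.dvd_of_dvd_pow e) <;> omega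
  interval_cases j
  · have := Nat.le_of_dvd one_pos e1; omega
  all_goals first | rfl | (rcases hl with rfl | rfl <;> exact absurd h10 (key _ (by decide)))

variable [FiniteDimensional F V]

theorem irr_two (h2 : (2 : F) ≠ 0) (hn : finrank F V = 2) (h : An A B) (hA : A * A = -1)
    (hB : B * B = -1) (h1 : Commute m A) (h3 : Commute m B) : ∃ c, m = algebraMap F _ c := by
  have uA : IsUnit A := ⟨⟨A, -A, by simp [hA], by simp [hA]⟩, rfl⟩
  have uB : IsUnit B := ⟨⟨B, -B, by simp [hB], by simp [hB]⟩, rfl⟩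
  have t1 := h.trace h2 uB
  have t2 := h.symm.trace h2 uA
  have t3 := (h.symm.mul_cm (.refl B)).symm.trace h2 uB
  have l : ∀ X, A * (A * X) = -X := fun X => by rw [← mul_assoc, hA, neg_one_mul]
  have l' : ∀ X, B * (A * X) = -(A * (B * X)) := fun X => by rw [← mul_assoc, h.symm, neg_mul, mul_assoc]
  have h4 : LinearIndependent F ![1, A, B, A * B] := Fintype.linearIndependent_iff.2 fun g hg i => by
    have e := fun X => congrArg (fun Y => LinearMap.trace F V (X * Y)) hg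
    have e0 := e 1
    have e1 := e A
    have e2 := e B
    have e3 := e (A * B)
    simp [Fin.sum_univ_four, mul_add, mul_assoc, l, l', hA, hB, show B * A = _ from h.symm, t1, t2, t3,
      hn, h2] at e0 e1 e2 e3
    fin_cases i <;> assumption
  refine (Algebra.IsCentral.mem_center_iff F).1 (Subalgebra.mem_center_iff.2 fun X => ?_)
  induction (h4.span_eq_top_of_card_eq_finrank' (by simp [finrank_linearMap, hn]) ▸
    Submodule.mem_top (x := X)) using Submodule.span_induction with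
  | mem X hX =>
    obtain ⟨i, rfl⟩ := hX
    fin_cases i
    exacts [(Commute.one_left m).eq, h1.symm.eq, h3.symm.eq, (h1.mul_right h3).symm.eq]
  | zero => simp
  | add X Y _ _ e e' => rw [add_mul, mul_add, e, e']
  | smul c X _ e => rw [smul_mul_assoc, mul_smul_comm, e]

variable [Finite F]

theorem p2_quat (e : Γ ≃* QuaternionGroup 2) (hi : Function.Injective ρ) (h2 : (2 : F) ≠ 0)
    (hn : finrank F V = 2) :
    P2 ρ ∧ ∃ a b, An (ρ a) (ρ b) ∧ ρ a * ρ a = -1 ∧ ρ b * ρ b = -1 := by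
  let φ := ρ.comp e.symm.toMonoidHom
  have h1 : φ (.a 1) * φ (.xa 0) = φ (.a 2) * (φ (.xa 0) * φ (.a 1)) := by
    rw [← map_mul, ← map_mul, ← map_mul]; congr 1
  have h3 : φ (.a 2) ^ 2 = 1 := by rw [← map_pow, ← map_one φ]; congr 1
  have h4 : φ (.a 2) = -1 := by
    have h5 := congrArg LinearMap.det h1
    rw [map_mul, map_mul, map_mul, mul_comm, det_of_sq h2 h3, right_eq_mul₀ (mul_ne_zero
      ((unit_rho _).map _).ne_zero ((unit_rho _).map _).ne_zero), neg_one_pow_eq_one_iff_even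
        fun e => h2 (by linear_combination -e)] at h5
    have := Submodule.finrank_le (eig (φ (.a 2)) (-1))
    have := le_eig_add h3
    have h6 : finrank F (eig (φ (.a 2)) 1) ≠ finrank F V := fun e' => by
      have : φ (.a 2) = φ 1 := LinearMap.ext fun v => by
        simpa using mem_eig.1 ((Submodule.eq_top_of_finrank_eq e').ge (Submodule.mem_top (x := v)))
      exact absurd ((hi.comp e.symm.injective) this) (by decide)
    have := Submodule.finrank_le (eig (φ (.a 2)) 1)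
    exact LinearMap.ext fun v => by
      simpa using mem_eig.1 ((Submodule.eq_top_of_finrank_eq (S := eig (φ (.a 2)) (-1))
        (by grind)).ge (Submodule.mem_top (x := v)))
  have h5 : An (φ (.a 1)) (φ (.xa 0)) := by rw [An, h1, h4, neg_one_mul]
  have h6 : φ (.a 1) * φ (.a 1) = -1 := by rw [← map_mul, ← h4]; congr 1
  have h7 : φ (.xa 0) * φ (.xa 0) = -1 := by rw [← map_mul, ← h4]; congr 1
  refine ⟨⟨⟨hi, fun M hM => irr_two h2 hn h5 h6 h7 (hM _) (hM _)⟩, h2, fun a => ?_⟩, _, _, h5, h6, h7⟩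
  rw [show ρ a = φ (e a) by simp [φ], ← map_mul, ← h4, ← map_one φ]
  exact ((by decide : ∀ x : QuaternionGroup 2, x * x = 1 ∨ x * x = .a 2) _).imp (congrArg _) (congrArg _)

theorem exists_dg_two (h3 : (3 : F) ≠ 0) (hn : finrank F V = 2) (hi : io 3 F = 1)
    (hζ : IsPrimitiveRoot ω 3) (hy : y ^ 3 = 1) :
    (∃ c : F, c ≠ 0 ∧ y = c • 1) ∨ ∃ c : F, c ≠ 0 ∧ Dg (c • y) {ω, ω⁻¹} := by
  obtain ⟨s, hs⟩ := exists_dg_of_pow Nat.prime_three h3 hi hy
  obtain ⟨u, v, rfl⟩ := Multiset.card_eq_two.1 (hs.card.trans hn)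
  have h1 := hs.pow_eq_one.1 hy u (by simp)
  have h2 := hs.pow_eq_one.1 hy v (by simp)
  have h4 : u ≠ 0 := by rintro rfl; simp at h1
  have h5 : v ≠ 0 := by rintro rfl; simp at h2
  have h6 : u * v * v = (u * v * u)⁻¹ := eq_inv_of_mul_eq_one_left (by
    linear_combination v ^ 3 * h1 + h2)
  have h7 := hs.smul (u * v)
  simp only [Multiset.insert_eq_cons, Multiset.map_cons, Multiset.map_singleton, h6] at h7
  obtain ⟨j, h8, h9⟩ := hζ.eq_pow_of_pow_eq_one (ξ := u * v * u) (by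
    linear_combination (u ^ 3 + 1) * v ^ 3 * h1 + h2)
  have h10 : ω ^ 2 = ω⁻¹ := eq_inv_of_mul_eq_one_left ((pow_succ ω 2).symm.trans hζ.pow_eq_one)
  rw [← h9] at h7
  interval_cases j
  · refine .inl ⟨(u * v)⁻¹, by simp [h4, h5], (eq_inv_smul_iff₀ (by simp [h4, h5])).2 ?_⟩
    simpa using (h7.pow_eq_one (r := 1)).2 (by simp)
  · exact .inr ⟨_, mul_ne_zero h4 h5, by simpa using h7⟩
  · exact .inr ⟨_, mul_ne_zero h4 h5, by simpa [h10, Multiset.pair_comm ω] using h7⟩

theorem lin_two [Finite Γ] (p : ℕ) [Fact p.Prime] [CharP F p] (e : Γ ≃* QuaternionGroup 2)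
    (hi : Function.Injective ρ) (hn : finrank F V = 2) (hp : 5 ≤ p) (hr : r.Prime)
    (hΩ : ∃ y : End F V, y ^ r = 1 ∧ y ≠ 1 ∧ LinearMap.det y = 1) :
    AllE D1 r (SC (NR ρ)) ↔ r = 2 ∨ r = 3 := by
  have := nontrivial_of_finrank_pos (R := F) (M := V) (by omega)
  have h2 : (2 : F) ≠ 0 := cast_ne_zero p Nat.prime_two (by grind)
  obtain ⟨h, a, b, H, ha, hb⟩ := p2_quat e hi h2 hn
  obtain rfl | rfl | h5 : r = 2 ∨ r = 3 ∨ 5 ≤ r := by have := prime_cases hr; omega
  · refine iff_of_true ((allE_sc hr h2 sc_nr hn).2 ⟨fun y hy w h0 hw => ?_, fun x z hz hx h3 => ?_⟩)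
      (.inl rfl)
    · have := Submodule.finrank_le (eig y (-1))
      by_cases h3 : finrank F (eig y (-1)) = 1
      · rw [det_of_sq h2 hy, h3] at hw
        have h4 : w • ρ a * w • ρ a = 1 := by
          simp [ha, smul_smul, show w * w = -1 by linear_combination -hw]
        have := An.eig_half (by simpa using H.smul w 1) h2 (unit_rho b) h4
        exact ⟨_, sc_nr _ _ h0 (nr_rho a), sim_of_sq h2 (by rwa [sq]) hy rfl (by omega)⟩
      · exact (ns_one (D := zf F V) h2 hy (by omega)).gc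
    · obtain ⟨k, hk⟩ := hasED_nonpow hr hz hx
      obtain ⟨h4, -, -, h5⟩ := nonpow_props hr.ne_zero hk
      obtain rfl : k = 1 := by omega
      obtain rfl : z = -1 := by rw [h3, hn] at h5; linear_combination h5
      exact ⟨_, nr_rho a, sim_nonpow hr hz (by simp [sq, ha]) hx rfl⟩
  · have h3 := cast_ne_zero (F := F) p hr (by omega)
    have h4 := om_eq h2 H ha hb
    refine iff_of_true (allE_sc_of hr h3 sc_nr hn (fun y hy => ?_) fun _ h => absurd h (by decide))
      (.inr rfl)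
    by_cases h5 : io 3 F = 1
    · obtain ⟨ζ, hζ⟩ := exists_primRoot (io_eq_one_iff.1 h5)
      obtain ⟨c, h6, rfl⟩ | ⟨c, h6, h7⟩ := exists_dg_two h3 hn h5 hζ hy
      · exact .of (sc_nr _ _ h6 nr_one)
      obtain ⟨d, -, h8⟩ | ⟨d, h8, h9⟩ := exists_dg_two h3 hn h5 hζ (cube_of h4)
      · exact absurd (h8 ▸ (Commute.one_right _).smul_right d) (not_comm_om h2 H ha (unit_rho b))
      exact (sc_nr.gc.iff h6).1 ⟨_, sc_nr _ _ h8 (h.nr_om ha hb), h9.sim h7⟩
    have := io_pos hr h3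
    have := io_le_pred hr h3
    have h6 := rkD_io (G := fun _ : End F V => True) hr h3 (by omega) _ y trivial trivial (cube_of h4) hy
    have h7 := (rkD_io (G := fun _ : End F V => True) hr h3 (by omega) y y trivial trivial hy hy).1
    have h8 : rk y ≤ 2 := hn ▸ Submodule.finrank_le _
    have h9 := rk_of_cube h3 h4
    by_cases h10 : rk y = 0
    · exact rk_eq_zero h10 ▸ .of nr_one
    · exact ⟨_, h.nr_om ha hb, h6.2 (by omega)⟩
  obtain ⟨y, h1, h3, h4⟩ := hΩ
  exact iff_of_false (fun E => h.toRp.not_gc_small (.inl rfl) hn ((Nat.card_congr e.toEquiv).trans (by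
    simp [QuaternionGroup.card])) hr h5 h1 h3 h4 (E y h4 ⟨1, by simpa⟩).gc) (by omega)

end Cfsg.Lib.Elu
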