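import Cfsg.Agent.Lib.Elu.C6c

/-!
Normalizers of extraspecial groups of order 27 in dimension three.
-/

set_option autoImplicit false

namespace Cfsg.Lib.Elu

open Module Cfsg.Lib.Forms Cfsg.Lib.Forms.Form Cfsg.Lib.Known Cfsg.Lib.Conj Subgroup Polynomial

variable {F V Γ : Type*} [Field F] [AddCommGroup V] [Module F V] [Group Γ] {ρ : Γ →* End F V}
  {x y m : End F V} {r : ℕ} {c ω : F} {a b z : Γ} {σ : F →+* F} {K : Kind σ}
  {D : Form K V} {β : Basis (Fin 3) F V}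

theorem comm_of_dvd_nine {G : Type*} [Group G] (h : Nat.card G ∣ 3 ^ 2) (a b : G) : a * b = b * a := by
  obtain ⟨j, h1, h2⟩ := (Nat.dvd_prime_pow Nat.prime_three).1 h
  by_cases h3 : j = 2
  · exact (IsPGroup.isMulCommutative_of_card_eq_prime_sq (h3 ▸ h2)).1.1 a b
  · have : IsCyclic G := isCyclic_of_card_dvd_prime (p := 3) (by
      rw [h2]; exact (pow_dvd_pow 3 (by omega : j ≤ 1)).trans (by simp))
    exact IsCyclic.isMulCommutative.1.1 a b

theorem dvd_nine {k l : ℕ} (h : k * l = 27) (h1 : l ≠ 1) : k ∣ 3 ^ 2 := by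
  have := Nat.le_of_dvd (by decide) (Dvd.intro _ h)
  interval_cases k <;> omega

theorem group_27 [Finite Γ] (hc : Nat.card Γ = 27) (h : a * b ≠ b * a) :
    closure {a, b} = ⊤ ∧ a * b * a⁻¹ * b⁻¹ ∈ center Γ := by
  constructor
  · by_contra e
    have := comm_of_dvd_nine (dvd_nine ((closure {a, b}).card_mul_index.trans hc) (mt index_eq_one.1 e))
      ⟨a, subset_closure (by simp)⟩ ⟨b, subset_closure (by simp)⟩
    exact h (congrArg Subtype.val this)
  · have : Nontrivial Γ := Finite.one_lt_card_iff_nontrivial.1 (by omega)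
    have h4 := Finite.one_lt_card_iff_nontrivial.2
      (IsPGroup.of_card (p := 3) (n := 3) hc).center_nontrivial
    have := comm_of_dvd_nine (G := Γ ⧸ center Γ) (dvd_nine ((center Γ).index_mul_card.trans hc) h4.ne') a b
    rw [← QuotientGroup.eq_one_iff]
    simp [this]

/-- The standard basis for an extraspecial group of order 27. -/
structure H3 (ρ : Γ →* End F V) (a b z : Γ) (ω : F) (β : Basis (Fin 3) F V) : Prop where
  prim : IsPrimitiveRoot ω 3
  top : closure {a, b} = ⊤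
  hX : ∀ i, ρ a (β i) = ω ^ (i : ℕ) • β i
  hY : ∀ i, ρ b (β i) = β (i + 1)
  hZ : ∀ i, ρ z (β i) = ω • β i

theorem exists_h3 [Finite Γ] [Finite F] [FiniteDimensional F V] (hi : Function.Injective ρ)
    (hc : Nat.card Γ = 27) (he : Monoid.exponent Γ = 3) (hn : finrank F V = 3) (h3 : (3 : F) ≠ 0)
    (h1 : io 3 F = 1) (h : a * b ≠ b * a) : ∃ z ω β, H3 ρ a b z ω β := by
  classical
  obtain ⟨h2, h4⟩ := group_27 hc h
  obtain ⟨z, hz, h4⟩ : ∃ z, a * b = z * (b * a) ∧ z ∈ center Γ := ⟨_, by group, h4⟩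
  have cube : ∀ g, ρ g ^ 3 = 1 := fun g => by rw [← map_pow, ← he, Monoid.pow_exponent_eq_one, map_one]
  obtain ⟨s, hs⟩ := exists_dg_of_pow Nat.prime_three h3 h1 (cube z)
  obtain ⟨ω, h5, h6⟩ : ∃ ω ∈ s, ω ≠ 1 := by
    by_contra! e
    have := (hs.pow_eq_one (r := 1)).2 (by simpa using e)
    rw [pow_one, ← map_one ρ] at this
    exact h (by rw [hz, hi this, one_mul])
  have h7 := hs.pow_eq_one.1 (cube z) ω h5
  have hω : IsPrimitiveRoot ω 3 := IsPrimitiveRoot.iff_orderOf.2 (orderOf_eq_prime h7 h6)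
  have hq : 1 + ω + ω ^ 2 = 0 := mul_left_cancel₀ (sub_ne_zero.2 h6) (by linear_combination h7)
  obtain ⟨⟨w, hw⟩, h8⟩ := Module.finrank_pos_iff_exists_ne_zero.1
    ((hs.eig ω).symm ▸ Multiset.count_pos.2 h5)
  have cz : ∀ g v, ρ z v = ω • v → ρ z (ρ g v) = ω • ρ g v := fun g v e => by
    rw [← End.mul_apply, ← map_mul, ← mem_center_iff.1 h4, map_mul, End.mul_apply, e, map_smul]
  have key : ∀ (v : V) (c : F), ρ z v = ω • v → ρ a v = c • v → ∀ k : ℕ,
      ρ z (ρ (b ^ k) v) = ω • ρ (b ^ k) v ∧ ρ a (ρ (b ^ k) v) = (ω ^ k * c) • ρ (b ^ k) v :=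
    fun v c e e' k => ⟨cz _ _ e, by
      induction k with
      | zero => simpa
      | succ k ih =>
        rw [pow_succ', map_mul, End.mul_apply, ← End.mul_apply (ρ a), ← map_mul, hz, map_mul, map_mul,
          End.mul_apply, End.mul_apply, ih, map_smul, map_smul, cz _ _ (cz _ _ e), smul_smul]
        congr 1; ring⟩
  obtain ⟨c, hc3, h9⟩ : ∃ c : F, c ^ 3 = 1 ∧ w + c ^ 2 • ρ a w + c • ρ a (ρ a w) ≠ 0 := by
    by_contra! e
    refine h8 (Subtype.ext ((smul_eq_zero_iff_right h3).1 ?_))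
    linear_combination (norm := module) e 1 (one_pow _) + e ω h7 + e (ω ^ 2) (by
      rw [← pow_mul, mul_comm, pow_mul, h7, one_pow]) - ((1 - ω + ω ^ 2) * hq) • ρ a w -
        hq • ρ a (ρ a w)
  obtain ⟨j, -, rfl⟩ := hω.eq_pow_of_pow_eq_one hc3
  have e1 := mem_eig.1 hw
  have e2 : ρ a (ρ a (ρ a w)) = w := LinearMap.congr_fun (cube a) w
  obtain ⟨h10, h11⟩ := key (w + (ω ^ j) ^ 2 • ρ a w + ω ^ j • ρ a (ρ a w)) (ω ^ j)
    (by simp only [map_add, map_smul, e1, cz _ _ e1, cz _ _ (cz _ _ e1)]; module)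
    (by simp only [map_add, map_smul, e2]
        linear_combination (norm := module) -hc3 • ρ a w) (2 * j)
  rw [show ω ^ (2 * j) * ω ^ j = 1 by rw [← hc3]; ring] at h11
  have inj : ∀ g, Function.Injective (ρ g) := fun g =>
    ((End.isUnit_iff _).1 (unit_rho g)).1
  have h12 := (map_ne_zero_iff _ (inj (b ^ (2 * j)))).2 h9
  generalize ρ (b ^ (2 * j)) _ = v at h10 h11 h12
  have h13 := key v 1 h10 h11
  let β := basisOfLinearIndependentOfCardEqFinrank (End.eigenvectors_linearIndependent' (ρ a)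
    (fun i : Fin 3 => ω ^ (i : ℕ)) (fun i j e => Fin.ext (hω.pow_inj i.2 j.2 e))
    (fun i => ρ (b ^ (i : ℕ)) v) fun i => ⟨End.mem_eigenspace_iff.2 (by simpa using (h13 i).2),
      (map_ne_zero_iff _ (inj _)).2 h12⟩) (by simp [hn])
  refine ⟨z, ω, β, hω, h2, fun i => by simpa [β] using (h13 i).2, fun i => ?_,
    fun i => by simpa [β] using (h13 i).1⟩
  fin_cases i <;> simp [β, sq]
  exact LinearMap.congr_fun (cube b) v

namespace H3

variable (h : H3 ρ a b z ω β)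
include h

theorem rp (hi : Function.Injective ρ) : Rp ρ := ⟨hi, fun M hM => by
  obtain ⟨d, hd⟩ : ∃ d : Fin 3 → F, M (β 0) = ∑ i, d i • β i := ⟨_, (β.sum_repr _).symm⟩
  have h1 : ∀ i, i ≠ 0 → d i = 0 := fun i h0 => by
    have e := congrArg (β.repr · i) (LinearMap.congr_fun (hM a) (β 0))
    simp [hd, h.hX, Finsupp.single_apply] at e
    by_contra h2
    exact h0 (Fin.ext (h.prim.pow_inj i.2 (by decide) (by simpa [h2] using e)))
  have h2 : M (β 0) = d 0 • β 0 := by simp [hd, Fin.sum_univ_three, h1]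
  have h3 : ∀ i c, M (β i) = c • β i → M (β (i + 1)) = c • β (i + 1) := fun i c e => by
    rw [← h.hY, ← End.mul_apply, hM, End.mul_apply, e, map_smul]
  refine ⟨d 0, β.ext fun i => ?_⟩
  fin_cases i
  exacts [h2, h3 _ _ h2, h3 _ _ (h3 _ _ h2)]⟩

theorem pow_X (k : ℕ) (i : Fin 3) : ρ (a ^ k) (β i) = (ω ^ (i : ℕ)) ^ k • β i := by
  induction k with
  | zero => simp
  | succ k ih => rw [pow_succ, map_mul, End.mul_apply, h.hX, map_smul, ih, smul_smul, pow_succ']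

theorem pow_Z (k : ℕ) (i : Fin 3) : ρ (z ^ k) (β i) = ω ^ k • β i := by
  induction k with
  | zero => simp
  | succ k ih => rw [pow_succ, map_mul, End.mul_apply, h.hZ, map_smul, ih, smul_smul, pow_succ']

theorem nr (h0 : IsUnit m) (h1 : ∃ g, ∀ i, m (ρ a (β i)) = ρ g (m (β i)))
    (h2 : ∃ g, ∀ i, m (ρ b (β i)) = ρ g (m (β i))) : NR ρ m :=
  nr_of_closure h.top h0 (by
    rintro _ (rfl | rfl)
    exacts [h1.imp fun _ e => β.ext e, h2.imp fun _ e => β.ext e])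

variable (hD : ∀ g, Mu D 1 (ρ g))

include hD in
theorem mu_cube (hc : c ^ 3 = 1) (u v : V) : D.B (c • u) (c • v) = D.B u v := by
  obtain ⟨k, -, rfl⟩ := h.prim.eq_pow_of_pow_eq_one hc
  have : ρ (z ^ k) = ω ^ k • 1 := β.ext (h.pow_Z k)
  simpa [this] using hD (z ^ k) u v

include hD in
theorem orth {i j : Fin 3} (e : i ≠ j) : D.B (β i) (β j) = 0 := by
  have h1 := hD a (β i) (β j)
  have h2 := h.mu_cube hD (c := ω ^ (i : ℕ)) (by
    rw [← pow_mul, mul_comm, pow_mul, h.prim.pow_eq_one, one_pow]) (β i) (β j)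
  rw [h.hX, h.hX, one_mul, ← h2, (D.B _).map_smul, (D.B _).map_smul, smul_eq_mul, smul_eq_mul,
    mul_eq_mul_right_iff] at h1
  refine h1.elim (fun e' => absurd (Fin.ext (h.prim.pow_inj j.2 i.2 e')).symm e) fun e' => ?_
  rw [← h2, (D.B _).map_smul, e', smul_zero]

variable [FiniteDimensional F V]

theorem det : LinearMap.det (ρ a) = 1 := by
  rw [Dg.det (dg_of_basis β h.hX)]
  simpa [Fin.prod_univ_three, ← pow_succ'] using h.prim.pow_eq_one

theorem nr_diag {d : Fin 3 → F} (hd : ∀ i, d i ^ 3 = 1) (hm : ∀ i, m (β i) = d i • β i) : NR ρ m := by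
  have h0 : ∀ i, d i ≠ 0 := fun i e => by simpa [e] using hd i
  obtain ⟨k, -, hk⟩ := h.prim.eq_pow_of_pow_eq_one (ξ := d 0 / d 2) (by simp [div_pow, hd])
  obtain ⟨j, -, hj⟩ := h.prim.eq_pow_of_pow_eq_one (ξ := d 1 * d 2 / d 0 ^ 2) (by
    rw [div_pow, mul_pow, ← pow_mul, mul_comm 2, pow_mul]; simp [hd])
  refine h.nr (isUnit_of_pow Nat.prime_three ((dg_of_basis β hm).pow_eq_one.2 (by
    simp [hd]))) ⟨a, fun i => by simp [hm, h.hX, smul_comm (d i)]⟩ ⟨z ^ k * a ^ j * b, fun i => ?_⟩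
  simp only [map_mul, End.mul_apply, hm, h.hY, map_smul, h.pow_X, h.pow_Z, smul_smul, hk,
    ← pow_mul, mul_comm _ j]
  simp only [pow_mul, hj]
  congr 1
  have := h0 0
  have := h0 1
  have := h0 2
  fin_cases i <;> simp <;> field_simp
  rw [hd, hd]

variable [Finite F]
include hD

theorem ni_three (hn : finrank F V = 3) (h3 : (3 : F) ≠ 0) (h1 : io 3 F = 1) (hy : y ^ 3 = 1) :
    NI ρ D y := by
  obtain ⟨s, hs⟩ := exists_dg_of_pow Nat.prime_three h3 h1 hy
  obtain ⟨d, rfl⟩ := exists_fin_map s (hs.card.trans hn)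
  have hd : ∀ i, d i ^ 3 = 1 := fun i => hs.pow_eq_one.1 hy _ (Multiset.mem_map_of_mem _ (Finset.mem_univ i))
  have hm : ∀ i, β.constr F (fun i => d i • β i) (β i) = d i • β i := β.constr_basis F _
  refine ⟨_, h.nr_diag hd hm, mu_of_basis β fun i j => ?_, (dg_of_basis β hm).sim hs⟩
  rw [hm, hm, one_mul]
  obtain rfl | e := eq_or_ne i j
  exacts [h.mu_cube hD (hd i) _ _, by simp [h.orth hD e]]

theorem ni_two (hn : finrank F V = 3) (h2 : (2 : F) ≠ 0) (hy : y ^ 2 = 1) : NI ρ D y := by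
  obtain ⟨m, hm⟩ : ∃ m : End F V, ∀ i, m (β i) = β (-i) := ⟨_, β.constr_basis F _⟩
  have h1 : m ^ 2 = 1 := β.ext fun i => by simp [sq, hm]
  have h3 := Submodule.finrank_le (eig y (-1))
  have h4 := Submodule.finrank_le (eig m (-1))
  have h5 : finrank F (eig m (-1)) ≠ finrank F V := fun e => β.ne_zero 0 (eq_zero_of_neg h2 (by
    simpa [hm] using mem_eig.1 ((Submodule.eq_top_of_finrank_eq e).ge (Submodule.mem_top (x := β 0)))))
  have h6 : 0 < finrank F (eig m (-1)) := finrank_pos_iff_exists_ne_zero.2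
    ⟨⟨β 1 - β 2, mem_eig.2 (by simp [hm]; rfl)⟩, fun e => absurd
      (β.injective (sub_eq_zero.1 (congrArg Subtype.val e))) (by decide)⟩
  by_cases h7 : finrank F (eig y (-1)) = 0 ∨ finrank F (eig y (-1)) = finrank F V
  · exact ns_one h2 hy h7
  refine ns_of_sq h2 (h.nr (isUnit_of_pow Nat.prime_two h1) ⟨a ^ 2, fun i => ?_⟩ ⟨b * b, fun i => ?_⟩)
    (mu_of_basis β fun i j => ?_) h1 hy (by omega)
  · rw [h.hX, map_smul, hm, h.pow_X]
    congr 1
    have := h.prim.pow_eq_one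
    fin_cases i
    exacts [by simp, show ω ^ 1 = (ω ^ 2) ^ 2 by linear_combination -ω * this,
      show ω ^ 2 = (ω ^ 1) ^ 2 by ring]
  · rw [map_mul, End.mul_apply, hm, h.hY, h.hY, h.hY, hm]
    congr 1
    revert i; decide
  · have := hD b (β 1) (β 1)
    rw [h.hY, one_mul] at this
    rw [hm, hm, one_mul]
    obtain rfl | e := eq_or_ne i j
    · fin_cases i
      exacts [rfl, this, this.symm]
    · rw [h.orth hD e, h.orth hD (neg_injective.ne e)]

end H3

variable [Finite Γ] [Finite F] [FiniteDimensional F V] (hi : Function.Injective ρ)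
  (hc : Nat.card Γ = 27) (he : Monoid.exponent Γ = 3) (hna : ¬ IsMulCommutative Γ)
  (hn : finrank F V = 3) (h3 : (3 : F) ≠ 0) (h1 : io 3 F = 1)
include hi hc he hna hn h3 h1

theorem exists_h3' : ∃ a b z ω β, H3 ρ a b z ω β := by
  obtain ⟨a, b, h⟩ : ∃ a b : Γ, a * b ≠ b * a := by
    by_contra! e
    exact hna ⟨⟨e⟩⟩
  exact ⟨a, b, exists_h3 hi hc he hn h3 h1 h⟩

theorem det_27 (g : Γ) : LinearMap.det (ρ g) = 1 := by
  by_cases h : g ∈ center Γ
  · obtain ⟨a, b, z, ω, β, H⟩ := exists_h3' hi hc he hna hn h3 h1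
    obtain ⟨c, e⟩ := (H.rp hi).cen h
    have := nontrivial_of_finrank_pos (R := F) (M := V) (by omega)
    have : ρ g ^ 3 = 1 := by rw [← map_pow, ← he, Monoid.pow_exponent_eq_one, map_one]
    rw [e, ← map_pow, ← map_one (algebraMap F _), (algebraMap F _).injective.eq_iff] at this
    simpa [e, Algebra.algebraMap_eq_smul_one, hn]
  · obtain ⟨b, e⟩ := not_forall.1 (mt mem_center_iff.2 h)
    obtain ⟨_, _, _, H⟩ := exists_h3 hi hc he hn h3 h1 (Ne.symm e)
    exact H.det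

theorem lin_three (h2 : (2 : F) ≠ 0) (hr : r.Prime) {P : Prop} (hP : r = 3 → P)
    (hΩ : ∃ y : End F V, y ^ r = 1 ∧ y ≠ 1 ∧ LinearMap.det y = 1) :
    AllE D1 r (SC (NR ρ)) ↔ r = 2 ∨ (r = 3 ∧ P) := by
  have := nontrivial_of_finrank_pos (R := F) (M := V) (by omega)
  obtain ⟨a, b, z, ω, β, H⟩ := exists_h3' hi hc he hna hn h3 h1
  have hD : ∀ a, Mu (zf F V) 1 (ρ a) := fun _ _ _ => by simp [zf]
  obtain rfl | rfl | h5 : r = 2 ∨ r = 3 ∨ 5 ≤ r := by have := prime_cases hr; omega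
  · exact iff_of_true (allE_sc_of hr h2 sc_nr hn (fun y hy => (H.ni_two hD hn h2 hy).gc)
      fun _ h => absurd h (by decide)) (.inl rfl)
  · exact iff_of_true (allE_sc_of hr h3 sc_nr hn (fun y hy => (H.ni_three hD hn h3 h1 hy).gc)
      fun z _ h => ⟨1, by linear_combination -h⟩) (.inr ⟨rfl, hP rfl⟩)
  obtain ⟨y, h6, h7, h8⟩ := hΩ
  exact iff_of_false (fun E => (H.rp hi).not_gc_small (.inr rfl) hn hc hr h5 h6 h7 h8
    (E y h8 ⟨1, by simpa⟩).gc) (by omega)

theorem herm_three {q : ℕ} {h' : IsConj σ q} {D : Form h'.kind V} (hV : D.Nondeg)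
    (hD : ∀ a, Mu D 1 (ρ a)) (h2 : (2 : F) ≠ 0) (hr : r.Prime) {P : Prop} (hP : r = 3 → P)
    (hΩ : r ∣ Nat.card D.det.ker) :
    AllE (fun x => IsIsometry D D x ∧ LinearMap.det x = 1) r (IC D (NR ρ)) ↔ r = 2 ∨ (r = 3 ∧ P) := by
  have := nontrivial_of_finrank_pos (R := F) (M := V) (by omega)
  obtain ⟨a, b, z, ω, β, H⟩ := exists_h3' hi hc he hna hn h3 h1
  obtain rfl | rfl | h5 : r = 2 ∨ r = 3 ∨ 5 ≤ r := by have := prime_cases hr; omega
  · exact iff_of_true (allE_ic sc_nr (fun _ h => h.1) (su_root hV hr h2 hn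
      fun _ h => absurd h (by decide)) fun y h4 hy => (H.ni_two hD hn h2 hy).ic hV h4) (.inl rfl)
  · exact iff_of_true (allE_ic sc_nr (fun _ h => h.1) (su_root hV hr h3 hn
      fun z _ h => ⟨1, by simp, by linear_combination -h⟩)
      fun y h4 hy => (H.ni_three hD hn h3 h1 hy).ic hV h4) (.inr ⟨rfl, hP rfl⟩)
  obtain ⟨g, h6, h7, h8⟩ := exists_isom_order hr hΩ
  have h4 := (ker_det_iff hV _).2 ⟨g, h6, rfl⟩
  exact iff_of_false (fun E => (H.rp hi).not_gc_small (.inr rfl) hn hc hr h5 h7 h8 h4.2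
    (E _ h4 ⟨1, by simpa⟩).gc) (by omega)

omit hi hc he hna hn h3 h1

theorem mod_nine_lin {p : ℕ} (hp : p % 3 = 1) (h : 3 * 27 ∣ p ^ 3 * ((p ^ 2 - 1) * (p ^ 3 - 1))) :
    p % 9 = 1 := by
  obtain ⟨k, rfl⟩ : ∃ k, p = 3 * k + 1 := ⟨p / 3, by omega⟩
  rw [show (3 * k + 1) ^ 2 = 3 * k * (3 * k + 2) + 1 by ring,
    show (3 * k + 1) ^ 3 - 1 = 9 * k * (3 * k * k + 3 * k + 1) from Nat.sub_eq_of_eq_add (by ring),
    Nat.add_sub_cancel, show ∀ a b c : ℕ, a * (3 * k * b * (9 * k * c)) = a * (b * (k * (k * c))) * 27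
      from fun a b c => by ring, Nat.mul_dvd_mul_iff_right (by decide)] at h
  simp only [Nat.prime_three.dvd_mul, Nat.prime_three.prime.dvd_pow_iff_dvd three_ne_zero,
    mul_assoc] at h
  omega

theorem mod_nine_herm {p N : ℕ} (hp : p % 3 = 2) (h : 3 * 27 ∣ N) (h1 : (p + 1) * N = guOrder p 3) :
    p % 9 = 8 := by
  obtain ⟨k, rfl⟩ : ∃ k, p = 3 * k + 2 := ⟨p / 3, by omega⟩
  have h2 : N = (3 * k + 2) ^ 3 * ((3 * k + 1) * ((k + 1) * ((k + 1) * (3 * (k * k) + 3 * k + 1)))) * 27 := by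
    refine Nat.eq_of_mul_eq_mul_left (by omega) (h1.trans ?_)
    simp only [guOrder, Finset.prod_range_succ, Finset.prod_range_zero]
    rw [if_pos (by decide), if_neg (by decide), if_pos (by decide),
      show (3 * k + 2) ^ (1 + 1) - 1 = (3 * k + 1) * (3 * k + 3) from Nat.sub_eq_of_eq_add (by ring)]
    ring
  rw [h2, Nat.mul_dvd_mul_iff_right (by decide)] at h
  simp only [Nat.prime_three.dvd_mul, Nat.prime_three.prime.dvd_pow_iff_dvd three_ne_zero] at h
  omega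

end Cfsg.Lib.Elu
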