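import Cfsg.Agent.Lib.Elu.Two

/-!
The special unitary group.
-/

set_option autoImplicit false

namespace Cfsg.Lib.Elu

open Module Cfsg.Lib.Forms Cfsg.Lib.Forms.Form Cfsg.Lib.Known Cfsg.Lib.Conj Polynomial

variable {F : Type*} [Field F] {σ : F →+* F} {q : ℕ} {h : IsConj σ q} {V W : Type*}
  [AddCommGroup V] [Module F V] [AddCommGroup W] [Module F W]
  {D : Form h.kind V} {E : Form h.kind W} {x y : End F V} {r m n : ℕ} {z : F}
  {P : End F V → Prop} {R : Prop}

theorem nr_of_herm (h : IsConj σ q) (hr : r.Prime) (hF : (r : F) ≠ 0) (hz : z * σ z = 1)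
    (H : ∀ w, w * σ w = 1 → w ^ r ≠ z) : Nr σ r z := by
  refine ⟨hr, hF, or_iff_not_imp_left.2 fun h1 => ?_⟩
  push Not at h1
  obtain ⟨b, rfl⟩ := h1
  have h2 : (b * σ b) ^ r = 1 := by rwa [mul_pow, ← map_pow]
  rcases hr.eq_two_or_odd' with rfl | ho
  · exact ⟨rfl, b, rfl, (sq_eq_one_iff.1 h2).resolve_left fun e => H b e rfl⟩
  · exfalso
    have := h.two_le
    by_cases hd : r ∣ q + 1
    · refine H b (eq_one_of_coprime (N := q - 1) ((Nat.Prime.coprime_iff_not_dvd hr).2 fun e => ?_)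
        ((h.fixed_iff fun e => by simp [e, hr.ne_zero] at h2).1 (by rw [map_mul, h.σσ, mul_comm]))
        h2) rfl
      have := (Nat.prime_dvd_prime_iff_eq hr Nat.prime_two).1
        ((show q + 1 - (q - 1) = 2 by omega) ▸ Nat.dvd_sub hd e)
      exact absurd (this ▸ ho) (by decide)
    · obtain ⟨w, h3, h4⟩ := exists_root_of_coprime ((Nat.Prime.coprime_iff_not_dvd hr).2 hd)
        (h.norm_eq _ ▸ hz) (by omega)
      exact H w (h.norm_eq w ▸ h3) h4

theorem orderOf_eq_two_iff_dvd (hr : r.Prime) (h2 : r ≠ 2) :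
    orderOf (q : ZMod r) = 2 ↔ r ∣ q + 1 := by
  rw [← ZMod.natCast_eq_zero_iff, Nat.cast_succ, add_eq_zero_iff_eq_neg, ← pow_one (q : ZMod r),
    pow_eq_neg_one_iff hr h2, pow_one, Nat.dvd_prime Nat.prime_two, Nat.dvd_one]
  omega

theorem io_herm (h : IsConj σ q) : io r F =
    if Even (orderOf (q : ZMod r)) then orderOf (q : ZMod r) / 2 else orderOf (q : ZMod r) := by
  rw [io, h.card, Nat.cast_pow, orderOf_sq]
  simp only [← Nat.not_even_iff_odd, ite_not]

theorem c_herm {i b c : ℕ} (hb : b = if Even i then i / 2 else i)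
    (hc : c = if i % 4 = 0 then i else if i % 4 = 2 then i / 2 else 2 * i) :
    (if i % 4 = 2 then b else 2 * b) = c := by
  simp only [hb, hc, Nat.even_iff]
  split_ifs <;> omega

theorem coprime_char (p : ℕ) [Fact p.Prime] [CharP F p] (h : IsConj σ q) : ¬ p ∣ q + 1 := by
  haveI := h.finite
  have hp : p.Prime := Fact.out
  exact fun e => hp.one_lt.ne' (Nat.dvd_one.1 ((Nat.dvd_add_right
    (hp.dvd_of_dvd_pow (h.card ▸ char_dvd_card (F := F) p))).1 e))

variable [FiniteDimensional F V] [FiniteDimensional F W]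

theorem norm_det (hD : D.Nondeg) (hx : IsIsometry D D x) :
    LinearMap.det x * σ (LinearMap.det x) = 1 := by
  obtain ⟨g, rfl⟩ := exists_nat hD hx
  exact coe_det g ▸ hD.det_mul_σ_det g

theorem su_all_coprime [Nontrivial V] (hD : D.Nondeg) (hr : r.Prime) (hd : ¬ r ∣ q + 1)
    (hP : ∀ x (c : F), P x → P (c • x)) :
    AllE (fun x => IsIsometry D D x ∧ LinearMap.det x = 1) r P ↔
      ∀ y : End F V, IsIsometry D D y → y ^ r = 1 → P y := by
  have hc := (Nat.Prime.coprime_iff_not_dvd hr).2 hd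
  refine ⟨fun H y hy h1 => H y ⟨hy, eq_one_of_coprime hc (h.norm_eq _ ▸ norm_det hD hy)
    (by rw [← map_pow, h1, map_one])⟩ ⟨1, by simpa using h1⟩, fun H x hx ⟨z, hz⟩ => ?_⟩
  obtain ⟨w, h1, rfl⟩ := exists_root_of_coprime hc (h.norm_eq _ ▸ norm_of_pow hD hx.1 hz) (by omega)
  exact of_root hP H hx.1 (h.norm_eq w ▸ h1) hz

variable [Finite F]

theorem su_all_iff [Nontrivial V] (hD : D.Nondeg) (hr : r.Prime) (hF : (r : F) ≠ 0)
    (hd : r ∣ q + 1) (hn : finrank F V = n) (hP : ∀ x (c : F), P x → P (c • x))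
    (hR : ∀ (x : End F V) z, Nr σ r z → z * σ z = 1 → IsIsometry D D x →
      x ^ r = algebraMap F _ z → (P x ↔ R)) :
    AllE (fun x => IsIsometry D D x ∧ LinearMap.det x = 1) r P ↔
      (∀ y : End F V, IsIsometry D D y → y ^ r = 1 →
        (∃ w, w ^ (q + 1) = 1 ∧ w ^ n * LinearMap.det y = 1) → P y) ∧
      (R ∨ padicValNat r n ≤ padicValNat r (q + 1) ∧ (r = 2 → Even n → 4 ∣ q + 1)) := by
  subst hn
  obtain ⟨ζ, hζ⟩ := exists_primRoot (F := F) (N := q + 1) ⟨_, h.card_sub_one⟩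
  rw [or_comm, or_iff_not_imp_left, ← np_aux hζ (by omega) hr hF hd finrank_pos.ne']
  simp only [← h.norm_eq]
  refine ⟨fun H => ⟨fun y hy h1 ⟨w, h2, h3⟩ => ?_, fun ⟨h1, z, h2, h3, h4⟩ => ?_⟩,
    fun ⟨H1, H2⟩ x hx ⟨z, hz⟩ => ?_⟩
  · simpa [left_ne_zero_of_mul_eq_one h2] using hP _ w⁻¹ (H (w • y) ⟨isIsometry_smul' hy h2, by
      rw [LinearMap.det_smul, h3]⟩ ⟨w ^ r, by rw [_root_.smul_pow, h1, Algebra.algebraMap_eq_smul_one]⟩)
  · have h5 := nr_of_herm h hr hF h2 h3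
    obtain ⟨D', h6, h7⟩ := h5.exists h.kind h2 h1
    obtain ⟨x, h8, h9⟩ := h7.iso (Herm.iso h6 hD rfl)
    exact (hR x z h5 h2 h8 h9).1 (H x ⟨h8, (h5.det hD h8 h9).trans h4⟩ ⟨z, h9⟩)
  · have h1 := norm_of_pow hD hx.1 hz
    by_cases h2 : ∃ w, w * σ w = 1 ∧ w ^ r = z
    · obtain ⟨w, h2, rfl⟩ := h2
      have h0 := left_ne_zero_of_mul_eq_one h2
      simpa [h0] using hP _ w (H1 _ (isIsometry_smul' hx.1 (norm_inv h2))
        (smul_pow_eq_one h0 rfl hz) ⟨w, h2, by simp [hx.2, h0]⟩)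
    · push Not at h2
      have h5 := nr_of_herm h hr hF h1 h2
      exact (hR x z h5 h1 hx.1 hz).2 (H2 ⟨h5.dvd hD ⟨x, hx.1, hz⟩, z, h1, h2,
        (h5.det hD hx.1 hz).symm.trans hx.2⟩)

theorem herm_nr_ndi (hD : D.Nondeg) (hE : E.Nondeg) (hm : finrank F W < finrank F V)
    (h1 : Nr σ r z) (hz : z * σ z = 1) (hx : IsIsometry D D x) (h2 : x ^ r = algebraMap F _ z) :
    NDI D x E ↔ r ∣ finrank F W := by
  refine ⟨fun h => h1.dvd hE (h.rt hx h2), fun h3 => ?_⟩
  obtain ⟨l, C, h4, h5⟩ := (cp_herm h).compl hE hD hm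
  have h6 := h1.dvd hD ⟨x, hx, h2⟩
  rw [← h5.finrank_eq, finrank_prod, Nat.dvd_add_right h3] at h6
  obtain ⟨_, h7, h8⟩ := h1.exists h.kind hz h3
  obtain ⟨_, h9, h10⟩ := h1.exists h.kind hz h6
  exact h1.ndi hD hx h2 h5 (h8.iso (Herm.iso h7 hE rfl)) (h10.iso (Herm.iso h9 h4 rfl))

theorem su_two_ts (hD : D.Nondeg) (h2 : (2 : F) ≠ 0) (hn : finrank F V = n) (h0 : 0 < m)
    (hm : 2 * m ≤ n) : AllE (fun x => IsIsometry D D x ∧ LinearMap.det x = 1) 2 (TSI D · m) ↔
      2 * m < n ∨ padicValNat 2 (q + 1) ≤ padicValNat 2 n := by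
  haveI := nontrivial_of_finrank_pos (R := F) (M := V) (by omega)
  have hq : 2 ∣ q + 1 := ((Nat.odd_pow_iff two_ne_zero).1
    (h.card ▸ odd_card_iff.2 h2)).add_one.two_dvd
  obtain ⟨ζ, hζ⟩ := exists_primRoot (F := F) (N := q + 1) ⟨_, h.card_sub_one⟩
  rw [su_all_iff (R := True) hD Nat.prime_two h2 hq hn (fun _ c h => h.smul c)
    fun x z h1 h3 hx h4 => iff_true_intro ((h1.tsi hD hx h4 (by omega)).2 (Or.inl ?_)),
    true_or, and_true, ← not_lt (a := padicValNat 2 n),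
    ← exists_pow_eq_neg_one_iff' hζ (by omega) h2 (by omega)]
  · refine ⟨fun H => or_iff_not_imp_left.2 fun h1 ⟨w, h3, h4⟩ => ?_, fun H y hy h1 ⟨w, h3, h4⟩ => ?_⟩
    · obtain ⟨A, hA⟩ := (cp_herm h).sub (stdHerm_nondeg h (Fin 1)) hD (by simp; omega)
      have hc := (hD.isOrthCompl (D.nondeg_restrict_iff.1
        (hA.symm.nondeg (stdHerm_nondeg h _)))).symm
      have h5 : finrank F A = 1 := by simpa using hA.finrank_eq
      obtain ⟨a, b, h6, h7, h8⟩ := (tsi_pm h2 hc).1 (H _ (pm_isIsometry hc) (pm_sq hc)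
        ⟨w, h3, by simp [det_pm, h4, h5]⟩)
      have := Submodule.finrank_add_eq_of_isCompl hc.compl
      have := h7.two_mul_le (hc.nondeg_left hD)
      have := h8.two_mul_le (hc.symm.nondeg_left hD)
      omega
    · obtain ⟨U, U', hc, rfl⟩ := exists_pm h2 hy h1
      have := Submodule.finrank_add_eq_of_isCompl hc.compl
      have : 2 * m < n ∨ finrank F U' % 2 = 0 := H.imp_right fun H => by_contra fun e =>
        H ⟨w, h3, by
          rw [det_pm, (Nat.odd_iff.2 (by omega)).neg_one_pow] at h4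
          linear_combination -h4⟩
      exact (tsi_pm h2 hc).2 ⟨min (finrank F U / 2) m, m - min (finrank F U / 2) m, by omega,
        Herm.hasTS (hc.nondeg_left hD) (by omega), Herm.hasTS (hc.symm.nondeg_left hD) (by omega)⟩
  · obtain ⟨k, hk⟩ : 2 ∣ q - 1 := by have := h.two_le; omega
    obtain ⟨g, hg⟩ := exists_primRoot (F := F) dvd_rfl
    have h5 := h.two_le
    haveI : NeZero (q + 1) := ⟨by omega⟩
    have h6 : IsPrimitiveRoot (g ^ (q - 1)) (q + 1) :=
      hg.pow (by have := two_le_card (F := F); omega) (by rw [h.card_sub_one, mul_comm])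
    obtain ⟨j, -, rfl⟩ := h6.eq_pow_of_pow_eq_one (h.norm_eq z ▸ h3)
    exact ⟨g ^ (k * j), by rw [hk]; ring⟩

theorem su_two_nd (hD : D.Nondeg) (hE : E.Nondeg) (h2 : (2 : F) ≠ 0) (hn : finrank F V = n)
    (hm : finrank F W = m) (hmn : 2 * m < n) :
    AllE (fun x => IsIsometry D D x ∧ LinearMap.det x = 1) 2 (NDI D · E) ↔
      Odd n ∨ Even m ∨ padicValNat 2 n ≤ padicValNat 2 (q + 1) ∧ q % 4 = 3 := by
  haveI := nontrivial_of_finrank_pos (R := F) (M := V) (by omega)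
  have hq : 2 ∣ q + 1 := ((Nat.odd_pow_iff two_ne_zero).1
    (h.card ▸ odd_card_iff.2 h2)).add_one.two_dvd
  rw [su_all_iff hD Nat.prime_two h2 hq hn (fun _ c h => h.smul c)
    fun x z => herm_nr_ndi hD hE (by omega), hm,
    and_iff_right fun y hy h1 _ => ndi_inv (cp_herm h) h2 hD hE hy h1 (by omega)]
  have : n % 2 = 1 → padicValNat 2 n = 0 := fun h => padicValNat.eq_zero_of_not_dvd (by omega)
  simp only [Nat.even_iff, Nat.odd_iff, forall_const]
  omega

theorem su_odd_nd (hD : D.Nondeg) (hE : E.Nondeg) (hr : r.Prime) (h2 : r ≠ 2) (hF : (r : F) ≠ 0)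
    (hn : finrank F V = n) (hm : finrank F W = m) (h0 : 0 < m) (hmn : m < n) {i b c : ℕ}
    (hi : i = orderOf (q : ZMod r)) (hb : b = if Even i then i / 2 else i)
    (hc : c = if i % 4 = 0 then i else if i % 4 = 2 then i / 2 else 2 * i)
    (hΩ : r ∣ Nat.card {U : Submodule F V // (D.restrict U).Iso E}) :
    AllE (fun x => IsIsometry D D x ∧ LinearMap.det x = 1) r (NDI D · E) ↔
      i ≠ 2 ∧ c ≤ m ∧ m % c ≤ n % c ∨
        i = 2 ∧ (r ∣ m ∨ padicValNat r n ≤ padicValNat r (q + 1)) := by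
  haveI := nontrivial_of_finrank_pos (R := F) (M := V) (by omega)
  have h1 := herm_nd hD hE hr h2 hF hn hm h0 hmn hΩ
  rw [io_herm h, ← hi, ← hb, c_herm hb hc] at h1
  by_cases h3 : i = 2
  · obtain rfl : c = 1 := by simp [hc, h3]
    rw [su_all_iff hD hr hF ((orderOf_eq_two_iff_dvd hr h2).1 (hi ▸ h3)) hn
      (fun _ c h => h.smul c) fun x z => herm_nr_ndi hD hE (by omega), hm,
      and_iff_right fun y hy h _ => h1.2 (by omega) y hy h]
    simp [h3, h2]
  · rw [su_all_coprime hD hr (mt (orderOf_eq_two_iff_dvd hr h2).2 (hi ▸ h3))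
      fun _ c h => h.smul c, h1]
    simp [h3]

theorem su_odd_ts (hD : D.Nondeg) (hr : r.Prime) (h2 : r ≠ 2) (hF : (r : F) ≠ 0)
    (hn : finrank F V = n) (h0 : 0 < m) (hm : 2 * m ≤ n) {i b c : ℕ}
    (hi : i = orderOf (q : ZMod r)) (hb : b = if Even i then i / 2 else i)
    (hc : c = if i % 4 = 0 then i else if i % 4 = 2 then i / 2 else 2 * i)
    (hΩ : r ∣ Nat.card {U : Submodule F V // finrank F U = m ∧ D.IsTS U}) :
    AllE (fun x => IsIsometry D D x ∧ LinearMap.det x = 1) r (TSI D · m) ↔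
      b ≤ m ∧ 2 * (m % b) ≤ n % c ∧ (i % 4 ≠ 2 ∨ i % 4 = 2 ∧ (r - 1) / b + 2 * (m / b) ≤ n / b ∧
        (2 < i ∨ i = 2 ∧ (r ∣ m ∨ padicValNat r n ≤ padicValNat r (q + 1)))) := by
  haveI := nontrivial_of_finrank_pos (R := F) (M := V) (by omega)
  have h1 := herm_ts hD hn hr h2 hF hm hΩ
  have hio := io_herm (r := r) h
  rw [← hi, ← hb] at hio
  rw [hio, ← hi, c_herm hb hc] at h1
  by_cases h3 : i = 2
  · obtain rfl : b = 1 := by simp [hb, h3]
    have hd := (orderOf_eq_two_iff_dvd hr h2).1 (hi ▸ h3)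
    rw [su_all_iff (R := r ∣ m) hD hr hF hd hn (fun _ c h => h.smul c) fun x z h4 _ hx h5 => by
      rw [h4.tsi hD hx h5 (by omega), or_iff_right (not_exists.2 (h4.cases.resolve_right
        fun h => h2 h.1))]]
    simp only [h3, Nat.mod_one, Nat.div_one, h2] at h1 ⊢
    simp only [ne_eq, not_true, false_or, true_and, lt_irrefl, IsEmpty.forall_iff, and_true,
      ← and_assoc] at h1 ⊢
    refine and_congr_left fun _ => ⟨fun H => ?_, fun H y hy h _ => h1.2 H y hy h⟩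
    by_cases h4 : r ∣ n
    · refine ⟨⟨h0, Nat.zero_le _⟩, not_lt.1 fun h5 => ?_⟩
      haveI : NeZero (r : F) := ⟨hF⟩
      have h6 : ∀ g ∈ nf (cyclotomic r F), g ∈ Phi r F := fun g hg =>
        mem_Phi.2 ((mem_nf (cyclotomic_ne_zero r F)).1 hg)
      have h7 := sum_nf (cyclotomic.monic r F)
      rw [sum_of_Phi hr hF h6, natDegree_cyclotomic, Nat.totient_prime hr] at h7
      have h8 : ∀ g ∈ Phi r F, pd σ g = g := fun g hg =>
        (pd_herm_iff h hr h2 hF hg).2 (by rw [← hi, h3])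
      have h9 := Nat.le_of_dvd (by omega) h4
      obtain ⟨g, h10, h11⟩ := (herm_real_iff hD hr hF h6).1 ⟨map_pd_of_self h6 h8, by omega⟩
      have h12 := finrank_eig_add hr hF h10
      rw [h11, h7] at h12
      obtain ⟨N, l, h13, h14, h15⟩ := (tsi_iff_of_pow hD hr h2 hF (isIsometry_nat g) h10).1
        (H _ (isIsometry_nat g) h10 ⟨1, one_pow _, by
          rw [det_eq_charpoly, ← prod_nf (nat D g).charpoly_monic, nf_charpoly (ss_of_pow' hF h10),
            h11, Multiset.prod_add, prod_nf (cyclotomic.monic r F), mul_coeff_zero,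
            cyclotomic_coeff_zero F hr.one_lt, ← h12, Multiset.prod_replicate,
            coeff_zero_eq_eval_zero, pow_add, (hr.even_sub_one h2).neg_one_pow]
          simp [← mul_pow]⟩)
      rw [h11] at h13
      rw [map_pd_of_self (fun a ha => h6 a (Multiset.mem_of_le h13 (by simp [ha]))) h8] at h13
      obtain rfl : N = 0 := by
        classical
        exact Multiset.eq_zero_of_forall_notMem fun a ha => Multiset.disjoint_left.1
          (Multiset.nodup_add.1 (Multiset.nodup_of_le h13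
            ((UniqueFactorizationMonoid.squarefree_iff_nodup_normalizedFactors
              (cyclotomic_ne_zero r F)).1 (squarefree_cyclotomic r F)))).2.2 ha ha
      have := h14.two_mul_le (nondeg_eig hD (ss_of_pow' hF h10) (isIsometry_nat g) (by simp))
      simp at h15
      omega
    · refine h1.1 fun y hy h5 => H y hy h5 ?_
      have h6 : LinearMap.det y ^ r = 1 := by rw [← map_pow, h5, map_one]
      obtain ⟨w, h7, h8⟩ := exists_root_of_coprime (c := (LinearMap.det y)⁻¹)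
        ((Nat.Prime.coprime_iff_not_dvd hr).2 h4).symm (by rw [inv_pow, h6, inv_one]) hr.ne_zero
      obtain ⟨k, hk⟩ := hd
      exact ⟨w, by rw [hk, pow_mul, h7, one_pow], h8 ▸ inv_mul_cancel₀ fun e => by
        simp [e, hr.ne_zero] at h6⟩
  · rw [su_all_coprime hD hr (mt (orderOf_eq_two_iff_dvd hr h2).2 (hi ▸ h3))
      fun _ c h => h.smul c, h1]
    simp only [h3, false_and, or_false]
    omega

variable (p : ℕ) [Fact p.Prime] [CharP F p]

theorem herm_unip_ndi (hD : D.Nondeg) (hE : E.Nondeg) (hy : IsIsometry D D y) (h1 : y ^ p = 1) :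
    NDI D y E ↔ ∃ ν ≤ dg y, ν.sum = finrank F W := by
  rw [← pair_iff]
  constructor
  · rintro ⟨U, h2, h3⟩
    exact ⟨U, _, hD.isCompl_perp (D.nondeg_restrict_iff.1 (h2.symm.nondeg hE)), h2.finrank_eq, h3,
      perp_inv (isUnit_of_isIsometry hD hy.B_map) hy.B_map h3⟩
  · rintro ⟨U, T, h2, h3, h4, h5⟩
    have hs : Function.Surjective σ := fun a => ⟨σ a, h.σσ a⟩
    obtain ⟨A, h6, h7⟩ := (selfDual_of_unip hs
      (nil_of_pow_char p (restrict_pow_eq_one h4 h1))).exists_herm h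
    obtain ⟨B, h8, h9⟩ := (selfDual_of_unip hs
      (nil_of_pow_char p (restrict_pow_eq_one h5 h1))).exists_herm h
    exact ((ndi_inl A B _ _).isoC (isoC_herm (h6.prod h8) hD (isIsometry_prodMap h7 h9) hy
      (sim_isCompl h2 h4 h5))).iso (Herm.iso h6 hE h3)

theorem su_char_nd [Nontrivial V] (hD : D.Nondeg) (hE : E.Nondeg) :
    AllE (fun x => IsIsometry D D x ∧ LinearMap.det x = 1) p (NDI D · E) ↔ ∀ μ : Multiset ℕ,
      (∀ a ∈ μ, 0 < a ∧ a ≤ p) → μ.sum = finrank F V → ∃ ν ≤ μ, ν.sum = finrank F W := by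
  rw [su_all_coprime hD Fact.out (coprime_char p h) fun _ c h => h.smul c, ← all_unip_iff]
  refine ⟨fun H y h1 => ?_, fun H y hy h1 => (herm_unip_ndi p hD hE hy h1).2 (H y h1)⟩
  obtain ⟨g, hg⟩ := (selfDual_of_unip (fun a => ⟨σ a, h.σσ a⟩)
    (nil_of_pow_char p h1)).exists_herm_isom hD rfl
  have h2 : nat D g ^ p = 1 := (sim_pow_scalar (z := 1) hg (by simpa using h1)).trans (map_one _)
  rw [dg, sim_iff_edOf.1 hg]
  exact (herm_unip_ndi p hD hE g.2 h2).1 (H _ g.2 h2)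

end Cfsg.Lib.Elu
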