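import Cfsg.Agent.Lib.Elu.Gl
import Cfsg.Agent.Lib.Elu.Uni

/-!
Elements of prime order of the linear groups and similarity groups of forms.
-/

set_option autoImplicit false

namespace Cfsg.Lib.Elu

open Module Cfsg.Lib.Forms Cfsg.Lib.Forms.Form Cfsg.Lib.Known Cfsg.Lib.Conj Polynomial

variable {F : Type*} [Field F] {σ : F →+* F} {K : Kind σ} {V V' : Type*} [AddCommGroup V]
  [Module F V] [AddCommGroup V'] [Module F V'] {D : Form K V} {E : Form K V'} {x y : End F V}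
  {r n d : ℕ} {c z : F}

/-- Similarities with a given multiplier. -/
def Mu (D : Form K V) (c : F) (x : End F V) : Prop := ∀ u v, D.B (x u) (x v) = c * D.B u v

/-- Similarities. -/
def Sm (D : Form K V) (x : End F V) : Prop := ∃ c, c ≠ 0 ∧ Mu D c x

theorem sm_of (h : IsIsometry D D x) : Sm D x := ⟨1, one_ne_zero, fun u v => by simp [h.B_map]⟩

theorem sc_sm : Sc (Sm D) := fun _ a ha ⟨c, hc, h⟩ =>
  ⟨σ a * a * c, by simp [ha, hc], fun u v => by simp [h u v]; ring⟩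

theorem Mu.pow (h : Mu D c x) (k : ℕ) : Mu D (c ^ k) (x ^ k) := by
  induction k with
  | zero => intro u v; simp
  | succ k ih => intro u v; simp [pow_succ', h _ _, ih u v, mul_assoc]

theorem Mu.norm [Nontrivial V] (hD : D.Nondeg) (h : Mu D c x) (h1 : x ^ r = algebraMap F _ z) :
    c ^ r = σ z * z := by
  obtain ⟨u, hu⟩ := exists_ne (0 : V)
  obtain ⟨w, hw⟩ := not_forall.1 (mt (hD u) hu)
  have := h.pow r u w
  rw [h1] at this
  refine mul_right_cancel₀ hw ?_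
  simp [← this]; ring

theorem Mu.fixed [Nontrivial V] (hD : D.Nondeg) (h : Mu D c x) : σ c = c := by
  obtain ⟨u, hu⟩ := exists_ne (0 : V)
  obtain ⟨w, hw⟩ := not_forall.1 (mt (hD u) hu)
  have := h w u
  rw [D.symm (x u), D.symm u, h, map_mul, mul_left_comm] at this
  exact mul_right_cancel₀ (fun e => hw (by rw [D.symm w, D.symm u, e]; simp)) this

theorem GC.iso {a : End F V'} (h : Sm E a) (e : E.Iso D) (h1 : Sim a x) : GC (Sm D) x := by
  obtain ⟨c, hc, h⟩ := h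
  obtain ⟨e, he⟩ := e
  refine ⟨e.conj a, ⟨c, hc, fun u v => ?_⟩, (sim_conj e a).symm.trans h1⟩
  simp [LinearEquiv.conj_apply, he.B_map, h _ _, he.symm.B_map]

theorem GC.one [Nontrivial V] (hD : D.Nondeg) (h : GC (Sm D) y) (h1 : y ^ r = 1)
    (H : ∀ c : F, c ^ r = 1 → c = 1) :
    ∃ x, (∀ u v, D.B (x u) (x v) = D.B u v) ∧ x ^ r = 1 ∧ Sim x y := by
  obtain ⟨x, ⟨c, -, h⟩, h2⟩ := h
  have h3 := sim_pow_scalar (r := r) (z := 1) h2.symm (by simpa using h1)
  obtain rfl := H c (by simpa using h.norm hD h3)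
  exact ⟨x, by simpa [Mu] using h, by simpa using h3, h2⟩

theorem mu_of_basis {ι : Type*} (b : Basis ι F V)
    (h : ∀ i j, D.B (x (b i)) (x (b j)) = c * D.B (b i) (b j)) : Mu D c x := fun u v =>
  LinearMap.congr_fun₂ (LinearMap.ext_basis b b (B := (D.B.comp x).compl₂ x) (B' := c • D.B) h) u v

/-- The twist of a form. -/
def tinv (σ : F →+* F) : F →* F := invMonoidHom.comp σ

theorem tinv_apply (a : F) : tinv σ a = (σ a)⁻¹ := rfl

theorem tinv_injective : Function.Injective (tinv σ) := inv_injective.comp σ.injective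

variable [FiniteDimensional F V] [FiniteDimensional F V']

theorem Mu.eig_le (hD : D.Nondeg) (h : Mu D c x) {a : F} (ha : a ≠ 0) :
    finrank F (eig x a) ≤ finrank F (eig x (c * (σ a)⁻¹)) := by
  have h1 : rng x (c * (σ a)⁻¹) ≤ D.perp (eig x a) := by
    rintro _ hv u hu
    obtain ⟨w, rfl⟩ := mem_rng.1 hv
    have := h u w
    rw [mem_eig.1 hu, LinearMap.map_smulₛₗ₂, smul_eq_mul] at this
    rw [map_sub, map_smul, smul_eq_mul, sub_eq_zero, mul_right_comm, ← this]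
    field_simp [(map_ne_zero σ).2 ha]
  have := Submodule.finrank_mono h1
  have := hD.finrank_perp (eig x a)
  have := finrank_eig_add_rng x (c * (σ a)⁻¹)
  omega

theorem Sm.tw (hD : D.Nondeg) (h : Sm D x) : Tw (tinv σ) x :=
  let ⟨c, hc, h⟩ := h; ⟨c, hc, fun _ => h.eig_le hD⟩

theorem Sm.isUnit (hD : D.Nondeg) (h : Sm D x) : IsUnit x :=
  let ⟨c, _, h⟩ := h; isUnit_of_inj fun v hv => by
    by_contra h0
    obtain ⟨w, hw⟩ := not_forall.1 (mt (hD v) h0)
    have := h v w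
    simp_all

section Mat

variable {ι : Type} [Fintype ι] [DecidableEq ι] {M : Subgroup (GL ι F)} {D : Form K (ι → F)}

theorem inM_sm (hD : D.Nondeg) (h : M.comap (ofLin F ι) = D.simB) : InM M = Sm D := by
  ext y
  refine ⟨?_, fun hy => ?_⟩
  · rintro ⟨g, hg, rfl⟩
    exact show glEquiv ι F g ∈ D.simB from h ▸ by simpa using hg
  · obtain ⟨g, rfl⟩ := exists_equiv_of_isUnit (hy.isUnit hD)
    exact ⟨ofLin F ι g, show g ∈ M.comap _ from h ▸ hy, toLin'_ofLin g⟩

theorem dvd_isom [Finite F] (h : M.comap (ofLin F ι) = D.simB) (hr : r.Prime) (hF : (r : F) ≠ 0)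
    (hΩ : r ∣ M.relIndex (Geo.specialLinear ι F)) {b P k : ℕ} {f : ℕ → ℕ}
    (hA : Nat.card D.isom = b * P) (hP : ∏ i ∈ Finset.range (Fintype.card ι),
      (Nat.card F ^ (i + 1) - 1) = P * ∏ i ∈ Finset.range k, f i) : ∃ i < k, r ∣ f i :=
  have : (Geo.specialLinear ι F).Normal := MonoidHom.normal_ker _
  exists_dvd_of_prod hr (card_ne_zero_zmod hr hF) (dvd_of_relIndex' hΩ (toGL D) toGL_injective
    (fun g => show g.1 ∈ M.comap (ofLin F ι) from h ▸ sm_of g.2) (hP ▸ Linear.card_GL') hA)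

end Mat

variable [Finite F]

theorem gc_of_fac (hF : (r : F) ≠ 0) (hy : y ^ r = 1)
    (h : ∃ g : D.isom, nat D g ^ r = 1 ∧ fac (nat D g) = fac y) : GC (Sm D) y :=
  let ⟨g, h1, h2⟩ := h
  ⟨_, sm_of (isIsometry_nat g), sim_of_fac (ss_of_pow' hF h1) (ss_of_pow' hF hy) rfl h2⟩

omit [FiniteDimensional F V] [FiniteDimensional F V'] in
theorem eq_one_of_io (hr : r.Prime) (hi : io r F ≠ 1) (c : F) (h : c ^ r = 1) : c = 1 :=
  eq_one_of_coprime (hr.coprime_iff_not_dvd.2 (mt io_eq_one_iff.2 hi))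
    (pow_card_sub_one (by rintro rfl; simp [hr.ne_zero] at h)) h

/-- There is an element of determinant one and prime order modulo scalars outside `H`. -/
theorem not_allE {H : End F V → Prop} (hH : Sc H) (hy : y ^ r = 1) {w : F} (h0 : w ≠ 0)
    (hw : w ^ finrank F V * LinearMap.det y = 1) (h : ¬ GC H y) : ¬ AllE D1 r (SC H) :=
  fun a => h ((hH.gc.iff h0).1 (a _ (by rwa [D1, LinearMap.det_smul])
    ⟨w ^ r, by rw [_root_.smul_pow, hy, Algebra.algebraMap_eq_smul_one]⟩).gc)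

theorem not_allE_fac [Nontrivial V] (hD : D.Nondeg) (hr : r.Prime) (hF : (r : F) ≠ 0)
    (hQ : ∀ x : End F V, (∀ u v, D.B (x u) (x v) = D.B u v) → IsIsometry D D x)
    (hi : io r F ≠ 1) {k : ℕ} (hk : io r F * k ≤ finrank F V) {g : F[X]} (hg : g ∈ Phi r F)
    (H : ∀ x : End F V, IsIsometry D D x → x ^ r = 1 → fac x ≠ Multiset.replicate k g) :
    ¬ AllE D1 r (SC (Sm D)) := by
  obtain ⟨y, h1, h2⟩ := exists_pow_fac (V := V) (M := Multiset.replicate k g) hr hF
    (fun a ha => Multiset.eq_of_mem_replicate ha ▸ hg) (by simpa using hk)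
  refine not_allE sc_sm h1 one_ne_zero (by simpa using det_eq_one_of_io hr hi h1) fun h => ?_
  obtain ⟨x, h3, h4, h5⟩ := h.one hD h1 (eq_one_of_io hr hi)
  exact H x (hQ x h3) h4 ((fac_of_sim h5).trans h2)

theorem not_allE_pd [Nontrivial V] (hD : D.Nondeg) (hr : r.Prime) (hF : (r : F) ≠ 0)
    (hQ : ∀ x : End F V, (∀ u v, D.B (x u) (x v) = D.B u v) → IsIsometry D D x)
    (hi : io r F ≠ 1) (hk : io r F ≤ finrank F V) (h : ∀ g ∈ Phi r F, pd σ g ≠ g) :
    ¬ AllE D1 r (SC (Sm D)) := by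
  obtain ⟨g, hg⟩ := exists_mem_Phi hr hF
  refine not_allE_fac hD hr hF hQ hi (k := 1) (by omega) hg fun x h1 h2 e => h g hg ?_
  simpa [e] using map_pd_fac hD h1 (ss_of_pow' hF h2)

theorem not_allE_bad (hD : D.Nondeg) (hr : r.Prime) (h2 : r ≠ 2) {ζ : F}
    (hζ : IsPrimitiveRoot ζ r) (h1 : σ ζ = ζ) (hn : finrank F V = n) (h3 : 3 ≤ n)
    (h6 : ¬ (n = 6 ∧ r = 3))
    (hx : ¬ ((r = 3 ∨ r = 5) ∧ n = r ∧ padicValNat r (Nat.card F - 1) = 1)) :
    ¬ AllE D1 r (SC (Sm D)) := by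
  obtain ⟨y, h4, ⟨w, h5, h7⟩, h8⟩ := exists_bad hr h2 hζ (tinv_injective (σ := σ)) (fun e => h2
    ((Nat.prime_dvd_prime_iff_eq hr Nat.prime_two).1 (hζ.dvd_of_pow_eq_one 2 (by
      rw [tinv_apply, h1] at e
      rw [sq]; nth_rw 1 [← e]; exact inv_mul_cancel₀ (hζ.ne_zero hr.ne_zero))))) hn (by omega)
    (by omega) h6 hx
  exact not_allE sc_sm h4 h5 (hn ▸ h7) fun h => h8 (h.tw fun _ => Sm.tw hD)

theorem not_allE_unip [Nontrivial V] (p : ℕ) [Fact p.Prime] [CharP F p] (hD : D.Nondeg)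
    {t : Multiset ℕ} (h1 : ∀ a ∈ t, 0 < a ∧ a ≤ p) (h2 : t.sum = finrank F V)
    (H : ∀ x : End F V, (∀ u v, D.B (x u) (x v) = D.B u v) → ¬ HasED x (unipOf F t)) :
    ¬ AllE D1 p (SC (Sm D)) := by
  obtain ⟨y, hy⟩ := exists_unip (fun a ha => (h1 a ha).1) h2
  have h3 := pow_char_of_le p hy h1
  refine not_allE sc_sm h3 one_ne_zero (by simpa using det_unip (unip_of_hasED hy)) fun h => ?_
  obtain ⟨x, h4, -, h5⟩ := h.one hD h3 fun c hc => frobenius_inj F p (by simpa [frobenius_def])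
  exact H x h4 (hy.of_sim h5)

theorem allE_exc [Nontrivial V] (hr : r = 3 ∨ r = 5) (hn : finrank F V = r)
    (h : padicValNat r (Nat.card F - 1) = 1) {H : End F V → Prop} (hH : Sc H)
    (h1 : ∀ (y : End F V) s, y ^ r = 1 → Dg y s → s.map (·⁻¹) = s → GC H y) :
    AllE D1 r (SC H) := by
  have hp : r.Prime := by rcases hr with rfl | rfl <;> norm_num
  have := Fact.mk hp
  obtain ⟨ζ, hζ⟩ := exists_primRoot (F := F) (dvd_of_one_le_padicValNat h.ge)
  have : NeZero r := ⟨hp.ne_zero⟩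
  refine (allE_sc hp (hζ.neZero').out hH hn).2 ⟨fun y hy w _ hw => ?_, fun x z h2 h3 h4 =>
    absurd ((np_iff_exists hp hn).2 ⟨x, z, h2, h3, h4⟩) (not_np_exc hr h)⟩
  obtain ⟨c, s, h2, h3, h4, h5⟩ := exc_real hr hn h hy hw
  exact (hH.gc.iff h2).1 (h1 _ s h3 h4 h5)

theorem Dg.fac_pd {s : Multiset F} (hσ : ∀ a, σ (σ a) = a) (h : Dg y s) (hr : r ≠ 0)
    (hy : y ^ r = 1) (h1 : ∀ a, a ^ r = 1 → σ a = a) (h2 : s.map (·⁻¹) = s) :
    (fac y).map (Conj.pd σ) = fac y :=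
  (pd_charpoly_iff hσ).1 (h.pd (fun a ha => by
    rintro rfl; simpa [hr] using h.pow_eq_one.1 hy 0 ha)
    ((Multiset.map_congr rfl fun a ha => by rw [h1 a (h.pow_eq_one.1 hy a ha)]).trans h2))

omit [FiniteDimensional F V] [FiniteDimensional F V'] in
theorem io_two (h2 : (2 : F) ≠ 0) : io 2 F = 1 :=
  Nat.eq_one_of_mul_eq_one_left (card_Phi (F := F) Nat.prime_two h2)

omit [FiniteDimensional F V] [FiniteDimensional F V'] in
theorem val_two_even (h2 : (2 : F) = 0) : padicValNat 2 (Nat.card F - 1) = 0 := by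
  have := (Nat.not_odd_iff_even.1 (mt odd_card_iff.1 (not_not.2 h2)))
  have := two_le_card (F := F)
  exact padicValNat.eq_zero_of_not_dvd (by grind)

theorem fac_pd_of_sq (hσ : ∀ a, σ (σ a) = a) (h2 : (2 : F) ≠ 0) (hy : y ^ 2 = 1) :
    (fac y).map (pd σ) = fac y := by
  obtain ⟨s, hs⟩ := exists_dg_of_pow Nat.prime_two h2 (io_two h2) hy
  refine hs.fac_pd hσ two_ne_zero hy (fun a ha => ?_) ((Multiset.map_congr rfl fun a ha => ?_).trans
    s.map_id)
  · rcases sq_eq_one_iff.1 ha with rfl | rfl <;> simp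
  · rcases sq_eq_one_iff.1 (hs.pow_eq_one.1 hy a ha) with rfl | rfl <;> simp

theorem det_eq_one_of_sq (h2 : (2 : F) ≠ 0) (hn : n ≠ 0)
    (h : padicValNat 2 (Nat.card F - 1) ≤ padicValNat 2 n) (hy : y ^ 2 = 1) {w : F} (h0 : w ≠ 0)
    (hw : w ^ n * LinearMap.det y = 1) : LinearMap.det y = 1 := by
  refine (sq_eq_one_iff.1 (by rw [← map_pow, hy, map_one])).resolve_right fun e => h.not_gt ?_
  obtain ⟨ζ, hζ⟩ := exists_primRoot (F := F) dvd_rfl
  exact (exists_pow_eq_neg_one_iff' hζ (by have := two_le_card (F := F); omega) h2 hn).1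
    ⟨w, pow_card_sub_one h0, by rw [e] at hw; linear_combination -hw⟩

theorem not_allE_refl (h2 : (2 : F) ≠ 0) (hn : finrank F V = n) (h0 : n ≠ 0)
    (h : padicValNat 2 n < padicValNat 2 (Nat.card F - 1)) {H : End F V → Prop} (hH : Sc H)
    (h1 : ∀ x, H x → x ^ 2 = 1 → finrank F (eig x (-1)) = 1 → finrank F (eig x 1) ≠ n - 1) :
    ¬ AllE D1 2 (SC H) := by
  classical
  obtain ⟨w, hw⟩ := exists_pow_eq_root Nat.prime_two h0 h (neg_one_sq (R := F))
  obtain ⟨y, hy⟩ := exists_dgm (V := V) (s := (-1 : F) ::ₘ Multiset.replicate (n - 1) 1)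
    (by simp; omega)
  have h3 : y ^ 2 = 1 := hy.pow_eq_one.2 (by simp +contextual [Multiset.mem_replicate])
  have h4 : (1 : F) ≠ -1 := fun e => h2 (by linear_combination e)
  refine not_allE hH h3 (w := w) (by rintro rfl; simp [h0] at hw) (by simp [hy.det, hn, hw]) ?_
  rintro ⟨x, h5, h6⟩
  refine h1 x h5 (by simpa using sim_pow_scalar (r := 2) (z := 1) h6.symm (by simpa using h3)) ?_ ?_
  · simp [finrank_eig_sim h6, hy.eig, Multiset.count_replicate, h4]
  · simp [finrank_eig_sim h6, hy.eig, h4]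

section Alt

variable {D : Form (altKind F) V}

theorem gc_alt (hD : D.Nondeg) (h : Real (altKind F) y) : GC (Sm D) y :=
  let ⟨_, h1, h2⟩ := h
  let ⟨g, hg⟩ := exists_alt_isom hD h1 h2 rfl
  ⟨_, sm_of g.2, hg.symm⟩

omit [Finite F] in
theorem exists_dbl_sq (K : Kind (RingHom.id F)) (d : ℕ) (z : F) :
    ∃ (E : Form K ((Fin d → F) × (Fin d → F))) (a : End F _), E.Nondeg ∧ E.HasTS d ∧
      Mu E (K.ε * z) a ∧ a ^ 2 = algebraMap F _ z := by
  refine ⟨dbl K (dotProductBilin F F), (z • LinearMap.snd F _ _).prod (LinearMap.fst F _ _),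
    dbl_nondeg (fun u h => dotProduct_eq_zero u h) fun v h => dotProduct_eq_zero v fun u => (dotProduct_comm v u).trans (h u),
    by simpa using dbl_hasTS (K := K) (B := dotProductBilin F F (m := Fin d)), fun u v => ?_,
    LinearMap.ext fun v => by simp [sq, Prod.ext_iff]⟩
  have := K.ε_mul
  simp [dbl_B, dotProduct_comm u.2, dotProduct_comm v.2]
  linear_combination (-z * v.1 ⬝ᵥ u.2) * this

theorem alt_c8_two (hD : D.Nondeg) (hn : finrank F V = 2 * d) (hd : 2 ≤ d) :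
    AllE D1 2 (SC (Sm D)) ↔ padicValNat 2 (Nat.card F - 1) ≤ padicValNat 2 (2 * d) := by
  have := nontrivial_of_finrank_pos (hn ▸ (by omega : 0 < 2 * d))
  by_cases h2 : (2 : F) = 0
  · have := CharTwo.of_one_ne_zero_of_two_eq_zero one_ne_zero h2
    rw [val_two_even h2, allE_sc_two sc_sm]
    refine iff_of_true (fun y hy => gc_alt hD ?_) (Nat.zero_le _)
    have h := hasED_dg (nil_of_pow_char 2 hy)
    have h1 := (unip_pow_iff 2 h 1).1 (by simpa using hy)
    refine (realT_of_good Even (fun j => realT_alt) _ (pos_of_unip h) fun j h3 h4 => ?_).real h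
    by_cases e : j = 1
    · have := congrArg Multiset.sum (two_parts fun a ha => ⟨pos_of_unip h a ha, h1 a ha⟩)
      simp only [sum_dg, Multiset.sum_add, Multiset.sum_replicate, smul_eq_mul] at this
      grind
    · rw [Multiset.count_eq_zero.2 fun k => by have := h1 j k; grind]; exact Even.zero
  refine ⟨fun H => not_lt.1 fun h => not_allE_refl h2 hn (by omega) h sc_sm ?_ H, fun h =>
    (allE_sc Nat.prime_two h2 sc_sm hn).2 ⟨fun y hy w h0 hw => gc_alt hD ?_, fun x z hz hx _ => ?_⟩⟩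
  · rintro x ⟨c, -, hc⟩ h1 h3 h4
    obtain rfl | rfl : c = 1 ∨ c = -1 := by
      simpa using hc.norm (r := 2) (z := 1) hD (by simpa using h1)
    · obtain ⟨m, hm⟩ := Symp.exists_finrank_eq (nondeg_eig hD (ss_of_pow' h2 h1)
        (alt_isIsometry (by simpa [Mu] using hc)) (c := -1) (by simp))
      omega
    · have := hc.eig_le hD one_ne_zero
      rw [map_one, inv_one, mul_one] at this
      omega
  · have hs := ss_of_pow' h2 hy
    exact ((selfDual_iff_fac (fun _ => rfl) hs (isUnit_of_pow Nat.prime_two hy)).2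
      (fac_pd_of_sq (fun _ => rfl) h2 hy)).exists_alt hs ⟨d, by omega⟩
      (det_eq_one_of_sq h2 (by omega) h hy h0 hw)
  · obtain ⟨E, a, h1, -, h3, h4⟩ := exists_dbl_sq (altKind F) d z
    have e : finrank F ((Fin d → F) × (Fin d → F)) = finrank F V := by simp [hn, two_mul]
    exact .iso ⟨_, by rintro e; simp at e; exact hz 0 (by simp [e]), h3⟩
      (Symp.iso h1 hD e) (sim_nonpow Nat.prime_two hz h4 hx e)

theorem alt_c8_odd (p : ℕ) [Fact p.Prime] [CharP F p] (hD : D.Nondeg) (hn : finrank F V = 2 * d)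
    (hd : 2 ≤ d) (hr : r.Prime) (h2 : r ≠ 2) (h6 : ¬ (2 * d = 6 ∧ r = 3))
    (hΩ : (r : F) ≠ 0 → ∃ i < d, r ∣ Nat.card F ^ (2 * i + 1) - 1) : ¬ AllE D1 r (SC (Sm D)) := by
  have := nontrivial_of_finrank_pos (hn ▸ (by omega : 0 < 2 * d))
  by_cases hp : r = p
  · subst hp
    have := hr.two_le
    refine not_allE_unip r hD (t := 3 ::ₘ Multiset.replicate (2 * d - 3) 1)
      (by simp +contextual [Multiset.mem_replicate]; omega) (by simp; omega) fun x h1 h3 => ?_
    simpa [Multiset.count_replicate] using even_count_alt hD (Symp.B_self D) h1 h3 (j := 3) (by decide)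
  have hF := cast_ne_zero_of_ne (F := F) hr hp
  obtain ⟨i, h3, h4⟩ := hΩ hF
  by_cases hi : io r F = 1
  · obtain ⟨ζ, hζ⟩ := exists_primRoot (io_eq_one_iff.1 hi)
    exact not_allE_bad hD hr h2 hζ rfl hn (by omega) h6 (by omega)
  rw [dvd_pow_sub_one_iff Nat.card_pos.ne'] at h4
  exact not_allE_pd hD hr hF (fun _ => alt_isIsometry) hi
    ((Nat.le_of_dvd (by omega) h4).trans (by omega)) fun g hg e =>
      Nat.not_even_iff_odd.2 (Odd.of_dvd_nat (odd_two_mul_add_one i) h4) ((pd_id_iff hr h2 hF hg).1 e)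

end Alt

section Herm

variable {q : ℕ} {h : IsConj σ q} {D : Form h.kind V}

theorem gc_herm (hD : D.Nondeg) (h1 : SelfDual σ y) : GC (Sm D) y :=
  let ⟨g, hg⟩ := h1.exists_herm_isom hD rfl
  ⟨_, sm_of g.2, hg.symm⟩

theorem herm_c8 (p : ℕ) [Fact p.Prime] [CharP F p] (hD : D.Nondeg) (hn : finrank F V = n)
    (h3 : 3 ≤ n) (hr : r.Prime) (hp : r = 2 ∨ r ≠ p) (h6 : ¬ (n = 6 ∧ r = 3))
    (hΩ : (r : F) ≠ 0 → ∃ i < n, r ∣ if Even i then q ^ (i + 1) - 1 else q ^ (i + 1) + 1) :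
    AllE D1 r (SC (Sm D)) ↔
      (r = 2 ∧ (p = 2 ∨ padicValNat 2 n ≤ padicValNat 2 (Nat.card F - 1))) ∨
        ((r = 3 ∨ r = 5) ∧ n = r ∧ padicValNat r (q - 1) = 1) := by
  have := nontrivial_of_finrank_pos (hn ▸ (by omega : 0 < n))
  have hq := h.two_le
  rcases r_cases (F := F) p hr with rfl | ⟨rfl, hp2, h2⟩ | ⟨-, -, h2, -, hF⟩
  · obtain rfl : r = 2 := by tauto
    rw [allE_sc_two sc_sm]
    exact iff_of_true (fun y hy => gc_herm hD
      (selfDual_of_unip (fun a => ⟨σ a, h.σσ a⟩) (nil_of_pow_char 2 hy))) (by simp)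
  · have ho : Odd q := Nat.Odd.of_mul_left (by simpa [h.card, sq] using odd_card_iff.2 h2)
    rw [allE_sc Nat.prime_two h2 sc_sm hn, and_iff_right fun y hy _ _ _ => gc_herm hD
      ((selfDual_iff_fac h.σσ (ss_of_pow' h2 hy) (isUnit_of_pow Nat.prime_two hy)).2
        (fac_pd_of_sq h.σσ h2 hy))]
    have key : ∀ (x : End F V) z, (∀ b, b ^ 2 ≠ z) → x ^ 2 = algebraMap F _ z →
        ¬ GC (Sm D) x := by
      rintro x z hz hx ⟨a, ⟨c, hc, h1⟩, h4⟩
      have h5 := h1.norm hD (sim_pow_scalar h4.symm hx)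
      obtain ⟨b, hb⟩ := h.exists_norm_eq (h1.fixed hD)
      have h0 : z ≠ 0 := by rintro rfl; exact hz 0 (by simp)
      have hb0 : b ≠ 0 := by rintro rfl; simp [hc.symm] at hb
      have h7 : (z / b ^ 2) ^ (q + 1) = 1 := by
        rw [← h.norm_eq, map_div₀, map_pow]; field_simp [(map_ne_zero σ).2 hb0]
        rw [← mul_pow, hb, h5, mul_comm]
      obtain ⟨k, hk⟩ : 2 ∣ q - 1 := by grind
      obtain ⟨ζ, hζ⟩ := exists_primRoot (F := F) dvd_rfl
      have : NeZero (Nat.card F - 1) := ⟨by have := two_le_card (F := F); omega⟩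
      obtain ⟨j, -, hj⟩ := hζ.eq_pow_of_pow_eq_one (pow_card_sub_one (div_ne_zero h0
        (pow_ne_zero 2 hb0)))
      rw [← hj, ← pow_mul, hζ.pow_eq_one_iff_dvd, h.card_sub_one, mul_comm j,
        Nat.mul_dvd_mul_iff_left (by omega), hk] at h7
      obtain ⟨l, rfl⟩ := h7
      exact hz (ζ ^ (k * l) * b) (by rw [mul_pow, ← pow_mul, mul_comm _ 2, ← mul_assoc, hj]; field_simp)
    have e : Nat.card F % 4 = 1 := by
      obtain ⟨k, rfl⟩ := ho
      rw [h.card, show (2 * k + 1) ^ 2 = 4 * (k * k + k) + 1 by ring]; omega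
    have := (np_iff_exists (V := V) Nat.prime_two hn).symm.trans (np_iff Nat.prime_two h2 (by omega))
    simp only [io_two h2, e, imp_true_iff, and_true, true_and] at this
    simp only [hp2, false_or, true_and, show (2 : ℕ) ≠ 3 by decide, show (2 : ℕ) ≠ 5 by decide,
      false_and, or_false]
    rw [← not_iff_not, ← this]
    push Not
    exact ⟨fun ⟨x, z, a, b, c, _⟩ => ⟨x, z, a, b, c⟩, fun ⟨x, z, a, b, c⟩ =>
      ⟨x, z, a, b, c, key x z a b⟩⟩
  have := Fact.mk hr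
  obtain ⟨i, h4, h5⟩ := hΩ hF
  have h7 : orderOf (q : ZMod r) ∣ 2 * (i + 1) ∧ orderOf (q : ZMod r) % 4 ≠ 2 := by
    split_ifs at h5 with e
    · rw [dvd_pow_sub_one_iff (by omega)] at h5
      exact ⟨h5.mul_left 2, by have := Odd.of_dvd_nat e.add_one h5; grind⟩
    · rw [dvd_pow_add_one_iff hr h2] at h5
      refine ⟨h5.1, fun e' => h5.2 ?_⟩
      obtain ⟨k, hk⟩ : ∃ k, orderOf (q : ZMod r) = 2 * (2 * k + 1) := ⟨orderOf (q : ZMod r) / 4, by omega⟩
      rw [hk, Nat.mul_dvd_mul_iff_left two_pos] at h5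
      exact hk ▸ (Nat.Coprime.mul_dvd_of_dvd_of_dvd (by simp) (by grind) h5.1)
  simp only [h2, false_and, false_or]
  by_cases hd : r ∣ q - 1
  · have hv : padicValNat r (Nat.card F - 1) = padicValNat r (q - 1) := by
      rw [h.card_sub_one, padicValNat.mul (by omega) (by omega), padicValNat.eq_zero_of_not_dvd
        fun e => h2 ((Nat.prime_dvd_prime_iff_eq hr Nat.prime_two).1 (by
          simpa [show q + 1 - (q - 1) = 2 by omega] using Nat.dvd_sub e hd)), zero_add]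
    have hσ : ∀ a : F, a ^ r = 1 → σ a = a := fun a ha =>
      (h.fixed_iff (by rintro rfl; simp [hr.ne_zero] at ha)).2 (by
        obtain ⟨k, hk⟩ := hd; rw [hk, pow_mul, ha, one_pow])
    obtain ⟨ζ, hζ⟩ := exists_primRoot (F := F) (h.card_sub_one ▸ hd.mul_left _)
    refine ⟨fun H => by_contra fun e => not_allE_bad hD hr h2 hζ (hσ ζ hζ.pow_eq_one) hn h3 h6
      (hv ▸ e) H, fun ⟨a, b, c⟩ => allE_exc a (hn.trans b) (hv ▸ c) sc_sm fun y s h8 h9 h10 => ?_⟩
    exact gc_herm hD ((selfDual_iff_fac h.σσ h9.1 (isUnit_of_pow hr h8)).2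
      (h9.fac_pd h.σσ hr.ne_zero h8 hσ h10))
  refine iff_of_false (not_allE_pd hD hr hF (fun _ => herm_isIsometry) ?_ ?_ fun g hg e =>
    h7.2 ((pd_herm_iff h hr h2 hF hg).1 e)) fun e => hd (dvd_of_one_le_padicValNat e.2.2.ge)
  · rw [← pow_one q, dvd_pow_sub_one_iff (by omega), Nat.dvd_one] at hd
    rw [io_herm h]; grind
  · have := Nat.le_of_dvd (by omega) h7.1
    rw [io_herm h]
    split_ifs with e
    · omega
    · exact (Nat.le_of_dvd (by omega) ((Nat.coprime_two_right.2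
        (Nat.not_even_iff_odd.1 e)).dvd_of_dvd_mul_left h7.1)).trans (by omega)

end Herm

section Quad

variable {D : Form (quadKind F) V}

omit [Finite F] in
theorem exists_orth (h2 : (2 : F) ≠ 0) (hD : D.Nondeg) {ι : Type*} [Fintype ι]
    (hn : finrank F V = Fintype.card ι) :
    ∃ b : Basis ι F V, (∀ i j, i ≠ j → D.B (b i) (b j) = 0) ∧ ∀ i, D.B (b i) (b i) ≠ 0 := by
  have := invertibleOfNonzero h2
  obtain ⟨v, hv⟩ := LinearMap.BilinForm.exists_orthogonal_basis (B := D.B) ⟨fun x y => quad_symm D x y⟩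
  let e := (Fintype.equivFinOfCardEq hn.symm).symm
  have h1 : ∀ i j, i ≠ j → D.B (v.reindex e i) (v.reindex e j) = 0 := fun i j h => by
    simpa using hv (e.symm.injective.ne h)
  refine ⟨v.reindex e, h1, fun i h => (v.reindex e).ne_zero i (hD _ fun w => ?_)⟩
  exact LinearMap.congr_fun ((v.reindex e).ext (f₁ := D.B _) (f₂ := 0) fun j => by
    by_cases k : i = j
    · exact k ▸ h
    · exact h1 i j k) w

omit [FiniteDimensional F V] [Finite F] in
theorem quad_of_B (h2 : (2 : F) ≠ 0) (h : ∀ u v, D.B (x u) (x v) = D.B u v) : IsIsometry D D x :=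
  ⟨h, fun v => mul_left_cancel₀ h2 (by rw [← quad_B_self, h, quad_B_self])⟩

theorem quad_invol (h2 : (2 : F) ≠ 0) (hD : D.Nondeg) (hy : y ^ 2 = 1) :
    ∃ x : End F V, IsIsometry D D x ∧ Sim x y := by
  obtain ⟨s, hs⟩ := exists_dg_of_pow Nat.prime_two h2 (io_two h2) hy
  obtain ⟨d, rfl⟩ := exists_fin_map s hs.card
  obtain ⟨b, h1, -⟩ := exists_orth h2 hD (Fintype.card_fin _).symm
  refine ⟨b.constr F fun i => d i • b i, quad_of_B h2 ?_, (dg_of_basis b (by simp)).sim hs⟩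
  have := mu_of_basis (D := D) (c := 1) (x := b.constr F fun i => d i • b i) b fun i j => by
    by_cases e : i = j
    · simp [← e, ← mul_assoc, ← sq, hs.pow_eq_one.1 hy (d i) (by simp)]
    · simp [h1 i j e]
  simpa [Mu] using this

theorem quad_sqrt (h2 : (2 : F) ≠ 0) (hD : D.Nondeg) (hn : finrank F V = 2 * d) (z : F) :
    ∃ x : End F V, Mu D z x ∧ x ^ 2 = algebraMap F _ z := by
  obtain ⟨b, h1, h3⟩ := exists_orth h2 hD (ι := Fin d ⊕ Fin d) (by simp [hn, two_mul])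
  have : ∀ a : F, a ≠ 0 → ∃ s t : F, s ^ 2 + a * t ^ 2 = z := fun a ha => by
    cases nonempty_fintype F
    obtain ⟨s, t, h⟩ := FiniteField.exists_root_sum_quadratic (R := F) (f := X ^ 2)
      (g := C a * X ^ 2 - C z) (degree_X_pow 2) (by compute_degree!)
      (Nat.odd_iff.1 (Nat.card_eq_fintype_card (α := F) ▸ odd_card_iff.2 h2))
    exact ⟨s, t, by simp at h; linear_combination h⟩
  choose s t h using fun i => this _ (mul_ne_zero (h3 (.inl i)) (h3 (.inr i)))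
  refine ⟨b.constr F (Sum.elim
    (fun i => s i • b (.inl i) + (t i * D.B (b (.inl i)) (b (.inl i))) • b (.inr i))
    fun i => (t i * D.B (b (.inr i)) (b (.inr i))) • b (.inl i) - s i • b (.inr i)),
    mu_of_basis b ?_, b.ext ?_⟩
  · rintro (i | i) (j | j) <;> by_cases e : i = j <;> simp [e, h1]
    · linear_combination D.B (b (.inl j)) (b (.inl j)) * h j
    · ring
    · ring
    · linear_combination D.B (b (.inr j)) (b (.inr j)) * h j
  · rintro (i | i) <;> simp only [sq, End.mul_apply, Basis.constr_basis, Sum.elim_inl, Sum.elim_inr,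
      map_add, map_sub, map_smul, algebraMap_end_apply] <;> rw [← h i] <;> module

theorem quad_c8 (p : ℕ) [Fact p.Prime] [CharP F p] (h2 : (2 : F) ≠ 0) (hD : D.Nondeg)
    (hn : finrank F V = n) (h3 : 3 ≤ n) (hr : r.Prime) (h6 : ¬ (n = 6 ∧ r = 3))
    (hΩ : (r : F) ≠ 0 → (∃ i, 2 * i < n ∧ r ∣ Nat.card F ^ (2 * i + 1) - 1) ∨ ∃ d, n = 2 * d ∧
      (D.HasTS d ∧ r ∣ Nat.card F ^ d + 1 ∨ ¬ D.HasTS d ∧ r ∣ Nat.card F ^ d - 1)) :
    AllE D1 r (SC (Sm D)) ↔
      r = 2 ∨ ((r = 3 ∨ r = 5) ∧ n = r ∧ padicValNat r (Nat.card F - 1) = 1) := by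
  have := nontrivial_of_finrank_pos (hn ▸ (by omega : 0 < n))
  have := Fact.mk hr
  rcases r_cases (F := F) p hr with rfl | ⟨rfl, -, -⟩ | ⟨-, -, h4, -, hF⟩
  · have h4 := three_le_char r h2
    refine iff_of_false (not_allE_unip r hD (t := 2 ::ₘ Multiset.replicate (n - 2) 1)
      (by simp +contextual [Multiset.mem_replicate]; omega) (by simp; omega) fun x h1 h3 => ?_) ?_
    · simpa [Multiset.count_replicate] using even_count_quad h2 hD h1 h3 even_two two_pos
    · rintro (e | ⟨-, -, e⟩)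
      · omega
      · have := two_le_card (F := F)
        have := Nat.dvd_sub (char_dvd_card (F := F) r) (dvd_of_one_le_padicValNat e.ge)
        rw [show Nat.card F - (Nat.card F - 1) = 1 by omega, Nat.dvd_one] at this
        omega
  · refine iff_of_true ((allE_sc hr h2 sc_sm hn).2 ⟨fun y hy _ _ _ => ?_, fun x z hz hx _ => ?_⟩)
      (.inl rfl)
    · obtain ⟨x, h1, h4⟩ := quad_invol h2 hD hy
      exact ⟨x, sm_of h1, h4⟩
    · obtain ⟨k, hk⟩ := hasED_nonpow hr hz hx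
      obtain ⟨a, h1, h4⟩ := quad_sqrt h2 hD (nonpow_props two_ne_zero hk).1 z
      exact ⟨a, ⟨z, by rintro rfl; exact hz 0 (by simp), h1⟩, sim_nonpow hr hz h4 hx rfl⟩
  simp only [h4, false_or]
  by_cases hi : io r F = 1
  · obtain ⟨ζ, hζ⟩ := exists_primRoot (io_eq_one_iff.1 hi)
    refine ⟨fun H => by_contra fun e => not_allE_bad hD hr h4 hζ rfl hn h3 h6 e H,
      fun ⟨a, b, c⟩ => allE_exc a (hn.trans b) c sc_sm fun y s h8 h9 h10 => gc_of_fac hF h8 ?_⟩
    exact (quad_odd_real_iff hD (m := r / 2) (by omega) hr h4 hF (fac_mem_Phi hr hF h8)).1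
      ⟨h9.fac_pd (fun _ => rfl) hr.ne_zero h8 (fun _ _ => rfl) h10, io_mul_le hr hF h8⟩
  refine iff_of_false ?_ fun e => hi (io_eq_one_iff.2 (dvd_of_one_le_padicValNat e.2.2.ge))
  have key : Odd (io r F) → io r F ≤ n → ¬ AllE D1 r (SC (Sm D)) := fun a b =>
    not_allE_pd hD hr hF (fun _ => quad_of_B h2) hi (hn ▸ b) fun g hg e =>
      Nat.not_even_iff_odd.2 a ((pd_id_iff hr h4 hF hg).1 e)
  obtain ⟨i, h5, h7⟩ | ⟨d, rfl, H⟩ := hΩ hF
  · rw [dvd_pow_sub_one_iff Nat.card_pos.ne'] at h7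
    exact key (Odd.of_dvd_nat (odd_two_mul_add_one i) h7) ((Nat.le_of_dvd (by omega) h7).trans h5)
  rw [dvd_pow_sub_one_iff Nat.card_pos.ne', dvd_pow_add_one_iff hr h4] at H
  obtain ⟨k, hk⟩ : io r F ∣ 2 * d := H.elim (·.2.1) (·.2.mul_left 2)
  rcases Nat.even_or_odd (io r F) with he | ho
  swap; · exact key ho (Nat.le_of_dvd (by omega) ⟨k, hk⟩)
  obtain ⟨g, hg⟩ := exists_mem_Phi hr hF
  refine not_allE_fac hD hr hF (fun _ => quad_of_B h2) hi (k := k) (by omega) hg fun x h1 h5 e => ?_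
  have := hasTS_iff_of_fpf hD hn h1 hr h4 hF h5 ((isUnit_sub_one_iff hr hF h5).2 (by simp [e]; omega))
  have e2 : Even k ↔ io r F ∣ d := ⟨fun ⟨l, hl⟩ => ⟨l, by rw [hl, mul_add] at hk; omega⟩,
    fun ⟨l, hl⟩ => ⟨l, Nat.eq_of_mul_eq_mul_left (io_pos hr hF) (by rw [mul_add]; omega)⟩⟩
  simp only [e, Multiset.card_replicate, Nat.not_odd_iff_even.2 he, false_or, e2] at this
  tauto

end Quad

end Cfsg.Lib.Elu
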