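import Cfsg.Agent.Lib.Elu.Two
import Cfsg.Agent.Lib.Max.Inv2O

/-!
Involutions in characteristic two.
-/

set_option autoImplicit false

namespace Cfsg.Lib.Elu

open Module Cfsg.Lib.Forms Cfsg.Lib.Forms.Form Cfsg.Lib.Known Cfsg.Lib.Conj Polynomial

variable {F : Type*} [Field F] {K : Kind (RingHom.id F)} {V V' W W' : Type*}
  [AddCommGroup V] [Module F V] [AddCommGroup V'] [Module F V']
  [AddCommGroup W] [Module F W] [AddCommGroup W'] [Module F W']
  {D : Form K V} {D' : Form K V'} {E : Form K W} {E' : Form K W'} {x : End F V} {y : End F V'}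
  {U U' : Submodule F V} {r m n l d e k : ℕ}

/-- The rank of `x - 1`. -/
noncomputable def rk (x : End F V) : ℕ := finrank F (rng x 1)

/-- `B v (x v)` vanishes. -/
def Al (D : Form K V) (x : End F V) : Prop := ∀ v, D.B v (x v) = 0

/-- An isometry of order at most two. -/
structure Iv (D : Form K V) (x : End F V) : Prop where
  iso : IsIsometry D D x
  sq : x ^ 2 = 1

theorem rng_nat (g : D.isom) : rng (nat D g) 1 = supp g.1 := by
  rw [rng, map_one]; rfl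

theorem rk_nat (g : D.isom) : rk (nat D g) = finrank F (supp g.1) := by rw [rk, rng_nat]

theorem iv_nat {g : D.isom} : Iv D (nat D g) ↔ g * g = 1 :=
  ⟨fun h => nat_injective D (by rw [map_mul, ← sq, h.sq, map_one]),
    fun h => ⟨isIsometry_nat g, by rw [sq, ← map_mul, h, map_one]⟩⟩

theorem iv_one : Iv D 1 := (iv_nat (g := 1)).2 (mul_one 1)

theorem rk_one : rk (1 : End F V) = 0 := by
  have : rng (1 : End F V) 1 = ⊥ := eq_bot_iff.2 fun v hv => by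
    obtain ⟨u, rfl⟩ := mem_rng.1 hv; simp
  rw [rk, this, finrank_bot]

theorem Iv.isoC (h : Iv D x) (H : IsoC D x D' y) : Iv D' y :=
  ⟨H.isIsometry h.iso, by simpa using sim_pow_scalar (z := 1) H.sim (by simpa using h.sq)⟩

theorem al_isoC (H : IsoC D x D' y) : Al D x ↔ Al D' y := by
  obtain ⟨e, h1, h2⟩ := H
  refine ⟨fun h v => ?_, fun h v => ?_⟩
  · obtain ⟨v, rfl⟩ := e.surjective v
    rw [← h2]; exact (h1.B_map _ _).trans (h v)
  · rw [← h (e v), ← h2]; exact (h1.B_map _ _).symm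

theorem rk_isoC (H : IsoC D x D' y) : rk x = rk y := by
  obtain ⟨e, -, h2⟩ := H
  rw [rk, rk, ← finrank_map_equiv e]
  refine congrArg (fun T : Submodule F V' => finrank F T) (Submodule.ext fun v => ?_)
  simp only [Submodule.mem_map, mem_rng, one_smul]
  constructor
  · rintro ⟨_, ⟨u, rfl⟩, rfl⟩
    exact ⟨e u, by simp [h2]⟩
  · rintro ⟨u, rfl⟩
    obtain ⟨u, rfl⟩ := e.surjective u
    exact ⟨_, ⟨u, rfl⟩, by simp [h2]⟩

theorem Iv.prod (h : Iv D x) (h' : Iv D' y) : Iv (D.prod D') (x.prodMap y) :=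
  ⟨isIsometry_prodMap h.iso h'.iso, by rw [prodMap_pow, h.sq, h'.sq]; rfl⟩

theorem Iv.restrict (h : Iv D x) (hU : Inv x U) : Iv (D.restrict U) (x.restrict hU) :=
  ⟨isIsometry_restrict h.iso hU, restrict_pow_eq_one hU h.sq⟩

theorem al_prod : Al (D.prod D') (x.prodMap y) ↔ Al D x ∧ Al D' y :=
  ⟨fun h => ⟨fun v => by simpa using h (v, 0), fun v => by simpa using h (0, v)⟩,
    fun h v => by simp [h.1 v.1, h.2 v.2]⟩

variable [FiniteDimensional F V] [FiniteDimensional F V'] [FiniteDimensional F W]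
  [FiniteDimensional F W']

theorem rk_prod (x : End F V) (y : End F V') : rk (x.prodMap y) = rk x + rk y := by
  have : rng (x.prodMap y) 1 = (rng x 1).prod (rng y 1) := by
    ext v
    simp only [mem_rng, Submodule.mem_prod, one_smul]
    exact ⟨fun ⟨u, h⟩ => ⟨⟨u.1, congrArg Prod.fst h⟩, ⟨u.2, congrArg Prod.snd h⟩⟩,
      fun ⟨⟨a, h⟩, b, h'⟩ => ⟨(a, b), Prod.ext h h'⟩⟩
  rw [rk, this, ← (prodEquiv _ _).finrank_eq, finrank_prod]; rfl

theorem rk_eq_zero (h : rk x = 0) : x = 1 := by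
  ext v
  have := (Submodule.finrank_eq_zero.1 h).le (mem_rng.2 ⟨v, rfl⟩)
  simpa [sub_eq_zero] using this

theorem Iv.two_mul_le (h : Iv D x) (hD : D.Nondeg) (h2 : (2 : F) = 0) : 2 * rk x ≤ finrank F V := by
  obtain ⟨g, rfl⟩ := exists_nat hD h.iso
  rw [rk_nat]; exact hD.two_mul_supp_le h2 (iv_nat.1 h)

/-- What the two kinds in question have in common. -/
structure C2 (D : Form K V) : Prop where
  two : (2 : F) = 0
  nd : D.Nondeg
  alt : ∀ v, D.B v v = 0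
  cls : ∀ t s : D.isom, t * t = 1 → s * s = 1 → finrank F (supp t.1) = finrank F (supp s.1) →
    (D.AltI t ↔ D.AltI s) → _root_.IsConj t s
  ex : ∀ s, 1 ≤ s → 2 * s ≤ finrank F V →
    ∃ g : D.isom, g * g = 1 ∧ finrank F (supp g.1) = s ∧ ¬ D.AltI g
  ts : ∀ t : D.isom, t * t = 1 → D.AltI t → Even (finrank F (supp t.1)) ∧ D.IsTS (supp t.1)
  even : Even (finrank F V)

theorem c2_alt [Finite F] {D : Form (altKind F) V} (h2 : (2 : F) = 0) (hD : D.Nondeg) : C2 D where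
  two := h2
  nd := hD
  alt := Symp.B_self D
  cls _ _ ht hs h h' := (Symp.isConj_iff hD h2 ht hs).2 ⟨h, h'⟩
  ex _ := Symp.exists_invol hD h2
  ts _ ht h := ⟨Symp.altI_even hD h, fun v _ => alt_Q D v,
    fun u hu _ hv => hD.supp_le_perp h2 ht hv u hu⟩
  even := alt_even_finrank hD

theorem c2_quad [Finite F] {D : Form (quadKind F) V} (h2 : (2 : F) = 0) (hD : D.Nondeg) : C2 D where
  two := h2
  nd := hD
  alt := Quad.B_self_two h2
  cls _ _ ht hs h h' := (Quad.isConj_iff' h2 hD ht hs).2 ⟨h, h'⟩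
  ex _ := Quad.exists_invol h2 hD
  ts t _ h := ⟨Quad.altI_even h2 hD h, (Quad.altI_iff h2).1 h⟩
  even := hD.even_finrank h2

namespace C2

theorem isoC (h : C2 D) {y : End F V} (hx : Iv D x) (hy : Iv D y) (h1 : rk x = rk y)
    (h2 : Al D x ↔ Al D y) : IsoC D x D y := by
  obtain ⟨g, rfl⟩ := exists_nat h.nd hx.iso
  obtain ⟨k, rfl⟩ := exists_nat h.nd hy.iso
  exact isConj_iff_isoC.1 (h.cls g k (iv_nat.1 hx) (iv_nat.1 hy) (by rwa [rk_nat, rk_nat] at h1) h2)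

theorem exists_iv (h : C2 D) {s : ℕ} (hs : 2 * s ≤ finrank F V) :
    ∃ x, Iv D x ∧ rk x = s ∧ (Al D x ↔ s = 0) := by
  rcases s.eq_zero_or_pos with rfl | h0
  · exact ⟨1, iv_one, rk_one, iff_of_true h.alt rfl⟩
  · obtain ⟨g, h1, h2, h3⟩ := h.ex s h0 hs
    exact ⟨nat D g, iv_nat.2 h1, (rk_nat g).trans h2, iff_of_false h3 h0.ne'⟩

theorem exists_al (h : C2 D) (hk : D.HasTS (2 * k)) : ∃ x, Iv D x ∧ rk x = 2 * k ∧ Al D x := by
  obtain ⟨T, h1, h2⟩ := hk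
  obtain ⟨g, h3, h4, h5⟩ := IsTS.exists_altI h.nd h.two h.alt h2 h1
  exact ⟨nat D g, iv_nat.2 h3, by rw [rk_nat, h4, h1], h5⟩

theorem of_al (h : C2 D) (hx : Iv D x) (ha : Al D x) : ∃ k, rk x = 2 * k ∧ D.HasTS (2 * k) := by
  obtain ⟨g, rfl⟩ := exists_nat h.nd hx.iso
  obtain ⟨⟨k, h1⟩, h2⟩ := h.ts g (iv_nat.1 hx) ha
  exact ⟨k, by rw [rk_nat]; omega, _, by omega, h2⟩

theorem ndi (h : C2 D) (i : (E.prod E').Iso D) (hx : Iv D x) {a : End F W} {b : End F W'}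
    (ha : Iv E a) (hb : Iv E' b) (h1 : rk a + rk b = rk x) (h2 : Al E a ∧ Al E' b ↔ Al D x) :
    NDI D x E := by
  obtain ⟨g, hg⟩ := exists_isom_isoC h.nd i (ha.prod hb).iso
  exact (ndi_inl E E' a b).isoC (hg.trans (h.isoC ((ha.prod hb).isoC hg) hx
    (by rw [← rk_isoC hg, rk_prod, h1]) (by rw [← al_isoC hg, al_prod, h2])))

theorem ndi_not_al (h : C2 D) (hE : C2 E) (hE' : C2 E') (i : (E.prod E').Iso D) (hx : Iv D x)
    (ha : ¬ Al D x) : NDI D x E := by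
  have h1 := hx.two_mul_le h.nd h.two
  have h2 := i.finrank_eq
  rw [finrank_prod] at h2
  obtain ⟨s, hs⟩ := hE.even
  obtain ⟨t, ht⟩ := hE'.even
  have h0 : rk x ≠ 0 := fun e => ha (rk_eq_zero e ▸ h.alt)
  obtain ⟨a, a1, a2, a3⟩ := hE.exists_iv (s := min (rk x) s) (by omega)
  obtain ⟨b, b1, b2, b3⟩ := hE'.exists_iv (s := rk x - min (rk x) s) (by omega)
  exact h.ndi i hx a1 b1 (by omega) (iff_of_false (by rw [a3, b3]; omega) ha)

theorem ndi_al (h : C2 D) (hE : C2 E) (hE' : C2 E') (i : (E.prod E').Iso D) (hx : Iv D x)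
    (ha : Al D x) (hk : rk x = 2 * k) :
    NDI D x E ↔ ∃ a b, a + b = k ∧ E.HasTS (2 * a) ∧ E'.HasTS (2 * b) := by
  constructor
  · rintro ⟨U, h1, h2⟩
    have h3 := perp_inv (isUnit_of_isIsometry h.nd hx.iso.B_map) hx.iso.B_map h2
    have h4 := isoC_orthCompl (h.nd.isOrthCompl (D.nondeg_restrict_iff.1 (h1.symm.nondeg hE.nd))) h2 h3
    have h5 := al_prod.1 ((al_isoC h4).2 ha)
    obtain ⟨a, a1⟩ := exists_isom_isoC hE.nd h1 (hx.restrict h2).iso
    obtain ⟨b, b1⟩ := exists_isom_isoC hE'.nd (iso_cancel h.nd i h1) (hx.restrict h3).iso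
    obtain ⟨s, s1, s2⟩ := hE.of_al ((hx.restrict h2).isoC a1) ((al_isoC a1).1 h5.1)
    obtain ⟨t, t1, t2⟩ := hE'.of_al ((hx.restrict h3).isoC b1) ((al_isoC b1).1 h5.2)
    have := rk_isoC h4
    rw [rk_prod, rk_isoC a1, rk_isoC b1] at this
    exact ⟨s, t, by omega, s2, t2⟩
  · rintro ⟨a, b, rfl, h1, h2⟩
    obtain ⟨u, u1, u2, u3⟩ := hE.exists_al h1
    obtain ⟨v, v1, v2, v3⟩ := hE'.exists_al h2
    exact h.ndi i hx u1 v1 (by omega) (iff_of_true ⟨u3, v3⟩ ha)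

theorem all (h : C2 D) (hE : C2 E) (hE' : C2 E') (i : (E.prod E').Iso D) {G : End F V → Prop}
    (h1 : ∀ x, G x → IsIsometry D D x) (h2 : ∀ x, Iv D x → Even (rk x) → G x) :
    (∀ x, G x → x ^ 2 = 1 → NDI D x E) ↔
      ∀ k, D.HasTS (2 * k) → ∃ a b, a + b = k ∧ E.HasTS (2 * a) ∧ E'.HasTS (2 * b) := by
  refine ⟨fun H k hk => ?_, fun H x hx hx' => ?_⟩
  · obtain ⟨x, a, b, c⟩ := h.exists_al hk
    exact (h.ndi_al hE hE' i a c b).1 (H x (h2 x a ⟨k, by omega⟩) a.sq)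
  · have a : Iv D x := ⟨h1 x hx, hx'⟩
    by_cases c : Al D x
    · obtain ⟨k, b, hk⟩ := h.of_al a c
      exact (h.ndi_al hE hE' i a c b).2 (H k hk)
    · exact h.ndi_not_al hE hE' i a c

end C2

theorem ar_two {u v w : ℕ} : (∀ k, 2 * k ≤ w → ∃ a b, a + b = k ∧ 2 * a ≤ u ∧ 2 * b ≤ v) ↔
    w / 2 ≤ u / 2 + v / 2 :=
  ⟨fun H => by obtain ⟨a, b, h⟩ := H (w / 2) (by omega); omega,
    fun H k hk => ⟨min k (u / 2), k - min k (u / 2), by omega⟩⟩

theorem alt_hasTS_le {D : Form (altKind F) V} (hD : D.Nondeg) (hn : finrank F V = 2 * d) :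
    D.HasTS l ↔ l ≤ d :=
  ⟨fun h' => by have := h'.two_mul_le hD; omega, fun h' => Symp.hasTS hD (by omega)⟩

variable [Finite F]

theorem alt_ch2_nd {D : Form (altKind F) V} {E : Form (altKind F) W} (h2 : (2 : F) = 0)
    (hD : D.Nondeg) (hE : E.Nondeg) (hn : finrank F V = 2 * d) (hm : finrank F W = 2 * e)
    (he : e < d) : AllE (fun x => IsIsometry D D x) 2 (NDI D · E) ↔ Odd d ∨ Even e := by
  haveI := nontrivial_of_finrank_pos (R := F) (M := V) (by omega)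
  obtain ⟨l, C, h1, h3⟩ := cp_alt.compl hE hD (by omega)
  have h4 := h3.finrank_eq
  rw [finrank_prod] at h4
  rw [allE_char_two hD h2 fun _ h => h, (c2_alt h2 hD).all (c2_alt h2 hE) (c2_alt h2 h1) h3
    (fun _ h => h) fun _ h _ => h.iso]
  simp only [alt_hasTS_le hD hn, alt_hasTS_le hE hm, alt_hasTS_le (d := d - e) h1 (by omega),
    ar_two, Nat.even_iff, Nat.odd_iff]
  omega

variable {D : Form (quadKind F) V} {E : Form (quadKind F) W}

theorem quad_hasTS_le (hD : D.Nondeg) (hn : finrank F V = 2 * d) (h0 : 0 < d) {P : Prop}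
    (hP : D.HasTS d ↔ P) [Decidable P] : D.HasTS l ↔ l ≤ if P then d else d - 1 := by
  rw [quad_hasTS_iff hD hn, hP]
  split_ifs with h
  · simp [h]
  · simp only [h, imp_false]; omega

theorem om_iff_even (h2 : (2 : F) = 0) (hD : D.Nondeg) (hn : 5 ≤ finrank F V)
    (hx : IsIsometry D D x) : Om D x ↔ Even (rk x) := by
  obtain ⟨g, rfl⟩ := exists_nat hD hx
  rw [om_nat, hD.commutator_eq_ker_of_two_eq_zero (good_of_finrank (by omega)) h2,
    Quad.mem_ker_iff, rk_nat]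

theorem quad_ch2_nd (h2 : (2 : F) = 0) (hD : D.Nondeg) (hE : E.Nondeg) (hn : finrank F V = 2 * d)
    (hm : finrank F W = 2 * e) (h0 : 0 < e) (he : e < d) (hd : 3 ≤ d) {P Q : Prop}
    (hP : D.HasTS d ↔ P) (hQ : E.HasTS e ↔ Q) : AllE (Om D) 2 (NDI D · E) ↔
      (P → Q) ∧ ((P ↔ Odd d) ∨ (Q ↔ Even e)) := by
  classical
  haveI := nontrivial_of_finrank_pos (R := F) (M := V) (by omega)
  obtain ⟨l, C, h1, h3⟩ := cp_quad.compl hE hD (by omega)
  have h4 := h3.finrank_eq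
  rw [finrank_prod] at h4
  have h5 : finrank F (Fin l → F) = 2 * (d - e) := by omega
  have h6 := Quad.hasTS_prod_iff_iff hE h1 hm h5
  rw [h3.hasTS_iff, show e + (d - e) = d by omega, hP, hQ] at h6
  have h7 : C.HasTS (d - e) ↔ (P ↔ Q) := by tauto
  rw [allE_char_two hD h2 fun _ h => h.isIsometry, (c2_quad h2 hD).all (c2_quad h2 hE)
    (c2_quad h2 h1) h3 (fun _ h => h.isIsometry)
    fun _ h => (om_iff_even h2 hD (by omega) h.iso).2]
  simp only [quad_hasTS_le hD hn (by omega) hP, quad_hasTS_le hE hm h0 hQ,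
    quad_hasTS_le h1 h5 (by omega) h7, ar_two, Nat.even_iff, Nat.odd_iff]
  by_cases a : P <;> by_cases b : Q <;> simp [a, b] <;> omega

theorem quad_nd' (hD : D.Nondeg) (hE : E.Nondeg) (hr : r.Prime) (h2 : r ≠ 2) (hF : (r : F) ≠ 0)
    (hn : finrank F V = n) (hm : finrank F W = m) (he : Even n ∨ Even m) {P Q : Prop}
    (hP : D.HasTS (n / 2) ↔ P) (hQ : E.HasTS (m / 2) ↔ Q) {i c : ℕ} (hi : io r F = i)
    (hc : c = if Even i then i else 2 * i) (h0 : 0 < m) (hmn : m < n) :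
    (∀ y : End F V, IsIsometry D D y → y ^ r = 1 → NDI D y E) ↔
      (n % c = 0 ∧ ¬ (P ↔ Odd i ∨ Even (n / c)) ∨ m % c ≤ n % c ∧
        (m % c = 0 → (Q ↔ Odd i ∨ Even (m / c))) ∧ (m % c = n % c →
          (Q ↔ ((P ↔ Odd i ∨ Even (n / c)) ↔ Odd i ∨ Even (m / c))))) := by
  subst hn hm hi hc
  rw [nd_ar cp_quad hD hE hr h2 hF _ (fun g => pd_id_iff hr h2 hF) (P := P) (Q := Q)
    (Nat.even_or_odd _) (fun M hM => ?_) fun y hy h B hB h3 h4 => ?_,
    arN_iff (by have := io_pos hr hF; split_ifs <;> omega) h0 hmn]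
  · obtain ⟨d, hd | hd⟩ := Nat.even_or_odd' (finrank F V)
    · rw [← hP, hd, Nat.mul_div_cancel_left _ two_pos]
      exact quad_even_real_iff hD hd hr h2 hF hM
    · refine ⟨fun h => (quad_odd_real_iff hD hd hr h2 hF hM).1 ⟨h.1, h.2.1⟩, fun h => ?_⟩
      have h1 := (quad_odd_real_iff hD hd hr h2 hF hM).2 h
      obtain ⟨g, h3, rfl⟩ := h
      have := Nat.even_iff.1 (even_io_mul hD hr h2 hF (isIsometry_nat g) h3)
      exact ⟨h1.1, h1.2, by omega⟩
  · have h5 := restrict_pow_eq_one hB h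
    have h6 := isIsometry_restrict hy hB
    obtain ⟨k, hk⟩ := (even_io_mul h3 hr h2 hF h6 h5).two_dvd
    rw [← finrank_fpf hr hF h5 h4] at hk
    have h7 := hasTS_iff_of_fpf h3 hk h6 hr h2 hF h5 h4
    refine ⟨fun h8 => by rw [quad_iso_iff h3 hE hk (h8 ▸ hk), hQ, h7], fun h8 => ?_⟩
    have h9 := finrank_eig_add hr hF h
    have := Nat.even_iff.1 (even_io_mul hD hr h2 hF hy h)
    obtain ⟨d, hd⟩ : 2 ∣ finrank F V := by simp only [Nat.even_iff] at he; omega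
    obtain ⟨e, h10, h11⟩ := quad_eig_type hD hd hr h2 hF hy h
    have h12 := nondeg_eig hD (ss_of_pow' hF h) hy (c := 1) (by simp)
    rw [quad_iso_iff (d := e + k) (h12.prod h3) hE (by rw [finrank_prod]; omega) (by omega),
      Quad.hasTS_prod_iff_iff h12 h3 h10 hk, h7, h11, hQ, ← hP, hd,
      Nat.mul_div_cancel_left _ two_pos]

theorem quad_nd2 (hD : D.Nondeg) (hE : E.Nondeg) (hr : r.Prime) (h2 : r ≠ 2) (hF : (r : F) ≠ 0)
    (hn : finrank F V = n) (hm : finrank F W = m) (he : Even n ∨ Even m) {P Q : Prop}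
    (hP : D.HasTS (n / 2) ↔ P) (hQ : E.HasTS (m / 2) ↔ Q) {i c : ℕ} (hi : io r F = i)
    (hc : c = if Even i then i else 2 * i) (h0 : 0 < m) (hmn : m < n)
    (hΩ : r ∣ Nat.card {U : Submodule F V // (D.restrict U).Iso E}) {X : Prop}
    (hX : 0 < c → ∀ Y, (Y → c ≤ m) → (Y ↔ (n % c = 0 ∧ ¬ (P ↔ i % 2 = 1 ∨ n / c % 2 = 0) ∨
      m % c ≤ n % c ∧ (m % c = 0 → (Q ↔ i % 2 = 1 ∨ m / c % 2 = 0)) ∧ (m % c = n % c →
        (Q ↔ ((P ↔ i % 2 = 1 ∨ n / c % 2 = 0) ↔ i % 2 = 1 ∨ m / c % 2 = 0))))) → (Y ↔ X)) :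
    (∀ y : End F V, IsIsometry D D y → y ^ r = 1 → NDI D y E) ↔ X :=
  hX (by have := io_pos hr hF; rw [hc]; split_ifs <;> omega) _
    (fun h => ((quad_nd hD hE hr h2 hF hn hm he hP hQ hi hc h0 hmn hΩ).1 h).1) (by
      simpa only [Nat.even_iff, Nat.odd_iff] using quad_nd' hD hE hr h2 hF hn hm he hP hQ hi hc h0 hmn)

/-- A nonsingular point. -/
def NS (D : Form (quadKind F) V) (U : Submodule F V) : Prop :=
  finrank F U = 1 ∧ ∃ v ∈ U, D.Q v ≠ 0

omit [Finite F] in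
theorem NS.exists_span (h : NS D U) : ∃ v, v ≠ 0 ∧ D.Q v ≠ 0 ∧ U = F ∙ v := by
  obtain ⟨h1, v, h2, h3⟩ := h
  have h0 : v ≠ 0 := fun e => h3 (by simp [e])
  exact ⟨v, h0, h3, (Submodule.eq_of_le_of_finrank_eq ((Submodule.span_singleton_le_iff_mem _ _).2
    h2) (by rw [finrank_span_singleton h0, h1])).symm⟩

omit [Finite F] in
theorem NS.le_eig (h : NS D U) (h2 : (2 : F) = 0) (hx : IsIsometry D D x) (hU : Inv x U) :
    U ≤ eig x 1 := by
  obtain ⟨v, -, h1, rfl⟩ := h.exists_span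
  obtain ⟨c, hc⟩ := Submodule.mem_span_singleton.1 (hU v (Submodule.mem_span_singleton_self v))
  have := hx.Q_map v
  rw [← hc, D.Q_smul, mul_left_eq_self₀, or_iff_left h1] at this
  rw [Submodule.span_singleton_le_iff_mem, mem_eig, ← hc,
    eq_of_sq_eq_two h2 (a := c) (b := 1) (by simpa [sq] using this)]

theorem NS.iso (h : NS D U) (h' : NS D U') (h2 : (2 : F) = 0) :
    (D.restrict U).Iso (D.restrict U') := by
  obtain ⟨v, h0, h1, rfl⟩ := h.exists_span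
  obtain ⟨w, h3, h4, rfl⟩ := h'.exists_span
  have : CharP F 2 := CharTwo.of_one_ne_zero_of_two_eq_zero one_ne_zero h2
  obtain ⟨c, hc⟩ := exists_char_root 2 (D.Q v / D.Q w)
  have h5 : c ≠ 0 := by rintro rfl; simp [eq_comm (a := (0 : F)), h1, h4] at hc
  rw [← Submodule.span_singleton_smul_eq h5.isUnit w]
  exact iso_span_singleton h0 (smul_ne_zero h5 h3) (by rw [D.Q_smul]; simp [← sq, hc, h4])

theorem ns_odd (h2 : (2 : F) = 0) (hD : D.Nondeg) (hr : r.Prime) (hF : (r : F) ≠ 0)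
    (hΩ : r ∣ Nat.card {U // NS D U}) :
    ¬ ∀ y : End F V, IsIsometry D D y → y ^ r = 1 → ∃ U, NS D U ∧ Inv y U := fun H => by
  obtain ⟨y, h1, -, U, h3, h4, h5⟩ := exists_not_le_eig hD hr hF _ (fun g U ⟨a, v, b, c⟩ =>
    ⟨(finrank_map_equiv g.1 U).trans a, _, Submodule.mem_map_of_mem b, by
      rwa [(isIsometry_nat g).Q_map]⟩) (fun _ _ h h' => h.iso h' h2) hΩ H
  exact h5 (h3.le_eig h2 h1 h4)

theorem ns_two (h2 : (2 : F) = 0) (hD : D.Nondeg) (hn : finrank F V = 2 * d) (hd : 3 ≤ d) :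
    AllE (Om D) 2 (fun x => ∃ U, NS D U ∧ Inv x U) ↔ Odd d ∨ ¬ D.HasTS d := by
  haveI := nontrivial_of_finrank_pos (R := F) (M := V) (by omega)
  have hC := c2_quad h2 hD
  rw [allE_char_two hD h2 fun _ h => h.isIsometry, ← Nat.not_even_iff_odd, ← not_and_or]
  refine ⟨fun H ⟨⟨k, h3⟩, h4⟩ => ?_, fun H x h3 h4 => ?_⟩
  · obtain ⟨x, a, b, c⟩ := hC.exists_al (k := k) (by rwa [two_mul, ← h3])
    obtain ⟨U, h5, h6⟩ := H x ((om_iff_even h2 hD (by omega) a.iso).2 ⟨k, by omega⟩) a.sq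
    have h7 := h5.le_eig h2 a.iso h6
    obtain ⟨-, v, h8, h9⟩ := h5
    obtain ⟨g, rfl⟩ := exists_nat hD a.iso
    have := finrank_eig_add_rng (nat D g) 1
    have e : supp g.1 = eig (nat D g) 1 := Submodule.eq_of_le_of_finrank_eq (fun v hv =>
      mem_eig.2 ((hD.mem_perp_supp.1 (hD.supp_le_perp h2 (iv_nat.1 a) hv)).trans (one_smul F v).symm))
      (by rw [← rk_nat]; rw [rk] at b ⊢; omega)
    exact h9 (((Quad.altI_iff h2).1 c).1 v (e ▸ h7 h8))
  · have a : Iv D x := ⟨h3.isIsometry, h4⟩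
    obtain ⟨g, rfl⟩ := exists_nat hD a.iso
    obtain ⟨v, h5, h6⟩ := Quad.exists_nonsing h2 hD (iv_nat.1 a) fun ⟨b, c⟩ => H (by
      obtain ⟨k, h7, h8⟩ := hC.of_al a c
      rw [rk_nat] at h7
      obtain rfl : d = 2 * k := by omega
      exact ⟨even_two_mul k, h8⟩)
    refine ⟨F ∙ v, ⟨finrank_span_singleton fun e => h6 (by simp [e]), v,
      Submodule.mem_span_singleton_self v, h6⟩, Inv.of_le_eig (c := 1) ?_⟩
    rw [Submodule.span_singleton_le_iff_mem, mem_eig, one_smul]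
    exact hD.mem_perp_supp.1 h5

section OSp

variable {A : Form (altKind F) V} (h2 : (2 : F) = 0) (hD : D.Nondeg)
  (hB : ∀ u v, D.B u v = A.B u v) {H : Subgroup A.isom}
  (hH : ∀ g, g ∈ H ↔ ∀ v, D.Q (g.1 v) = D.Q v)
include h2 hD hB hH

theorem osp_odd (hr : r.Prime) (hF : (r : F) ≠ 0) (hΩ : r ∣ H.index) :
    ¬ ∀ x : A.isom, x ^ r = 1 → ∃ g, g⁻¹ * x * g ∈ H := fun hh => by
  have hA : A.Nondeg := fun v h => hD v fun w => (hB v w).trans (h w)
  obtain ⟨y, h1, h3, h4⟩ := exists_min_fix hA hr hF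
  obtain ⟨y, rfl⟩ := exists_nat hA h1
  have h5 : y ^ r = 1 := nat_injective A (by rw [map_pow, h3, map_one])
  obtain ⟨g₀, h6⟩ := hh y h5
  have hc := orth_one (ss_of_pow' hF h3) h1
  have hB' : ∀ (g : A.isom) u v, (D.comap (nat A g)).B u v = A.B u v := fun g u v =>
    (hB _ _).trans (g.2.B_map u v)
  have hc' : ∀ g : A.isom, (D.comap (nat A g)).IsOrthCompl (eig (nat A y) 1) (rng (nat A y) 1) :=
    fun g => ⟨hc.compl, fun v hv w hw => (hB' g w v).trans (hc.orth hv w hw)⟩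
  have hQ : ∀ g : A.isom, g⁻¹ * y * g ∈ H → ∀ v, D.Q (g⁻¹.1 (y.1 v - v)) = A.B v (y.1 v) :=
    fun g hg v => by
      have := Quad.Q_nv_two h2 (D := D.comap (nat A g⁻¹)) ⟨y.1, quad_isIsometry (map_add _)
        fun v => by simpa [nat_apply] using (hH _).1 hg (g⁻¹.1 v)⟩ v
      exact this.trans (hB' _ _ _)
  have hm : ∀ g : A.isom, y • (g : A.isom ⧸ H) = g ↔ g⁻¹ * y * g ∈ H := fun g => by
    rw [MulAction.Quotient.smul_mk, eq_comm, QuotientGroup.eq, smul_eq_mul, mul_assoc]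
  refine not_dvd_of_fix (G := A.isom) (S := A.isom ⧸ H) (· • ·) (one_smul _) mul_smul
    (fun _ => True) hr (k := 1) (y := y) (fun _ _ => trivial) (by rwa [pow_one]) (extend hc) h4
    (s₀ := g₀) (fun s => ?_) (by rwa [Nat.card_subtype_true])
  obtain ⟨g, rfl⟩ := QuotientGroup.mk_surjective s
  rw [true_and]
  constructor
  · rw [hm]
    intro h7
    have h8 : ∀ v ∈ rng (nat A y) 1, D.Q (g₀⁻¹.1 v) = D.Q (g⁻¹.1 v) := fun v hv => by
      obtain ⟨u, rfl⟩ := mem_rng.1 hv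
      rw [one_smul]
      exact (hQ _ h6 u).trans (hQ _ h7 u).symm
    have hn : (D.comap (nat A g₀⁻¹)).Nondeg := fun v h => hA v fun w => (hB' _ v w).symm.trans (h w)
    have := iso_cancel (U := rng (nat A y) 1) hn ((hc' g⁻¹).symm.iso.symm.trans
      (Iso.trans ⟨g⁻¹.1, isIsometry_comap _ _⟩ (Iso.symm ⟨g₀⁻¹.1, isIsometry_comap _ _⟩)))
      ⟨LinearEquiv.refl F _, quad_isIsometry (fun _ _ => rfl) fun v => (h8 v v.2).symm⟩
    rw [← (hc' _).symm.eq_perp hn] at this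
    obtain ⟨φ, hφ⟩ := this
    let c : (A.restrict (eig (nat A y) 1)).isom := ⟨φ, alt_isIsometry fun u v =>
      (hB' g⁻¹ _ _).symm.trans ((hφ.B_map u v).trans (hB' g₀⁻¹ _ _))⟩
    refine ⟨c, ?_⟩
    rw [MulAction.Quotient.smul_mk, eq_comm, QuotientGroup.eq, smul_eq_mul, hH]
    intro v
    obtain ⟨v, rfl⟩ := (g₀⁻¹).1.surjective v
    obtain ⟨a, b, rfl⟩ := hc.exists_add v
    have e : (g⁻¹ * (extend hc c * g₀)).1 (g₀⁻¹.1 (a + b)) = g⁻¹.1 (φ a + b) := by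
      simp [extend_apply_left, extend_apply_right hc c b.2, c]
    rw [e]
    refine (((hc' g⁻¹).isIsometry.Q_map (φ a, b)).trans ?_).trans
      ((hc' g₀⁻¹).isIsometry.Q_map (a, b)).symm
    exact congrArg₂ (· + ·) (hφ.Q_map a) (h8 b b.2).symm
  · rintro ⟨c, h7⟩
    have : y * extend hc c = extend hc c * y := hc.isom_ext (fun w hw => by
      have h8 : ∀ w ∈ eig (nat A y) 1, y.1 w = w := fun w hw => (mem_eig.1 hw).trans (one_smul F w)
      rw [isom_mul_apply, isom_mul_apply, h8 w hw, extend_apply_left hc c ⟨w, hw⟩,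
        h8 _ (Subtype.mem _)]) fun w hw => by
      rw [isom_mul_apply, isom_mul_apply, extend_apply_right hc c hw]
      exact (extend_apply_right hc c (rng_inv _ _ w hw)).symm
    rw [← h7, ← mul_smul, this, mul_smul, (hm g₀).2 h6]

theorem osp_two (hn : finrank F V = 2 * d) :
    (∀ x : A.isom, x ^ 2 = 1 → ∃ g, g⁻¹ * x * g ∈ H) ↔ D.HasTS d ∨ Odd d := by
  classical
  have hA : A.Nondeg := fun v h => hD v fun w => (hB v w).trans (h w)
  have hC := c2_quad h2 hD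
  have hC' := c2_alt h2 hA
  have key : ∀ x : A.isom, x ^ 2 = 1 → ((∃ g, g⁻¹ * x * g ∈ H) ↔
      ∃ y, Iv D y ∧ rk y = rk (nat A x) ∧ (Al D y ↔ Al A (nat A x))) := fun x hx => by
    have a : Iv A (nat A x) := iv_nat.2 (by rwa [← sq])
    have b : ∀ y, Al D y ↔ Al A y := fun y => forall_congr' fun v => by rw [hB]
    constructor
    · rintro ⟨g, hg⟩
      have c := isConj_iff_isoC.1 (isConj_iff.2 ⟨g⁻¹, by rw [inv_inv]⟩ :
        _root_.IsConj x (g⁻¹ * x * g))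
      exact ⟨_, ⟨quad_isIsometry (map_add _) ((hH _).1 hg), (a.isoC c).sq⟩, (rk_isoC c).symm,
        (b _).trans (al_isoC c).symm⟩
    · rintro ⟨y, h3, h4, h5⟩
      have c : Iv A y := ⟨alt_isIsometry fun u v => by rw [← hB, ← hB, h3.iso.B_map], h3.sq⟩
      obtain ⟨k, rfl⟩ := exists_nat hA c.iso
      obtain ⟨g, rfl⟩ := isConj_iff.1 (isConj_iff_isoC.2 (hC'.isoC a c h4.symm (h5.symm.trans (b _))))
      exact ⟨g⁻¹, by rw [inv_inv]; exact (hH _).2 h3.iso.Q_map⟩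
  refine ⟨fun H => ?_, fun H x hx => (key x hx).2 ?_⟩
  · refine (Nat.even_or_odd' d).elim fun k hk => hk.elim (fun e => Or.inl ?_)
      fun e => Or.inr ⟨k, e⟩
    obtain ⟨x, a, b, c⟩ := hC'.exists_al (k := k) (Symp.hasTS hA (by omega))
    obtain ⟨x, rfl⟩ := exists_nat hA a.iso
    have hx : x ^ 2 = 1 := by rw [sq, iv_nat.1 a]
    obtain ⟨y, h3, h4, h5⟩ := (key x hx).1 (H x hx)
    obtain ⟨l, h6, h7⟩ := hC.of_al h3 (h5.2 c)
    rwa [show d = 2 * l by omega]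
  · have a : Iv A (nat A x) := iv_nat.2 (by rwa [← sq])
    have h3 := a.two_mul_le hA h2
    by_cases c : Al A (nat A x)
    · obtain ⟨k, h4, -⟩ := hC'.of_al a c
      obtain ⟨y, h5, h6, h7⟩ := hC.exists_al (k := k) ((quad_hasTS_iff hD hn).2 ⟨by omega,
        fun e => H.resolve_right (by rw [← e]; simp)⟩)
      exact ⟨y, h5, h6.trans h4.symm, iff_of_true h7 c⟩
    · obtain ⟨y, h5, h6, h7⟩ := hC.exists_iv h3
      exact ⟨y, h5, h6, h7.trans (iff_of_false (fun e => c (rk_eq_zero e ▸ hC'.alt)) c)⟩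

end OSp

end Cfsg.Lib.Elu
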