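import Cfsg.Agent.Lib.Elu.SS

/-!
Counting arguments and reduction to arithmetic for elements of odd prime order.
-/

set_option autoImplicit false

namespace Cfsg.Lib.Elu

open Module Cfsg.Lib.Forms Cfsg.Lib.Forms.Form Cfsg.Lib.Known Cfsg.Lib.Conj Polynomial

universe u

section Prof

variable {α : Type*} {δ : α → α} {Φ : Finset α} {κ t : ℕ} {M : Multiset α}

theorem exists_le_card (M : Multiset α) {j : ℕ} (h : j ≤ M.card) : ∃ N ≤ M, N.card = j := by
  induction M using Quotient.inductionOn with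
  | _ L => exact ⟨(L.take j : List α), (List.take_sublist j L).subperm, by simpa using h⟩

theorem exists_nodup_add (M : Multiset α) : ∃ A N : Multiset α, A.Nodup ∧ M = A + (N + N) := by
  classical
  induction M using Multiset.induction_on with
  | empty => exact ⟨0, 0, Multiset.nodup_zero, rfl⟩
  | cons a M ih =>
    obtain ⟨A, N, h, rfl⟩ := ih
    by_cases ha : a ∈ A
    · obtain ⟨B, rfl⟩ := Multiset.exists_cons_of_mem ha
      refine ⟨B, a ::ₘ N, (Multiset.nodup_cons.1 h).2, ?_⟩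
      simp only [← Multiset.singleton_add]; abel
    · exact ⟨a ::ₘ A, N, Multiset.nodup_cons.2 ⟨ha, h⟩, by simp⟩

/-- An involution on a finite set that is either trivial or fixed-point-free. -/
structure Prof (δ : α → α) (Φ : Finset α) (κ t : ℕ) : Prop where
  mem : ∀ a ∈ Φ, δ a ∈ Φ
  inv : ∀ a ∈ Φ, δ (δ a) = a
  ne : Φ.Nonempty
  cases : (∀ a ∈ Φ, δ a = a) ∧ κ = 1 ∧ t = Φ.card ∨ (∀ a ∈ Φ, δ a ≠ a) ∧ κ = 2 ∧ t = 0

theorem map_of_fix (h : ∀ a ∈ M, δ a = a) : M.map δ = M := by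
  conv_rhs => rw [← M.map_id]
  exact Multiset.map_congr rfl h

theorem Prof.pos (h : Prof δ Φ κ t) : 0 < κ := by rcases h.cases with h | h <;> omega

theorem Prof.map_add (h : Prof δ Φ κ t) (hM : ∀ a ∈ M, a ∈ Φ) :
    (M.map δ + M).map δ = M.map δ + M := by
  rw [Multiset.map_add, Multiset.map_map, add_comm,
    map_of_fix (δ := δ ∘ δ) fun a ha => h.inv a (hM a ha)]

theorem Prof.ts (h : Prof δ Φ κ t) (hM : ∀ a ∈ M, a ∈ Φ) (hd : M.map δ = M) :
    ∃ J o, o ≤ t ∧ M.card = 2 * J + o ∧ ∀ j ≤ J, ∃ N : Multiset α, N.map δ + N ≤ M ∧ N.card = j := by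
  rcases h.cases with ⟨h1, -, rfl⟩ | ⟨h1, -, rfl⟩
  · obtain ⟨A, N, hA, rfl⟩ := exists_nodup_add M
    refine ⟨N.card, A.card, Multiset.card_le_card ((Multiset.le_iff_subset hA).2 fun a ha =>
      hM a (Multiset.mem_add.2 (Or.inl ha))), by simp; omega, fun j hj => ?_⟩
    obtain ⟨L, h2, rfl⟩ := exists_le_card N hj
    refine ⟨L, ?_, rfl⟩
    rw [map_of_fix fun a ha => h1 a (hM a (by simp [Multiset.mem_of_le h2 ha]))]
    exact (add_le_add h2 h2).trans (Multiset.le_add_left _ _)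
  · obtain ⟨Ψ, hΨ⟩ := exists_half h.mem h.inv h1
    obtain ⟨N, -, rfl⟩ := hΨ.exists_eq hM hd
    refine ⟨N.card, 0, le_rfl, by simp; omega, fun j hj => ?_⟩
    obtain ⟨L, h2, rfl⟩ := exists_le_card N hj
    exact ⟨L, add_comm N _ ▸ add_le_add (Multiset.map_le_map h2) h2, rfl⟩

theorem Prof.ts_ex (h : Prof δ Φ κ t) (J : ℕ) {o : ℕ} (ho : o ≤ t) :
    ∃ M : Multiset α, (∀ a ∈ M, a ∈ Φ) ∧ M.map δ = M ∧ M.card = 2 * J + o ∧
      ∀ N : Multiset α, N.map δ + N ≤ M → N.card ≤ J := by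
  classical
  obtain ⟨g, hg⟩ := h.ne
  rcases h.cases with ⟨h1, -, rfl⟩ | ⟨h1, -, rfl⟩
  · obtain ⟨A, hA, rfl⟩ := exists_le_card Φ.val ho
    have h2 : ∀ a ∈ A + (Multiset.replicate J g + Multiset.replicate J g), a ∈ Φ := fun a ha => by
      rcases Multiset.mem_add.1 ha with ha | ha
      · exact Multiset.mem_of_le hA ha
      · rw [← Multiset.replicate_add] at ha
        exact Multiset.eq_of_mem_replicate ha ▸ hg
    refine ⟨_, h2, map_of_fix fun a ha => h1 a (h2 a ha), by simp; omega, fun N hN => ?_⟩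
    rw [map_of_fix fun a ha => h1 a (h2 a (Multiset.mem_of_le hN (by simp [ha])))] at hN
    refine (Multiset.card_le_card (Multiset.le_iff_count.2 fun a => ?_)).trans
      (Multiset.card_replicate J g).le
    have h3 := Multiset.le_iff_count.1 hN a
    have h4 := Multiset.nodup_iff_count_le_one.1 (Multiset.nodup_of_le hA Φ.nodup) a
    simp only [Multiset.count_add] at h3
    omega
  · have h2 : ∀ a ∈ Multiset.replicate J g, a ∈ Φ := fun a ha =>
      Multiset.eq_of_mem_replicate ha ▸ hg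
    refine ⟨_, fun a ha => ?_, h.map_add h2, by simp; omega, fun N hN => ?_⟩
    · rcases Multiset.mem_add.1 ha with ha | ha
      · obtain ⟨b, hb, rfl⟩ := Multiset.mem_map.1 ha
        exact h.mem b (h2 b hb)
      · exact h2 a ha
    · have := Multiset.card_le_card hN
      simp at this; omega

theorem Prof.nd (h : Prof δ Φ κ t) (hM : ∀ a ∈ M, a ∈ Φ) (hd : M.map δ = M) :
    ∃ a, M.card = κ * a ∧ ∀ j ≤ a, ∃ N ≤ M, N.map δ = N ∧ N.card = κ * j := by
  rcases h.cases with ⟨h1, rfl, -⟩ | ⟨h1, rfl, rfl⟩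
  · refine ⟨M.card, by simp, fun j hj => ?_⟩
    obtain ⟨L, h2, rfl⟩ := exists_le_card M hj
    exact ⟨L, h2, map_of_fix fun a ha => h1 a (hM a (Multiset.mem_of_le h2 ha)), by simp⟩
  · obtain ⟨J, o, ho, h2, h3⟩ := h.ts hM hd
    refine ⟨J, by omega, fun j hj => ?_⟩
    obtain ⟨N, h4, rfl⟩ := h3 j hj
    exact ⟨_, h4, h.map_add fun a ha => hM a (Multiset.mem_of_le h4 (by simp [ha])),
      by simp; omega⟩

theorem Prof.nd_ex (h : Prof δ Φ κ t) (a : ℕ) :
    ∃ M : Multiset α, (∀ a ∈ M, a ∈ Φ) ∧ M.map δ = M ∧ M.card = κ * a := by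
  rcases h.cases with ⟨h1, rfl, -⟩ | ⟨h1, rfl, rfl⟩
  · obtain ⟨g, hg⟩ := h.ne
    exact ⟨Multiset.replicate a g, fun b hb => Multiset.eq_of_mem_replicate hb ▸ hg,
      by simp [h1 g hg], by simp⟩
  · obtain ⟨M, h2, h3, h4, -⟩ := h.ts_ex a le_rfl
    exact ⟨M, h2, h3, h4⟩

end Prof

variable {F : Type*} [Field F] {σ : F →+* F} {K : Kind σ} {V V' W W' : Type*}
  [AddCommGroup V] [Module F V] [AddCommGroup V'] [Module F V']
  [AddCommGroup W] [Module F W] [AddCommGroup W'] [Module F W']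
  {D : Form K V} {D' : Form K V'} {E : Form K W} {E' : Form K W'} {x y : End F V}
  {U U' : Submodule F V} {r m l κ t : ℕ}

theorem isIsometry_nat (g : D.isom) : IsIsometry D D (nat D g) := g.2

theorem exists_nat [FiniteDimensional F V] (hD : D.Nondeg) (hx : IsIsometry D D x) :
    ∃ g : D.isom, nat D g = x := ⟨D.mkIsom hD x hx, rfl⟩

theorem exists_sub_of_iso (h : (E.prod E').Iso D) : ∃ A : Submodule F V, (D.restrict A).Iso E :=
  let ⟨_, he⟩ := h; ⟨_, ((iso_restrict_inl E E').trans (he.iso_restrict _)).symm⟩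

section Sylow

variable (K) in
/-- Nondegenerate spaces of dimension at least `s` have a multiple of `p` singular vectors. -/
def Sg (p s : ℕ) : Prop := ∀ (V : Type u) [AddCommGroup V] [Module F V] [FiniteDimensional F V]
  (D : Form K V), D.Nondeg → s ≤ finrank F V → p ∣ Nat.card {v // D.Q v = 0}

theorem exists_fixed_TS [Finite F] {p s : ℕ} [Fact p.Prime] (hS : Sg.{u} K p s) {P : Type*}
    [Group P] (hP : IsPGroup p P) (m : ℕ) {V : Type u} [AddCommGroup V] [Module F V]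
    [FiniteDimensional F V] {D : Form K V} (hD : D.Nondeg) (φ : P →* D.isom)
    (h : 2 * m + s ≤ finrank F V + 2) :
    ∃ U : Submodule F V, finrank F U = m ∧ D.IsTS U ∧ ∀ g, Inv (nat D (φ g)) U := by
  induction m generalizing V with
  | zero => exact ⟨⊥, finrank_bot F V, isTS_bot, fun g v hv => by simp_all⟩
  | succ m ih =>
    haveI : Finite V := Module.finite_of_finite F
    letI : MulAction P {v // D.Q v = 0} := MulAction.compHom _ ((D.permHom 0).comp φ)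
    obtain ⟨⟨e, he⟩, h1, h2⟩ := hP.exists_fixed_point_of_prime_dvd_card_of_fixed_point _
      (hS V D hD (by omega)) (a := ⟨0, D.Q_zero⟩) fun g => Subtype.ext (map_zero (φ g).1)
    have h3 : ∀ g, (φ g).1 e = e := fun g => congrArg Subtype.val (h1 g)
    obtain ⟨f, hf⟩ := hD.exists_isHyp he fun h => h2 (Subtype.ext h.symm)
    have h4 := hf.isDual
    let ψ : P →* D.stab (F ∙ e) := φ.codRestrict _ fun g => D.fix_le_stab _
      (D.mem_fix_span.2 fun _ h => h ▸ h3 g)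
    have h5 := h4.finrank_perp hD
    rw [finrank_span_singleton hf.e_ne_zero] at h5
    obtain ⟨Y, h6, h7, h8⟩ := ih (h4.nondeg_perp hD) ((leviProj hD h4).comp ψ) (by omega)
    have h9 : ∀ v ∈ Y.map (D.perp ((F ∙ e) ⊔ F ∙ f)).subtype, v ∈ D.hp e f := by
      rintro _ ⟨v, -, rfl⟩
      exact perp_sup_span (D := D) e f ▸ v.2
    refine ⟨Y.map (D.perp ((F ∙ e) ⊔ F ∙ f)).subtype ⊔ F ∙ e, ?_,
      (h7.map (D.isIsometry_comap _)).sup_span he (D.mem_perp'.2 fun w hw =>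
        (D.mem_hp.1 (h9 w hw)).1), fun g v hv => ?_⟩
    · rw [Submodule.finrank_sup_span_singleton fun h => hf.not_mem_hp (h9 e h),
        Submodule.finrank_map_subtype_eq, h6]
    · obtain ⟨_, ⟨a, ha, rfl⟩, b, hb, rfl⟩ := Submodule.mem_sup.1 hv
      rw [map_add]
      refine Submodule.add_mem _ ?_ (Submodule.mem_sup_right ((D.mem_stab.1 (ψ g).2 b).1 hb))
      have := Submodule.add_mem_sup (Submodule.mem_map_of_mem (f := Submodule.subtype _)
        (h8 g a ha)) (leviProj_spec hD h4 (ψ g) a)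
      convert this using 1
      exact (add_sub_cancel _ _).symm

theorem not_char_dvd_TS [Finite F] {p s : ℕ} [Fact p.Prime] (hS : Sg.{u} K p s) {V : Type u}
    [AddCommGroup V] [Module F V] [FiniteDimensional F V] {D : Form K V} (hD : D.Nondeg)
    (h : 2 * m + s ≤ finrank F V + 2) :
    ¬ p ∣ Nat.card {U : Submodule F V // finrank F U = m ∧ D.IsTS U} := fun hd => by
  haveI : Finite V := Module.finite_of_finite F
  haveI := D.finite_isom
  obtain ⟨P⟩ : Nonempty (Sylow p D.isom) := inferInstance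
  obtain ⟨U, h1, h2, h3⟩ := exists_fixed_TS hS P.isPGroup' m hD (P : Subgroup D.isom).subtype h
  have h4 := h2.card_mul_card_stab hD h1
  rw [← (D.stab U).index_mul_card, Nat.mul_left_inj Nat.card_pos.ne'] at h4
  exact P.not_dvd_index ((h4 ▸ hd).trans (Subgroup.index_dvd_of_le fun g hg =>
    D.mem_stab_of_mapsTo (h3 ⟨g, hg⟩)))

variable [Finite F] (p : ℕ) [Fact p.Prime] [CharP F p]

theorem char_dvd_card : p ∣ Nat.card F := by
  haveI := Fintype.ofFinite F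
  rw [Nat.card_eq_fintype_card]
  exact (CharP.cast_eq_zero_iff F p _).1 (FiniteField.cast_card_eq_zero F)

theorem sg_alt : Sg.{u} (altKind F) p 1 := fun V _ _ _ D _ h => by
  rw [Nat.card_congr (Equiv.subtypeUnivEquiv (alt_Q D)), Module.natCard_eq_pow_finrank (K := F)]
  exact (char_dvd_card p).trans (dvd_pow_self _ (by omega))

theorem sg_quad : Sg.{u} (quadKind F) p 3 := fun V _ _ _ D hD h => by
  classical
  refine (char_dvd_card (F := F) p).trans ?_
  obtain ⟨k, hk | hk⟩ := Nat.even_or_odd' (finrank F V)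
  · have h1 := Quad.card_Q_eq_even hD hk 0
    obtain ⟨k, rfl⟩ : ∃ j, k = j + 2 := ⟨k - 2, by omega⟩
    have h2 : (Nat.card F : ℤ) ≠ 0 := by have := two_le_card (F := F); omega
    refine Int.natCast_dvd_natCast.1 ((mul_dvd_mul_iff_left h2).1 (h1 ▸ dvd_add ?_ ?_))
    · exact ⟨(Nat.card F : ℤ) ^ (2 * k + 2), by ring⟩
    · exact Dvd.dvd.mul_left ⟨(Nat.card F : ℤ) ^ k, by ring⟩ _
  · rw [Quad.card_Q_eq_zero_odd hD hk]
    exact dvd_pow_self _ (by omega)

theorem sg_herm {q : ℕ} (h : IsConj σ q) : Sg.{u} h.kind p 2 := fun V _ _ _ D hD hn => by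
  classical
  have h0 : p ∣ q := (Fact.out : p.Prime).dvd_of_dvd_pow (h.card ▸ char_dvd_card p)
  refine h0.trans ?_
  have h1 := Herm.card_Q_eq hD (c := 0) (map_zero σ)
  obtain ⟨k, hk⟩ : ∃ j, finrank F V = j + 2 := ⟨finrank F V - 2, by omega⟩
  have h2 : (q : ℤ) ≠ 0 := by have := h.two_le; omega
  rw [hk] at h1
  refine Int.natCast_dvd_natCast.1 ((mul_dvd_mul_iff_left h2).1 (h1 ▸ dvd_add ?_ ?_))
  · exact ⟨q ^ (2 * k + 2), by ring⟩
  · exact Dvd.dvd.mul_left ⟨(-q : ℤ) ^ k, by ring⟩ _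

end Sylow

variable [Finite F] [FiniteDimensional F V]

theorem exists_min_fix (hD : D.Nondeg) (hr : r.Prime) (hF : (r : F) ≠ 0) :
    ∃ y : End F V, IsIsometry D D y ∧ y ^ r = 1 ∧
      ¬ r ∣ Nat.card (D.restrict (eig y 1)).isom := by
  haveI := Fact.mk hr
  obtain ⟨y, ⟨h1, h2⟩, h3⟩ := (wellFounded_lt.onFun (f := fun y : End F V =>
    finrank F (eig y 1))).has_min {y | IsIsometry D D y ∧ y ^ r = 1}
    ⟨1, ⟨fun _ _ => rfl, fun _ => rfl⟩, one_pow _⟩
  refine ⟨y, h1, h2, fun hd => ?_⟩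
  haveI : Finite (eig y 1) := Module.finite_of_finite F
  haveI := (D.restrict (eig y 1)).finite_isom
  obtain ⟨g, hg⟩ := exists_prime_orderOf_dvd_card' r hd
  have hc := orth_one (ss_of_pow' hF h2) h1
  set z := nat D (extend hc g) with hz
  have h4 : ∀ v : eig y 1, z v = g.1 v := extend_apply_left hc g
  have h5 : ∀ v ∈ rng y 1, z v = v := fun v hv => extend_apply_right hc g hv
  have h6 : ∀ v ∈ eig y 1, y v = v := fun v hv => by rw [mem_eig.1 hv, one_smul]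
  have h7 : Commute y z := isCompl_ext hc.compl (fun v hv => by
    rw [Module.End.mul_apply, Module.End.mul_apply, h6 v hv, h4 ⟨v, hv⟩, h6 _ (g.1 _).2])
    fun v hv => by
      rw [Module.End.mul_apply, Module.End.mul_apply, h5 v hv, h5 _ (rng_inv y 1 v hv)]
  refine h3 (y * z) ⟨h1.comp (isIsometry_nat _), by
    rw [h7.mul_pow, h2, one_mul, hz, ← map_pow, ← map_pow, ← hg, pow_orderOf_eq_one, map_one,
      map_one]⟩ (Submodule.finrank_lt_finrank_of_lt (lt_of_le_of_ne (fun v hv => ?_) fun h => ?_))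
  · obtain ⟨a, b, rfl⟩ := hc.exists_add v
    rw [mem_eig, one_smul, Module.End.mul_apply, map_add, h4, h5 _ b.2, map_add,
      h6 _ (g.1 a).2] at hv
    have h8 : y b - b = 0 := Submodule.disjoint_def.1 hc.compl.disjoint _
      (by rw [show y b - b = a - g.1 a by
          rw [sub_eq_sub_iff_add_eq_add, add_comm, hv]]
          exact Submodule.sub_mem _ a.2 (g.1 a).2)
      (Submodule.sub_mem _ (rng_inv y 1 _ b.2) b.2)
    exact Submodule.add_mem _ a.2 (mem_eig.2 (by rw [one_smul, sub_eq_zero.1 h8]))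
  · refine hr.one_lt.ne' (hg ▸ orderOf_eq_one_iff.2 (isom_ext fun v => Subtype.ext ?_))
    have := mem_eig.1 (h.ge v.2)
    rwa [one_smul, Module.End.mul_apply, h4, h6 _ (g.1 v).2] at this

theorem exists_not_le_eig (hD : D.Nondeg) (hr : r.Prime) (hF : (r : F) ≠ 0)
    (P : Submodule F V → Prop) (hP : ∀ (g : D.isom) U, P U → P (U.map (nat D g)))
    (ht : ∀ U U', P U → P U' → (D.restrict U).Iso (D.restrict U'))
    (hΩ : r ∣ Nat.card {U // P U})
    (H : ∀ y : End F V, IsIsometry D D y → y ^ r = 1 → ∃ U, P U ∧ Inv y U) :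
    ∃ y : End F V, IsIsometry D D y ∧ y ^ r = 1 ∧ ∃ U, P U ∧ Inv y U ∧ ¬ U ≤ eig y 1 := by
  obtain ⟨y, h1, h2, h3⟩ := exists_min_fix hD hr hF
  refine ⟨y, h1, h2, ?_⟩
  by_contra h
  push Not at h
  obtain ⟨U, h4, h5⟩ := H y h1 h2
  have hc := orth_one (ss_of_pow' hF h2) h1
  have hu := isUnit_of_pow hr h2
  refine not_dvd_of_fix (G := End F V) (fun g U => U.map g) Submodule.map_id
    (fun g h s => by simp [Module.End.mul_eq_comp, Submodule.map_comp]) P hr (k := 1) (y := y)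
    (fun s hs => ?_) (by rwa [pow_one]) ((nat D).comp (extend hc)) h3 (s₀ := U)
    (fun T => ⟨fun ⟨h6, h7⟩ => ?_, ?_⟩) hΩ
  · obtain ⟨g, rfl⟩ := exists_nat hD h1
    exact hP g s hs
  · have h8 := h T h6 ((map_eq_iff_inv hu).1 h7)
    have e : ∀ T ≤ eig y 1, ((D.restrict (eig y 1)).restrict (T.comap (eig y 1).subtype)).Iso
        (D.restrict T) := fun T hT => (iso_restrict_restrict _ _).trans (iso_restrict_of_eq (by
          rw [Submodule.map_comap_subtype, inf_eq_right.2 hT]))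
    obtain ⟨φ, hφ⟩ := (e U (h U h4 h5)).trans ((ht U T h4 h6).trans (e T h8).symm)
    obtain ⟨g, -, hg⟩ := (hc.nondeg_left hD).exists_map_eq φ hφ
    exact ⟨g, map_eq_of_comap g.1 (extend_apply_left hc g) (h U h4 h5) h8 hg⟩
  · rintro ⟨g, rfl⟩
    refine ⟨hP _ U h4, (map_eq_iff_inv hu).2 (Inv.of_le_eig (c := 1) ?_)⟩
    rintro _ ⟨v, hv, rfl⟩
    exact (extend_apply_left hc g ⟨v, h U h4 h5 hv⟩).symm ▸ (g.1 _).2

omit [Finite F] in
theorem iso_of_isTS (h : D.IsTS U) (h' : D.IsTS U') (hn : finrank F U = finrank F U') :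
    (D.restrict U).Iso (D.restrict U') :=
  ⟨LinearEquiv.ofFinrankEq U U' hn, fun a b => (h'.2 _ (Subtype.mem _) _ (Subtype.mem _)).trans
    (h.2 _ a.2 _ b.2).symm, fun a => (h'.1 _ (Subtype.mem _)).trans (h.1 _ a.2).symm⟩

theorem io_le_of_all_ts (hD : D.Nondeg) (hr : r.Prime) (hF : (r : F) ≠ 0)
    (hΩ : r ∣ Nat.card {U : Submodule F V // finrank F U = m ∧ D.IsTS U})
    (H : ∀ y : End F V, IsIsometry D D y → y ^ r = 1 → TSI D y m) : io r F ≤ m := by
  obtain ⟨y, -, h2, U, h3, h4, h5⟩ := exists_not_le_eig hD hr hF _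
    (fun g U h => ⟨(finrank_map_equiv g.1 U).trans h.1, h.2.map (isIsometry_nat g)⟩)
    (fun U U' h h' => iso_of_isTS h.2 h'.2 (h.1.trans h'.1.symm)) hΩ fun y a b =>
      let ⟨U, c, d, e⟩ := H y a b; ⟨U, ⟨c, d⟩, e⟩
  exact not_lt.1 fun h => h5 (le_eig_of_lt hr hF h2 h4 (h3.1 ▸ h))

theorem le_of_all_nd (hD : D.Nondeg) (hE : E.Nondeg) (hr : r.Prime) (hF : (r : F) ≠ 0)
    (hP : Prof (pd σ) (Phi r F) κ t)
    (hΩ : r ∣ Nat.card {U : Submodule F V // (D.restrict U).Iso E})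
    (H : ∀ y : End F V, IsIsometry D D y → y ^ r = 1 → NDI D y E) :
    io r F * κ ≤ finrank F W := by
  obtain ⟨y, h1, h2, U, h3, h4, h5⟩ := exists_not_le_eig hD hr hF _
    (fun g U h => ((isIsometry_nat g).iso_restrict (e := g.1) U).symm.trans h)
    (fun U U' h h' => h.trans h'.symm) hΩ H
  have h6 := restrict_pow_eq_one h4 h2
  have h7 := ss_of_pow' hF h6
  obtain ⟨a, ha, -⟩ := hP.nd (fac_mem_Phi hr hF h6)
    (map_pd_fac (h3.symm.nondeg hE) (isIsometry_restrict h1 h4) h7)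
  have h8 := io_mul_le hr hF h6
  rw [ha, h3.finrank_eq] at h8
  refine le_trans (Nat.mul_le_mul_left _ (Nat.le_mul_of_pos_right _ (Nat.pos_of_ne_zero ?_))) h8
  rintro rfl
  refine h5 fun v hv => mem_eig.2 ?_
  rw [one_smul]
  exact congrArg Subtype.val (LinearMap.congr_fun ((fac_eq_zero_iff h7).1
    (Multiset.card_eq_zero.1 ha)) ⟨v, hv⟩)

variable (D r) in
/-- The types of elements of order dividing `r` that occur. -/
def Rz (R : ℕ → Prop) : Prop := ∀ M : Multiset F[X], (∀ g ∈ M, g ∈ Phi r F) →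
  (M.map (pd σ) = M ∧ R M.card ↔ ∃ g : D.isom, nat D g ^ r = 1 ∧ fac (nat D g) = M)

theorem Rz.of_pow {R : ℕ → Prop} (h : Rz D r R) (hD : D.Nondeg) (hr : r.Prime) (hF : (r : F) ≠ 0)
    (hy : IsIsometry D D y) (h1 : y ^ r = 1) : R (fac y).card := by
  obtain ⟨g, rfl⟩ := exists_nat hD hy
  exact ((h _ (fac_mem_Phi hr hF h1)).2 ⟨g, h1, rfl⟩).2

theorem tsi_iff_of_pow (hD : D.Nondeg) (hr : r.Prime) (h2 : r ≠ 2) (hF : (r : F) ≠ 0)
    (hy : IsIsometry D D y) (h1 : y ^ r = 1) : TSI D y m ↔ ∃ (N : Multiset F[X]) (l : ℕ),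
      N.map (pd σ) + N ≤ fac y ∧ (D.restrict (eig y 1)).HasTS l ∧ l + io r F * N.card = m := by
  rw [ts_iff hD hy (ss_of_pow' hF h1) (fix_of_neg_of_odd (hr.odd_of_ne_two h2) h1)]
  refine exists₂_congr fun N l => and_congr_right fun h => ?_
  rw [sum_of_Phi hr hF fun g hg => fac_mem_Phi hr hF h1 g
    (Multiset.mem_of_le h (Multiset.mem_add.2 (Or.inr hg)))]

theorem all_ts_iff (hD : D.Nondeg) (hr : r.Prime) (h2 : r ≠ 2) (hF : (r : F) ≠ 0)
    (hP : Prof (pd σ) (Phi r F) κ t) {R : ℕ → Prop} (hR : Rz D r R) (H : ℕ → ℕ → Prop)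
    (hH : ∀ y : End F V, IsIsometry D D y → y ^ r = 1 → ∀ l,
      (D.restrict (eig y 1)).HasTS l ↔ H (fac y).card l) :
    (∀ y : End F V, IsIsometry D D y → y ^ r = 1 → TSI D y m) ↔
      ∀ J o, o ≤ t → R (2 * J + o) → ∃ j ≤ J, ∃ l, l + io r F * j = m ∧ H (2 * J + o) l := by
  refine ⟨fun h J o ho h1 => ?_, fun h y hy h1 => ?_⟩
  · obtain ⟨M, a, b, c, d⟩ := hP.ts_ex J ho
    obtain ⟨g, hg, rfl⟩ := (hR M a).1 ⟨b, c ▸ h1⟩
    obtain ⟨N, l, e, f, k⟩ := (tsi_iff_of_pow hD hr h2 hF (isIsometry_nat g) hg).1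
      (h _ (isIsometry_nat g) hg)
    exact ⟨_, d N e, l, k, c ▸ (hH _ (isIsometry_nat g) hg l).1 f⟩
  · obtain ⟨J, o, a, b, c⟩ := hP.ts (fac_mem_Phi hr hF h1) (map_pd_fac hD hy (ss_of_pow' hF h1))
    obtain ⟨j, hj, l, d, e⟩ := h J o a (b ▸ hR.of_pow hD hr hF hy h1)
    obtain ⟨N, f, rfl⟩ := c j hj
    exact (tsi_iff_of_pow hD hr h2 hF hy h1).2 ⟨N, l, f, (hH y hy h1 l).2 (b ▸ e), d⟩

theorem all_nd_iff (hD : D.Nondeg) (hE : E.Nondeg) (hr : r.Prime) (h2 : r ≠ 2) (hF : (r : F) ≠ 0)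
    (hP : Prof (pd σ) (Phi r F) κ t) {R : ℕ → Prop} (hR : Rz D r R) (H : ℕ → ℕ → Prop)
    (hH : ∀ y : End F V, IsIsometry D D y → y ^ r = 1 → ∀ (B : Submodule F V) (hB : Inv y B),
      (D.restrict B).Nondeg → IsUnit (y.restrict hB - 1 : End F B) →
      ((∃ A : Submodule F (eig y 1), ((D.restrict (eig y 1)).restrict A).Nondeg ∧
        E.Iso (((D.restrict (eig y 1)).restrict A).prod (D.restrict B))) ↔
        H (fac y).card (fac (y.restrict hB)).card)) :
    (∀ y : End F V, IsIsometry D D y → y ^ r = 1 → NDI D y E) ↔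
      ∀ a, R (κ * a) → ∃ j ≤ a, H (κ * a) (κ * j) := by
  refine ⟨fun h a h1 => ?_, fun h y hy h1 => ?_⟩
  · obtain ⟨M, b, c, d⟩ := hP.nd_ex a
    obtain ⟨g, hg, rfl⟩ := (hR M b).1 ⟨c, d ▸ h1⟩
    have hs := ss_of_pow' hF hg
    obtain ⟨A, B, hB, e, f, i, k⟩ := nd_decomp hE (isIsometry_nat g) hs (h _ (isIsometry_nat g) hg)
    obtain ⟨j, hj, -⟩ := hP.nd (fac_mem_Phi hr hF (restrict_pow_eq_one hB hg))
      (map_pd_fac f (isIsometry_restrict (isIsometry_nat g) hB) (ss_restrict hs hB))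
    have := Multiset.card_le_card (fac_restrict_le hs hB)
    rw [hj, d] at this
    exact ⟨j, Nat.le_of_mul_le_mul_left this hP.pos,
      d ▸ hj ▸ (hH _ (isIsometry_nat g) hg B hB f i).1 ⟨A, e, k⟩⟩
  · have hs := ss_of_pow' hF h1
    obtain ⟨a, b, c⟩ := hP.nd (fac_mem_Phi hr hF h1) (map_pd_fac hD hy hs)
    obtain ⟨j, hj, d⟩ := h a (b ▸ hR.of_pow hD hr hF hy h1)
    obtain ⟨N, e, f, g⟩ := c j hj
    obtain ⟨B, hB, i, k, rfl, n⟩ := nd_build hD hy hs
      (fix_of_neg_of_odd (hr.odd_of_ne_two h2) h1) e f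
    obtain ⟨A, -, o⟩ := (hH y hy h1 B hB i k).2 (b ▸ g ▸ d)
    exact (n A).iso o.symm

omit [FiniteDimensional F V] in
theorem prof_of (hσ : ∀ a, σ (σ a) = a) (hr : r.Prime) (hF : (r : F) ≠ 0) (c : Prop) [Decidable c]
    (h : ∀ g ∈ Phi r F, pd σ g = g ↔ c) :
    Prof (pd σ) (Phi r F) (if c then 1 else 2) (if c then (r - 1) / io r F else 0) := by
  refine ⟨fun g hg => pd_mem_Phi hσ hr hg, fun g hg => pd_pd hσ (mem_Phi.1 hg).2.1,
    exists_mem_Phi hr hF, ?_⟩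
  split_ifs with hc
  · exact Or.inl ⟨fun g hg => (h g hg).2 hc, rfl, by
      rw [← card_Phi hr hF, Nat.mul_div_cancel _ (io_pos hr hF)]⟩
  · exact Or.inr ⟨fun g hg e => hc ((h g hg).1 e), rfl, rfl⟩

end Cfsg.Lib.Elu
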