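import Cfsg.Agent.Lib.Elu.Unp
import Cfsg.Agent.Lib.Max.SL

/-!
Conjugacy into subgroups of the special linear group; diagonalizable elements.
-/

set_option autoImplicit false

namespace Cfsg.Lib.Elu

open Module Cfsg.Lib.Forms Cfsg.Lib.Forms.Form Cfsg.Lib.Known Cfsg.Lib.Conj Polynomial

variable {F : Type*} [Field F] {V V' : Type*} [AddCommGroup V] [Module F V] [AddCommGroup V']
  [Module F V'] {x y : End F V} {r n : ℕ} {H H' : End F V → Prop}

/-- `x` is similar to a member of `H`. -/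
def GC (H : End F V → Prop) (x : End F V) : Prop := ∃ h, H h ∧ Sim h x

/-- `x` is conjugate to a member of `H` by a map of determinant one. -/
def SC (H : End F V → Prop) (x : End F V) : Prop :=
  ∃ h, H h ∧ ∃ g : V ≃ₗ[F] V, LinearMap.det (g : End F V) = 1 ∧ ∀ v, g (h v) = x (g v)

/-- The centralizer of `x` has all determinants. -/
def DS (x : End F V) : Prop :=
  ∀ a : F, a ≠ 0 → ∃ c : End F V, IsUnit c ∧ Commute c x ∧ LinearMap.det c = a

/-- `H` is closed under scalars. -/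
def Sc (H : End F V → Prop) : Prop := ∀ x (c : F), c ≠ 0 → H x → H (c • x)

theorem SC.gc (h : SC H x) : GC H x := let ⟨a, h1, g, _, h2⟩ := h; ⟨a, h1, g, h2⟩

theorem GC.sim (h : GC H x) (e : Sim x y) : GC H y := let ⟨a, h1, h2⟩ := h; ⟨a, h1, h2.trans e⟩

theorem GC.of (h : H x) : GC H x := ⟨x, h, .refl x⟩

theorem SC.of (h : H x) : SC H x := ⟨x, h, 1, by simp [LinearEquiv.one_eq_refl], fun _ => rfl⟩

theorem sim_smul {y : End F V'} (h : Sim x y) (c : F) : Sim (c • x) (c • y) :=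
  let ⟨e, he⟩ := h; ⟨e, fun v => by simp [he]⟩

theorem Sc.gc (hH : Sc H) : Sc (GC H) := fun _ c hc ⟨a, h1, h2⟩ =>
  ⟨c • a, hH a c hc h1, sim_smul h2 c⟩

theorem Sc.sc (hH : Sc H) : Sc (SC H) := fun _ c hc ⟨a, h1, g, h2, h3⟩ =>
  ⟨c • a, hH a c hc h1, g, h2, fun v => by simp [h3]⟩

theorem Sc.iff (hH : Sc H) {c : F} (hc : c ≠ 0) : H (c • x) ↔ H x :=
  ⟨fun h => by simpa [smul_smul, hc] using hH _ c⁻¹ (inv_ne_zero hc) h, hH x c hc⟩

theorem DS.sc_iff (h : DS x) : SC H x ↔ GC H x := by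
  refine ⟨SC.gc, fun ⟨a, h1, e, he⟩ => ?_⟩
  have h0 := (LinearEquiv.isUnit_det' e).ne_zero
  obtain ⟨c, h2, h3, h4⟩ := h _ (inv_ne_zero h0)
  obtain ⟨c, rfl⟩ := exists_equiv_of_isUnit h2
  refine ⟨a, h1, e.trans c, ?_, fun v => ?_⟩
  · rw [LinearEquiv.coe_trans, LinearMap.det_comp, h4, inv_mul_cancel₀ h0]
  · simpa [he] using LinearMap.congr_fun h3.eq (e v)

variable [FiniteDimensional F V] [FiniteDimensional F V']

theorem ds_of_unip {t : Multiset ℕ} (h : HasED x (unipOf F t)) {e : ℕ} (he : e ∈ t)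
    (H : ∀ a : F, ∃ b, b ^ e = a) : DS x := fun a ha => by
  obtain ⟨b, rfl⟩ := H a
  have h0 := pos_of_unip h e he
  obtain ⟨c, h1, h2, h3⟩ := h.exists_comm_det_pow (x := (X - 1, e)) (mem_unipOf.2 ⟨rfl, he⟩) b
    (by rintro rfl; exact ha (zero_pow (by omega)))
  exact ⟨c, h1, h2, by simpa [natDegree_X_sub_one'] using h3⟩

section Dg

/-- `x` is diagonalizable with eigenvalues `s`. -/
def Dg (x : End F V) (s : Multiset F) : Prop :=
  x.IsSemisimple ∧ x.charpoly = (s.map fun a => X - C a).prod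

variable {s t : Multiset F}

theorem nf_prod_lin (s : Multiset F) :
    nf (s.map fun a => X - C a).prod = s.map fun a => X - C a :=
  nf_prod fun g hg => by
    obtain ⟨a, -, rfl⟩ := Multiset.mem_map.1 hg
    exact ⟨irreducible_X_sub_C a, monic_X_sub_C a⟩

theorem exists_dgm (h : s.card = finrank F V) : ∃ x : End F V, Dg x s :=
  exists_ss_charpoly (monic_multiset_prod_of_monic _ _ fun a _ => monic_X_sub_C a)
    (by rw [natDegree_multiset_prod_X_sub_C_eq_card, h])

theorem Dg.card (h : Dg x s) : s.card = finrank F V := by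
  rw [← natDegree_multiset_prod_X_sub_C_eq_card, ← h.2, LinearMap.charpoly_natDegree]

theorem Dg.eig [DecidableEq F] (h : Dg x s) (c : F) : finrank F (eig x c) = s.count c := by
  rw [← count_nf_charpoly h.1, h.2, nf_prod_lin]
  exact Multiset.count_map_eq_count' _ _ (fun a b e => by simpa using e) c

theorem Dg.sim {y : End F V'} (h : Dg x s) (h' : Dg y s) : Sim x y :=
  sim_of_charpoly h.1 h'.1 (h.2.trans h'.2.symm)

theorem Dg.of_sim {y : End F V'} (h : Dg x s) (e : Sim x y) : Dg y s :=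
  ⟨ss_of_sim e h.1, e.charpoly ▸ h.2⟩

theorem Dg.aeval_iff (h : Dg x s) (f : F[X]) : aeval x f = 0 ↔ ∀ a ∈ s, f.eval a = 0 := by
  rw [(hasED_ssOf h.1).aeval_eq_zero_iff, h.2, ssOf_eq, nf_prod_lin]
  simp [dvd_iff_isRoot]

theorem Dg.pow_iff (h : Dg x s) {z : F} : x ^ r = algebraMap F _ z ↔ ∀ a ∈ s, a ^ r = z := by
  rw [← aeval_X_pow_sub_C, h.aeval_iff]; simp [sub_eq_zero]

theorem Dg.pow_eq_one (h : Dg x s) : x ^ r = 1 ↔ ∀ a ∈ s, a ^ r = 1 := by
  rw [← h.pow_iff, map_one]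

theorem dg_of_basis {ι : Type*} [Fintype ι] (b : Basis ι F V) {d : ι → F}
    (h : ∀ i, x (b i) = d i • b i) : Dg x (Finset.univ.val.map d) := by
  classical
  refine ⟨End.isSemisimple_of_squarefree_aeval_eq_zero
    (p := ∏ a ∈ Finset.univ.image d, (X - C a)) (Separable.squarefree
      (separable_prod_X_sub_C_iff'.2 fun _ _ _ _ e => e)) (b.ext fun i => ?_), ?_⟩
  · rw [End.aeval_apply_of_mem_apply_eq_smul (h i), eval_prod,
      Finset.prod_eq_zero (Finset.mem_image_of_mem d (Finset.mem_univ i)) (by simp)]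
    simp
  · rw [← LinearMap.charpoly_toMatrix _ b, show LinearMap.toMatrix b b x = Matrix.diagonal d by
      ext i j; simp [LinearMap.toMatrix_apply, h, Matrix.diagonal_apply, Finsupp.single_apply]
      grind, Matrix.charpoly_diagonal, Multiset.map_map]
    rfl

theorem exists_fin_map {α : Type*} (s : Multiset α) (h : s.card = n) :
    ∃ d : Fin n → α, Finset.univ.val.map d = s := by
  subst h
  induction s using Quotient.inductionOn with
  | h l => exact ⟨l.get, (Fin.univ_val_map l.get).trans (congrArg _ (List.ofFn_get l))⟩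

theorem Dg.exists_basis (h : Dg x s) : ∃ (b : Basis (Fin (finrank F V)) F V)
    (d : Fin (finrank F V) → F), (∀ i, x (b i) = d i • b i) ∧ Finset.univ.val.map d = s := by
  obtain ⟨d, rfl⟩ := exists_fin_map s h.card
  let b := finBasis F V
  obtain ⟨e, he⟩ := (dg_of_basis (x := b.constr F fun i => d i • b i) b (by simp)).sim h
  exact ⟨b.map e, d, fun i => by simp [← he], rfl⟩

theorem Dg.smul (h : Dg x s) (c : F) : Dg (c • x) (s.map (c * ·)) := by
  obtain ⟨b, d, h1, rfl⟩ := h.exists_basis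
  rw [Multiset.map_map]
  exact dg_of_basis b fun i => by simp [h1, smul_smul]

theorem Dg.det (h : Dg x s) : LinearMap.det x = s.prod := by
  classical
  obtain ⟨b, d, h1, rfl⟩ := h.exists_basis
  rw [← LinearMap.det_toMatrix b, show LinearMap.toMatrix b b x = Matrix.diagonal d by
    ext i j; simp [LinearMap.toMatrix_apply, h1, Matrix.diagonal_apply, Finsupp.single_apply]
    grind, Matrix.det_diagonal]
  rfl

theorem Dg.pd {σ : F →+* F} (h : Dg x s) (h0 : ∀ a ∈ s, a ≠ 0)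
    (h1 : s.map (fun a => (σ a)⁻¹) = s) : pd σ x.charpoly = x.charpoly := by
  rw [h.2, map_multiset_prod, Multiset.map_map]
  conv_rhs => rw [← h1, Multiset.map_map]
  exact congrArg _ (Multiset.map_congr rfl fun a ha => pd_X_sub_C (h0 a ha))

theorem exists_dg_of_pow [Finite F] (hr : r.Prime) (hF : (r : F) ≠ 0) (hi : io r F = 1)
    (h : x ^ r = 1) : ∃ s, Dg x s := by
  refine ⟨x.charpoly.roots, ss_of_pow' hF h,
    (Splits.eq_prod_roots_of_monic ?_ x.charpoly_monic)⟩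
  obtain ⟨a, ha⟩ := nf_charpoly' x
  rw [← prod_nf x.charpoly_monic, ha]
  refine Splits.multisetProd fun g hg => Splits.of_natDegree_eq_one ?_
  rcases Multiset.mem_add.1 hg with h1 | h1
  · rw [Multiset.eq_of_mem_replicate h1, natDegree_X_sub_one']
  · rw [natDegree_of_mem_Phi hr hF (fac_mem_Phi hr hF h g h1), hi]

end Dg

theorem finrank_eig_sim {y : End F V'} (h : Sim x y) (c : F) :
    finrank F (eig x c) = finrank F (eig y c) := by
  have := (h.aeval (X - C c)).finrank_ker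
  rwa [map_sub, map_sub, aeval_X, aeval_X, aeval_C, aeval_C] at this

/-- Eigenvalue multiplicities are compatible with a twist. -/
def Tw (τ : F →* F) (x : End F V) : Prop :=
  ∃ c, c ≠ 0 ∧ ∀ a, a ≠ 0 → finrank F (eig x a) ≤ finrank F (eig x (c * τ a))

theorem Tw.sim {τ : F →* F} (h : Tw τ x) (e : Sim x y) : Tw τ y := by
  simpa only [Tw, finrank_eig_sim e] using h

theorem GC.tw {τ : F →* F} (h : GC H x) (hH : ∀ y, H y → Tw τ y) : Tw τ x :=
  let ⟨a, h1, h2⟩ := h; (hH a h1).sim h2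

variable [Finite F]

omit [FiniteDimensional F V] [FiniteDimensional F V'] in
theorem exists_pow_eq_root (hr : r.Prime) (hn : n ≠ 0)
    (h : padicValNat r n < padicValNat r (Nat.card F - 1)) {ζ : F} (hζ : ζ ^ r = 1) :
    ∃ w, w ^ n = ζ := by
  have := Fact.mk hr
  have : NeZero r := ⟨hr.ne_zero⟩
  obtain ⟨η, hη⟩ := exists_primRoot (F := F) ((pow_dvd_pow r h).trans pow_padicValNat_dvd)
  obtain ⟨m, hm⟩ := pow_padicValNat_dvd (p := r) (n := n)
  have h1 : r.Coprime m := hr.coprime_iff_not_dvd.2 fun ⟨k, hk⟩ =>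
    pow_succ_padicValNat_not_dvd (p := r) hn ⟨k, by rw [pow_succ, mul_assoc, ← hk, ← hm]⟩
  have h2 := (hη.pow (pow_pos hr.pos _) (pow_succ r _)).pow_of_coprime m h1.symm
  obtain ⟨j, -, rfl⟩ := h2.eq_pow_of_pow_eq_one hζ
  exact ⟨η ^ j, by rw [← pow_mul η _ m, ← hm, pow_right_comm]⟩

theorem exists_bad (hr : r.Prime) (h2 : r ≠ 2) {ζ : F} (hζ : IsPrimitiveRoot ζ r) {τ : F →* F}
    (hτ : Function.Injective τ) (h1 : τ ζ ≠ ζ) (hn : finrank F V = n) (hn2 : 2 ≤ n)
    (h3 : n = 2 → τ ζ ≠ ζ⁻¹) (h6 : ¬ (n = 6 ∧ r = 3))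
    (hx : ¬ ((r = 3 ∨ r = 5) ∧ n = r ∧ padicValNat r (Nat.card F - 1) = 1)) :
    ∃ y : End F V, y ^ r = 1 ∧ (∃ w : F, w ≠ 0 ∧ w ^ n * LinearMap.det y = 1) ∧ ¬ Tw τ y := by
  classical
  have := Fact.mk hr
  have h4 : ζ ≠ 1 := hζ.ne_one hr.one_lt
  have h0 : ζ ≠ 0 := hζ.ne_zero hr.ne_zero
  have h5 : τ ζ ≠ 1 := fun e => h4 (hτ (e.trans (map_one τ).symm))
  rcases lt_or_ge (padicValNat r n) (padicValNat r (Nat.card F - 1)) with h | h
  · obtain ⟨w, hw⟩ := exists_pow_eq_root hr (by omega) h hζ.inv.pow_eq_one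
    obtain ⟨y, hy⟩ := exists_dgm (V := V) (s := ζ ::ₘ Multiset.replicate (n - 1) 1)
      (by simp; omega)
    refine ⟨y, hy.pow_eq_one.2 (by simp +contextual [hζ.pow_eq_one, Multiset.mem_replicate]),
      ⟨w, by rintro rfl; simp [zero_pow (by omega : n ≠ 0), h0.symm] at hw, by
        simp [hy.det, hw, h0]⟩, fun ⟨c, hc, H⟩ => ?_⟩
    have h7 := H 1 one_ne_zero
    have h8 := H ζ h0
    simp only [hy.eig, Multiset.count_cons, Multiset.count_replicate, map_one, mul_one] at h7 h8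
    by_cases e : c = 1
    · subst e; simp [h4.symm, h5.symm, h1] at h8
    · by_cases e' : c = ζ
      · subst e'
        have : 1 ≠ c * τ c := fun k => h3 (by simp [h4.symm] at h7; omega)
          (eq_inv_of_mul_eq_one_right k.symm)
        simp [h4.symm, this, h0, h5] at h8
      · simp [h4.symm, Ne.symm e, e'] at h7; omega
  · have hd : r ∣ Nat.card F - 1 := hζ.dvd_of_pow_eq_one _ (pow_card_sub_one h0)
    have hN : Nat.card F - 1 ≠ 0 := by have := two_le_card (F := F); omega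
    have h7 := one_le_padicValNat_of_dvd hN hd
    have h8 : r ∣ n := dvd_of_one_le_padicValNat (h7.trans h)
    have h9 : 7 ≤ n := by
      by_contra h9
      have := Nat.le_of_dvd (by omega) h8
      have := hr.two_le
      have e : n = r := by
        have : r ≤ 6 := by omega
        interval_cases r <;> first | omega | exact absurd hr (by norm_num)
      subst e
      rw [padicValNat_self] at h
      have : n ≤ 6 := by omega
      interval_cases n <;> first | omega | exact absurd hr (by norm_num)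
    obtain ⟨y, hy⟩ := exists_dgm (V := V)
      (s := ζ ::ₘ ζ ::ₘ ζ⁻¹ ^ 2 ::ₘ Multiset.replicate (n - 3) 1) (by simp; omega)
    refine ⟨y, hy.pow_eq_one.2 (by
      simp +contextual [hζ.pow_eq_one, Multiset.mem_replicate, pow_right_comm ζ 2]),
      ⟨1, one_ne_zero, by simp [hy.det]; field_simp⟩, fun ⟨c, hc, H⟩ => ?_⟩
    have h7 := H 1 one_ne_zero
    have h8 := H ζ h0
    simp only [hy.eig, Multiset.count_cons, Multiset.count_replicate, map_one, mul_one] at h7 h8
    by_cases e : c = 1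
    · subst e; simp only [h5.symm, h1, one_mul] at h8; grind
    · simp only [Ne.symm e] at h7; grind

theorem sym_three : ∀ a b c : ZMod 3, (([a, b, c] : List _) : Multiset (ZMod 3)).sum = 0 →
    ∃ k, ((([a, b, c] : List _) : Multiset (ZMod 3)).map (k + ·)).map (-·) =
      (([a, b, c] : List _) : Multiset (ZMod 3)).map (k + ·) := by decide +kernel

theorem sym_five : ∀ a b c d e : ZMod 5, (([a, b, c, d, e] : List _) : Multiset (ZMod 5)).sum = 0 →
    ∃ k, ((([a, b, c, d, e] : List _) : Multiset (ZMod 5)).map (k + ·)).map (-·) =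
      (([a, b, c, d, e] : List _) : Multiset (ZMod 5)).map (k + ·) := by decide +kernel

omit [FiniteDimensional F V] [FiniteDimensional F V'] [Finite F] in
theorem exists_sym (hr : r = 3 ∨ r = 5) {ζ : F} (hζ : IsPrimitiveRoot ζ r) {s : Multiset F}
    (h1 : s.card = r) (h2 : ∀ a ∈ s, a ^ r = 1) (h3 : s.prod = 1) :
    ∃ c : F, c ^ r = 1 ∧ (s.map (c * ·)).map (·⁻¹) = s.map (c * ·) := by
  have : NeZero r := ⟨by omega⟩
  let ψ := AddChar.zmodChar r hζ.pow_eq_one
  have hψ : ∀ a, ψ a = 1 → a = 0 := fun a h =>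
    (ZMod.val_eq_zero a).1 (Nat.eq_zero_of_dvd_of_lt ((hζ.pow_eq_one_iff_dvd _).1 h) a.val_lt)
  obtain ⟨t, rfl⟩ : ∃ t : Multiset (ZMod r), t.map ψ = s := by
    have : ∀ a ∈ s, ∃ j, ψ j = a := fun a ha => by
      obtain ⟨j, -, rfl⟩ := hζ.eq_pow_of_pow_eq_one (h2 a ha)
      exact ⟨j, AddChar.zmodChar_apply' _ j⟩
    choose! f hf using this
    exact ⟨s.map f, by rw [Multiset.map_map]; exact (Multiset.map_congr rfl hf).trans s.map_id⟩
  have h4 : ∀ t : Multiset (ZMod r), (t.map ψ).prod = ψ t.sum := fun t => by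
    induction t using Multiset.induction_on <;> simp [ψ.map_add_eq_mul, *]
  have h5 := hψ _ ((h4 t).symm.trans h3)
  obtain ⟨c, hc⟩ : ∃ c, (t.map (c + ·)).map (-·) = t.map (c + ·) := by
    obtain ⟨d, rfl⟩ := exists_fin_map t ((Multiset.card_map _ _).symm.trans h1)
    rw [Fin.univ_val_map] at h5 ⊢
    rcases hr with rfl | rfl
    · exact sym_three _ _ _ h5
    · exact sym_five _ _ _ _ _ h5
  refine ⟨ψ c, by rw [← ψ.map_nsmul_eq_pow]; simp, ?_⟩
  have := congrArg (Multiset.map ψ) hc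
  simpa [ψ.map_add_eq_mul, ψ.map_neg_eq_inv, mul_comm] using this

theorem exc_real (hr : r = 3 ∨ r = 5) (hn : finrank F V = r)
    (h : padicValNat r (Nat.card F - 1) = 1) (hy : y ^ r = 1) {w : F}
    (hw : w ^ r * LinearMap.det y = 1) :
    ∃ (c : F) (s : Multiset F), c ≠ 0 ∧ (c • y) ^ r = 1 ∧ Dg (c • y) s ∧ s.map (·⁻¹) = s := by
  have hp : r.Prime := by rcases hr with rfl | rfl <;> norm_num
  have := Fact.mk hp
  have hd : r ∣ Nat.card F - 1 := dvd_of_one_le_padicValNat h.ge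
  have hN : Nat.card F - 1 ≠ 0 := by have := two_le_card (F := F); omega
  obtain ⟨ζ, hζ⟩ := exists_primRoot (F := F) hd
  have : NeZero r := ⟨hp.ne_zero⟩
  obtain ⟨s, hs⟩ := exists_dg_of_pow hp (hζ.neZero').out (io_eq_one_iff.2 hd) hy
  have h0 : w ≠ 0 := by rintro rfl; simp [hp.ne_zero] at hw
  have h1 : w ^ r ^ 2 = 1 := by
    have := congrArg (· ^ r) hw
    simpa [mul_pow, ← map_pow, hy, ← pow_mul, ← sq] using this
  obtain ⟨k, -, hk⟩ := (Nat.dvd_prime_pow hp).1 (orderOf_dvd_of_pow_eq_one h1)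
  have h2 := (padicValNat_dvd_iff_le hN).1 (hk ▸ orderOf_dvd_of_pow_eq_one (pow_card_sub_one h0))
  have h3 : w ^ r = 1 := orderOf_dvd_iff_pow_eq_one.1 (by
    rw [hk]; exact (pow_dvd_pow r (h ▸ h2)).trans (pow_one r).dvd)
  obtain ⟨c, h4, h5⟩ := exists_sym hr hζ (hs.card.trans hn) (hs.pow_eq_one.1 hy)
    (by simpa [h3, hs.det] using hw)
  exact ⟨c, _, by rintro rfl; simp [hp.ne_zero] at h4, by rw [_root_.smul_pow, h4, hy, one_smul],
    hs.smul c, h5⟩

omit [FiniteDimensional F V] [FiniteDimensional F V'] in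
theorem not_np_exc (hr : r = 3 ∨ r = 5) (h : padicValNat r (Nat.card F - 1) = 1) : ¬ NP r F r := by
  have hp : r.Prime := by rcases hr with rfl | rfl <;> norm_num
  have := Fact.mk hp
  obtain ⟨ζ, hζ⟩ := exists_primRoot (F := F) (dvd_of_one_le_padicValNat h.ge)
  have : NeZero r := ⟨hp.ne_zero⟩
  rw [np_iff hp (hζ.neZero').out hp.ne_zero, h, padicValNat_self]
  omega

omit [Finite F] in
theorem np_iff_exists (hr : r.Prime) (hn : finrank F V = n) : NP r F n ↔ ∃ (x : End F V) (z : F),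
    (∀ b, b ^ r ≠ z) ∧ x ^ r = algebraMap F _ z ∧ LinearMap.det x = 1 := by
  subst hn
  constructor
  · rintro ⟨⟨k, hk⟩, c, hc, h⟩
    obtain ⟨x, hx⟩ := exists_nonpow hr hc hk
    obtain ⟨-, h1, -, h2⟩ := nonpow_props hr.ne_zero hx
    exact ⟨x, c, hc, h1, by rwa [h2, ← Nat.mul_div_cancel_left k hr.pos, ← hk]⟩
  · rintro ⟨x, c, hc, h1, h2⟩
    obtain ⟨k, hk⟩ := hasED_nonpow hr hc h1
    obtain ⟨h3, -, -, h4⟩ := nonpow_props hr.ne_zero hk
    exact ⟨⟨k, h3⟩, c, hc, by rwa [h4, ← Nat.mul_div_cancel_left k hr.pos, ← h3] at h2⟩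

omit [Finite F] in
theorem sim_nonpow (hr : r.Prime) {z : F} (hz : ∀ b, b ^ r ≠ z) (hx : x ^ r = algebraMap F _ z)
    {y : End F V'} (hy : y ^ r = algebraMap F _ z) (hn : finrank F V = finrank F V') : Sim x y := by
  obtain ⟨k, hk⟩ := hasED_nonpow hr hz hx
  obtain ⟨l, hl⟩ := hasED_nonpow hr hz hy
  have h1 := (nonpow_props hr.ne_zero hk).1
  have h2 := (nonpow_props hr.ne_zero hl).1
  obtain rfl : k = l := Nat.eq_of_mul_eq_mul_left hr.pos (by omega)
  rw [sim_iff_edOf, hk.edOf_eq, hl.edOf_eq]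

theorem sim_of_sq (h2 : (2 : F) ≠ 0) (hx : x ^ 2 = 1) {y : End F V'} (hy : y ^ 2 = 1)
    (hn : finrank F V = finrank F V') (h : finrank F (eig x (-1)) = finrank F (eig y (-1))) :
    Sim x y := by
  classical
  have hi : io 2 F = 1 := by
    have := card_Phi (F := F) Nat.prime_two h2
    exact Nat.eq_one_of_mul_eq_one_left this
  obtain ⟨s, hs⟩ := exists_dg_of_pow Nat.prime_two h2 hi hx
  obtain ⟨t, ht⟩ := exists_dg_of_pow Nat.prime_two h2 hi hy
  have key : ∀ s : Multiset F, (∀ a ∈ s, a ^ 2 = 1) → s = Multiset.replicate (s.count (-1)) (-1) +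
      Multiset.replicate (s.card - s.count (-1)) 1 := fun s h => by
    obtain ⟨u, hu⟩ := Multiset.le_iff_exists_add.1
      (Multiset.le_count_iff_replicate_le.1 (le_refl (s.count (-1))))
    have h1 := congrArg (Multiset.count (-1)) hu
    rw [Multiset.count_add, Multiset.count_replicate_self, left_eq_add,
      Multiset.count_eq_zero] at h1
    refine hu.trans (congrArg _ (Multiset.eq_replicate.2 ⟨?_, fun a ha => ?_⟩))
    · have := congrArg Multiset.card hu
      simp only [Multiset.card_add, Multiset.card_replicate] at this; omega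
    · exact (sq_eq_one_iff.1 (h a (hu ▸ Multiset.mem_add.2 (.inr ha)))).resolve_right
        fun e => h1 (e ▸ ha)
  refine hs.sim ?_
  rwa [key s (hs.pow_eq_one.1 hx), hs.card, ← hs.eig, h, hn, ht.eig, ← ht.card,
    ← key t (ht.pow_eq_one.1 hy)]

/-- The elements of determinant one. -/
abbrev D1 (x : End F V) : Prop := LinearMap.det x = 1

theorem allE_sc [Nontrivial V] (hr : r.Prime) (hF : (r : F) ≠ 0) (hH : Sc H)
    (hn : finrank F V = n) : AllE D1 r (SC H) ↔
    (∀ y, y ^ r = 1 → ∀ w : F, w ≠ 0 → w ^ n * LinearMap.det y = 1 → GC H y) ∧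
      ∀ x z, (∀ b, b ^ r ≠ z) → x ^ r = algebraMap F _ z → LinearMap.det x = 1 → GC H x := by
  subst hn
  refine ⟨fun h => ⟨fun y h1 w h0 h2 => (hH.gc.iff h0).1 (h _ (by rwa [D1, LinearMap.det_smul])
    ⟨w ^ r, by rw [_root_.smul_pow, h1, Algebra.algebraMap_eq_smul_one]⟩).gc,
    fun x z _ h1 h2 => (h x h2 ⟨z, h1⟩).gc⟩, fun ⟨h1, h2⟩ x hx ⟨z, hz⟩ => ?_⟩
  have hu := isUnit_of_det hx
  refine (DS.sc_iff fun a => exists_comm_det_of_ss
    (ss_of_pow_scalar hF (ne_zero_of_pow hu hz) hz)).2 ?_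
  rcases lin_cases hr hu hz with ⟨b, y, hb, hy, rfl⟩ | ⟨h, -⟩
  · exact hH.gc _ b hb (h1 y hy b hb (by rwa [D1, LinearMap.det_smul] at hx))
  · exact h2 x z h hz hx

theorem allE_sc_char [Nontrivial V] (p : ℕ) [Fact p.Prime] [CharP F p] (hH : Sc H) :
    AllE D1 p (SC H) ↔ ∀ y, y ^ p = 1 → SC H y := lin_all_char p _ hH.sc

theorem allE_sc_two [Nontrivial V] [CharP F 2] (hH : Sc H) :
    AllE D1 2 (SC H) ↔ ∀ y, y ^ 2 = 1 → GC H y := by
  rw [allE_sc_char 2 hH]
  refine forall₂_congr fun y hy => DS.sc_iff ?_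
  have h := hasED_dg (nil_of_pow_char 2 hy)
  obtain ⟨e, he⟩ := Multiset.exists_mem_of_ne_zero (s := dg y) fun h0 => by
    simpa [h0, finrank_pos.ne] using sum_dg y
  refine ds_of_unip h he fun a => ?_
  have h1 := pos_of_unip h e he
  have h2 := (unip_pow_iff 2 h 1).1 (by simpa using hy) e he
  interval_cases e
  · exact ⟨a, pow_one a⟩
  · exact exists_char_root 2 a

section Mat

variable {ι : Type} [Fintype ι] [DecidableEq ι] {M : Subgroup (GL ι F)}
  {H : End F (ι → F) → Prop}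

/-- The maps given by members of a matrix group. -/
def InM (M : Subgroup (GL ι F)) (y : End F (ι → F)) : Prop :=
  ∃ g ∈ M, Matrix.toLin' (g : Matrix ι ι F) = y

omit [Finite F] in
theorem sc_inM (x : GL ι F) : SC (InM M) (Matrix.toLin' (x : Matrix ι ι F)) ↔
    ∃ g ∈ Geo.specialLinear ι F, g⁻¹ * x * g ∈ M := by
  constructor
  · rintro ⟨_, ⟨h, h1, rfl⟩, g, h2, h3⟩
    refine ⟨ofLin F ι g, by rw [specialLinear_eq]; exact Subgroup.mem_map_of_mem _ (mem_slV.2 h2), ?_⟩
    convert h1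
    rw [mul_assoc, inv_mul_eq_iff_eq_mul]
    exact (glEquiv ι F).injective (LinearEquiv.ext fun v => by simpa using (h3 v).symm)
  · rintro ⟨g, h1, h2⟩
    rw [specialLinear_eq] at h1
    refine ⟨_, ⟨_, h2, rfl⟩, glEquiv ι F g, mem_slV.1 (mem_map_ofLin.1 h1),
      fun v => by simp [← Matrix.mul_assoc]⟩

omit [Finite F] in
theorem glc_iff (hH : InM M = H) (h0 : Sc H) :
    (∀ x ∈ Geo.specialLinear ι F, (∃ z : F, ((x ^ r : GL ι F) : Matrix ι ι F) =
      z • (1 : Matrix ι ι F)) → (∀ z : F, (x : Matrix ι ι F) ≠ z • (1 : Matrix ι ι F)) →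
      ∃ g ∈ Geo.specialLinear ι F, g⁻¹ * x * g ∈ M) ↔ AllE D1 r (SC H) := by
  subst hH
  simp only [← sc_inM, ne_eq, toLin'_eq_scalar, Units.val_pow_eq_pow_val, Matrix.toLin'_pow]
  have e : ∀ x : GL ι F, x ∈ Geo.specialLinear ι F ↔ D1 (Matrix.toLin' (x : Matrix ι ι F)) :=
    fun x => by simp [Geo.specialLinear, Units.ext_iff, D1]
  refine ⟨fun H y h1 h2 => ?_, fun H x h h1 _ => H _ ((e x).1 h) h1⟩
  obtain ⟨g, rfl⟩ := exists_equiv_of_isUnit (isUnit_of_det h1)
  by_cases h3 : ∃ c, g.toLinearMap = algebraMap F (End F (ι → F)) c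
  · obtain ⟨c, h3⟩ := h3
    by_cases hc : c = 0
    · have : g.toLinearMap = 1 := LinearMap.ext fun v => g.injective (by
        simp [← g.coe_coe, h3, hc])
      exact this ▸ .of ⟨1, one_mem _, by simp [End.one_eq_id]⟩
    · rw [h3, Algebra.algebraMap_eq_smul_one]
      exact h0.sc _ c hc (.of ⟨1, one_mem _, by simp [End.one_eq_id]⟩)
  · rw [← toLin'_ofLin] at h1 h2 h3 ⊢
    exact H _ ((e _).2 h1) h2 (not_exists.1 h3)

omit [Finite F] in
theorem range_toGL : (Matrix.SpecialLinearGroup.toGL : Matrix.SpecialLinearGroup ι F →* GL ι F).range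
    = Geo.specialLinear ι F := by
  ext x
  refine ⟨by rintro ⟨x, rfl⟩; simp [Geo.specialLinear], fun h => ⟨⟨x, ?_⟩, Units.ext rfl⟩⟩
  simpa [Geo.specialLinear, Units.ext_iff] using h

omit [Finite F] in
theorem slc_iff (hH : InM M = H) (h0 : Sc H) :
    (∀ x : Matrix.SpecialLinearGroup ι F, (∃ z : F, ((x ^ r : Matrix.SpecialLinearGroup ι F) :
      Matrix ι ι F) = z • (1 : Matrix ι ι F)) →
      (∀ z : F, (x : Matrix ι ι F) ≠ z • (1 : Matrix ι ι F)) → ∃ P : Matrix.SpecialLinearGroup ι F,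
        P⁻¹ * x * P ∈ M.comap (Matrix.SpecialLinearGroup.toGL : _ →* GL ι F)) ↔
      AllE D1 r (SC H) := by
  rw [← glc_iff hH h0, ← range_toGL]
  simp only [MonoidHom.mem_range, forall_exists_index, forall_apply_eq_imp_iff, exists_exists_eq_and,
    Subgroup.mem_comap, map_mul, map_inv, ← map_pow]
  rfl

omit [Finite F] in
theorem index_comap_toGL : (M.comap (Matrix.SpecialLinearGroup.toGL :
    Matrix.SpecialLinearGroup ι F →* GL ι F)).index = M.relIndex (Geo.specialLinear ι F) := by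
  rw [Subgroup.index_comap, range_toGL]

end Mat

section Index

variable {G A : Type*} [Group G] [Group A] [Finite G] {M S : Subgroup G} {N : ℕ}

omit [Finite F] [FiniteDimensional F V] [FiniteDimensional F V']

theorem dvd_of_relIndex (h : r ∣ M.relIndex S) (φ : A →* G) (hφ : Function.Injective φ)
    (h1 : ∀ a, φ a ∈ M) (h2 : ∀ a, φ a ∈ S) {a b P Q : ℕ} (hS : Nat.card S = a * (P * Q))
    (hA : Nat.card A = b * P) : r ∣ a * Q := by
  have h3 : φ.range ≤ S := by rintro _ ⟨a, rfl⟩; exact h2 a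
  have h5 := h.trans (Subgroup.relIndex_dvd_of_le_left S (H := φ.range)
    (by rintro _ ⟨a, rfl⟩; exact h1 a))
  have h4 := (φ.range.subgroupOf S).card_mul_index
  rw [Nat.card_congr (Subgroup.subgroupOfEquivOfLe h3).toEquiv,
    ← Nat.card_congr (MonoidHom.ofInjective hφ).toEquiv, hS, hA] at h4
  have : Finite A := .of_injective φ hφ
  have h6 : 0 < P := Nat.pos_of_mul_pos_left (hA ▸ Nat.card_pos)
  refine (h5.mul_left b).trans (dvd_of_eq (Nat.eq_of_mul_eq_mul_left h6 ?_))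
  rw [Subgroup.relIndex, mul_left_comm, ← mul_assoc, h4, mul_left_comm]

theorem relIndex_dvd_index [S.Normal] : M.relIndex S ∣ M.index := by
  have h1 := (S.subgroupOf M).card_mul_index
  have h2 := (M.subgroupOf S).card_mul_index
  have h3 := (S.subgroupOf (M ⊔ S)).card_mul_index
  have h4 := (M.subgroupOf (M ⊔ S)).card_mul_index
  rw [Nat.card_congr (Subgroup.subgroupOfEquivOfLe le_sup_right).toEquiv] at h3
  rw [Nat.card_congr (Subgroup.subgroupOfEquivOfLe le_sup_left).toEquiv] at h4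
  rw [← Subgroup.inf_subgroupOf_right, Nat.card_congr (Subgroup.subgroupOfEquivOfLe
    inf_le_right).toEquiv, Subgroup.inf_subgroupOf_right] at h1 h2
  have h5 := Subgroup.relIndex_sup_right M S
  have : M.relIndex (M ⊔ S) = M.relIndex S := by
    unfold Subgroup.relIndex at h5 ⊢
    rw [inf_comm] at h1
    refine Nat.eq_of_mul_eq_mul_left (Nat.card_pos (α := M)) ?_
    rw [h4, ← h3, ← h1, ← h2, h5]; ring
  exact this ▸ Subgroup.relIndex_dvd_index_of_le le_sup_left

theorem dvd_of_relIndex' [S.Normal] (h : r ∣ M.relIndex S) (φ : A →* G)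
    (hφ : Function.Injective φ) (h1 : ∀ a, φ a ∈ M) {a b P Q : ℕ} (hS : Nat.card G = a * (P * Q))
    (hA : Nat.card A = b * P) : r ∣ a * Q :=
  dvd_of_relIndex (S := ⊤) (by simpa using h.trans relIndex_dvd_index) φ hφ h1 (by simp)
    (by simpa using hS) hA

theorem exists_dvd_of_prod (hr : r.Prime) {q a : ℕ} (hq : (q : ZMod r) ≠ 0) {f : ℕ → ℕ}
    (h : r ∣ q ^ a * ∏ i ∈ Finset.range n, f i) : ∃ i < n, r ∣ f i := by
  rcases (Nat.Prime.dvd_mul hr).1 h with h | h
  · exact absurd ((ZMod.natCast_eq_zero_iff q r).2 (hr.dvd_of_dvd_pow h)) hq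
  · simpa using (hr.prime.dvd_finsetProd_iff f).1 h

theorem dvd_pow_sub_one_iff {q j : ℕ} (hq : q ≠ 0) :
    r ∣ q ^ j - 1 ↔ orderOf (q : ZMod r) ∣ j := by
  rw [orderOf_dvd_iff_pow_eq_one, ← ZMod.natCast_eq_zero_iff,
    Nat.cast_sub (Nat.one_le_pow _ _ (Nat.pos_of_ne_zero hq)), sub_eq_zero, Nat.cast_pow,
    Nat.cast_one]

theorem dvd_pow_add_one_iff (hr : r.Prime) (h2 : r ≠ 2) {q j : ℕ} :
    r ∣ q ^ j + 1 ↔ orderOf (q : ZMod r) ∣ 2 * j ∧ ¬ orderOf (q : ZMod r) ∣ j := by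
  rw [← pow_eq_neg_one_iff hr h2, ← ZMod.natCast_eq_zero_iff, eq_neg_iff_add_eq_zero]
  push_cast; rfl

theorem prod_two_mul (f : ℕ → ℕ) (d : ℕ) : ∏ i ∈ Finset.range (2 * d), f (i + 1) =
    (∏ i ∈ Finset.range d, f (2 * (i + 1))) * ∏ i ∈ Finset.range d, f (2 * i + 1) := by
  induction d with
  | zero => simp
  | succ d ih =>
    rw [mul_add, mul_one, Finset.prod_range_succ, Finset.prod_range_succ, ih,
      Finset.prod_range_succ, Finset.prod_range_succ]
    ring_nf

theorem sq_sub_one_eq (a : ℕ) : a ^ 2 - 1 = (a + 1) * (a - 1) := by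
  simpa using Nat.sq_sub_sq a 1

end Index

end Cfsg.Lib.Elu
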