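import Cfsg.Agent.Lib.Elu.Base

/-!
Elements of prime order modulo scalars in linear groups.
-/

set_option autoImplicit false

namespace Cfsg.Lib.Elu

open Module Cfsg.Lib.Forms Cfsg.Lib.Forms.Form Cfsg.Lib.Known Cfsg.Lib.Conj Polynomial

variable {F : Type*} [Field F] {V V' : Type*}
  [AddCommGroup V] [Module F V] [AddCommGroup V'] [Module F V'] {x y : End F V} {r : ℕ}

theorem np_aux {ζ : F} {N n : ℕ} (hζ : IsPrimitiveRoot ζ N) (hN : N ≠ 0) (hr : r.Prime)
    (hF : (r : F) ≠ 0) (hrN : r ∣ N) (hn : n ≠ 0) :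
    (r ∣ n ∧ ∃ z : F, z ^ N = 1 ∧ (∀ w, w ^ N = 1 → w ^ r ≠ z) ∧ (-1) ^ n * (-z) ^ (n / r) = 1) ↔
      ¬ (padicValNat r n ≤ padicValNat r N ∧ (r = 2 → Even n → 4 ∣ N)) := by
  haveI := Fact.mk hr
  have h1 : 1 ≤ padicValNat r N := one_le_padicValNat_of_dvd hN hrN
  by_cases hd : r ∣ n
  swap
  · rw [padicValNat.eq_zero_of_not_dvd hd]
    exact iff_of_false (fun h => hd h.1) (not_not.2 ⟨by omega, fun h2 he =>
      absurd (h2 ▸ he.two_dvd) hd⟩)
  obtain ⟨k, rfl⟩ := hd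
  have hk : k ≠ 0 := by rintro rfl; simp at hn
  have hv : padicValNat r (r * k) = padicValNat r k + 1 := by
    rw [padicValNat.mul hr.ne_zero hk, padicValNat_self, add_comm]
  rw [Nat.mul_div_cancel_left _ hr.pos, and_iff_right (dvd_mul_right _ _), hv]
  have key := exists_nonpow_iff hζ hN hr hrN hk
  rcases hr.eq_two_or_odd' with rfl | ho
  · have h2 : (2 : F) ≠ 0 := by simpa using hF
    have hm : (-1 : F) ^ N = 1 := (even_iff_two_dvd.2 hrN).neg_one_pow
    have h4 := exists_pow_eq_neg_one_iff' hζ hN h2 two_ne_zero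
    rw [padicValNat_self, show 1 < padicValNat 2 N ↔ 4 ∣ N from
      (padicValNat_dvd_iff_le (p := 2) (n := 2) hN).symm] at h4
    simp only [pow_mul, neg_one_sq, one_pow, one_mul, forall_true_left, even_two, Even.mul_right]
    by_cases h5 : 4 ∣ N
    · obtain ⟨i, hi, hi'⟩ := h4.2 h5
      rw [and_iff_left h5, show ¬ (padicValNat 2 k + 1 ≤ padicValNat 2 N) ↔
        padicValNat 2 N ≤ padicValNat 2 k by omega, ← key]
      have H : ∀ z : F, (∀ w, w ^ N = 1 → w ^ 2 ≠ z) → ∀ w, w ^ N = 1 → w ^ 2 ≠ -z :=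
        fun z hz w hw h => hz (i * w) (by rw [mul_pow, hi, hw, one_mul])
          (by rw [mul_pow, hi', h]; ring)
      exact ⟨fun ⟨z, a, b, c⟩ => ⟨-z, by rw [neg_pow, hm, a, one_mul], H z b, c⟩,
        fun ⟨z, a, b, c⟩ => ⟨-z, by rw [neg_pow, hm, a, one_mul], H z b, by rwa [neg_neg]⟩⟩
    · exact iff_of_true ⟨-1, hm, fun w hw h => h5 (h4.1 ⟨w, hw, h⟩), by simp⟩ fun h => h5 h.2
  · have e : ∀ z : F, (-1) ^ (r * k) * (-z) ^ k = z ^ k := fun z => by
      rw [pow_mul, ho.neg_one_pow, ← mul_pow]; simp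
    simp only [e]
    rw [key, and_iff_left fun h => absurd (h ▸ ho) (by decide)]
    omega

theorem io_eq_one_iff [Finite F] : io r F = 1 ↔ r ∣ Nat.card F - 1 := by
  have := two_le_card (F := F)
  rw [io, orderOf_eq_one_iff, ← ZMod.natCast_eq_zero_iff, Nat.cast_sub (by omega), sub_eq_zero,
    Nat.cast_one]

theorem pow_card_sub_one [Finite F] {c : F} (hc : c ≠ 0) : c ^ (Nat.card F - 1) = 1 := by
  haveI := Fintype.ofFinite F
  rw [Nat.card_eq_fintype_card]; exact FiniteField.pow_card_sub_one_eq_one c hc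

theorem exists_root_of_coprime {N : ℕ} (h : r.Coprime N) {c : F} (hc : c ^ N = 1) (hN : N ≠ 0) :
    ∃ b, b ^ N = 1 ∧ b ^ r = c := by
  rcases eq_or_ne N 1 with rfl | h1
  · exact ⟨1, by simp, by simpa using hc.symm⟩
  obtain ⟨a, -, ha⟩ := Nat.exists_mul_mod_eq_one_of_coprime h (by omega)
  refine ⟨c ^ a, by rw [← pow_mul, mul_comm, pow_mul, hc, one_pow], ?_⟩
  rw [← pow_mul, mul_comm, ← Nat.div_add_mod (r * a) N, ha, pow_add, pow_mul, hc, one_pow,
    one_mul, pow_one]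

theorem eq_one_of_coprime {N : ℕ} (h : r.Coprime N) {c : F} (hc : c ^ N = 1) (hc' : c ^ r = 1) :
    c = 1 := by
  have := pow_gcd_eq_one.2 ⟨hc', hc⟩
  rwa [h, pow_one] at this

/-- Existence of elements whose `r`-th power is a scalar that is not an `r`-th power. -/
def NP (r : ℕ) (F : Type*) [Field F] (n : ℕ) : Prop :=
  r ∣ n ∧ ∃ c : F, (∀ b, b ^ r ≠ c) ∧ (-1) ^ n * (-c) ^ (n / r) = 1

theorem np_iff [Finite F] {n : ℕ} (hr : r.Prime) (hF : (r : F) ≠ 0) (hn : n ≠ 0) :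
    NP r F n ↔ io r F = 1 ∧ ¬ (padicValNat r n ≤ padicValNat r (Nat.card F - 1) ∧
      (r = 2 → Even n → Nat.card F % 4 = 1)) := by
  have h2 := two_le_card (F := F)
  have hN : Nat.card F - 1 ≠ 0 := by omega
  have h0 : ∀ c : F, (∀ b, b ^ r ≠ c) → c ≠ 0 := fun c h h' => h 0 (by
    rw [h', zero_pow hr.ne_zero])
  by_cases hd : r ∣ Nat.card F - 1
  · obtain ⟨ζ, hζ⟩ := exists_primRoot (F := F) dvd_rfl
    rw [and_iff_right (io_eq_one_iff.2 hd), show Nat.card F % 4 = 1 ↔ 4 ∣ Nat.card F - 1 by omega,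
      ← np_aux hζ hN hr hF hd hn]
    refine and_congr_right fun _ => exists_congr fun c => ⟨fun h => ⟨pow_card_sub_one (h0 c h.1),
      fun w _ => h.1 w, h.2⟩, fun h => ⟨fun b hb => ?_, h.2.2⟩⟩
    refine h.2.1 b (pow_card_sub_one ?_) hb
    rintro rfl
    have := h.1
    rw [← hb, zero_pow hr.ne_zero, zero_pow hN] at this
    exact zero_ne_one this
  · refine iff_of_false (fun ⟨_, c, h, _⟩ => ?_) fun h => hd (io_eq_one_iff.1 h.1)
    obtain ⟨b, -, hb⟩ := exists_root_of_coprime ((Nat.Prime.coprime_iff_not_dvd hr).2 hd)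
      (pow_card_sub_one (h0 c h)) hN
    exact h b hb

theorem smul_pow_eq_one {b c : F} (hb : b ≠ 0) (h : b ^ r = c) (hx : x ^ r = algebraMap F _ c) :
    (b⁻¹ • x) ^ r = 1 := by
  rw [_root_.smul_pow, hx, ← h, Algebra.algebraMap_eq_smul_one, smul_smul, ← mul_pow,
    inv_mul_cancel₀ hb, one_pow, one_smul]

theorem aeval_X_pow_sub_C {c : F} :
    aeval x (X ^ r - C c : F[X]) = 0 ↔ x ^ r = algebraMap F _ c := by
  simp [sub_eq_zero]

section Char

variable (p : ℕ) [Fact p.Prime] [CharP F p]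

theorem pow_char_pow_iff (k : ℕ) : x ^ p ^ k = 1 ↔ (x - 1) ^ p ^ k = 0 := by
  have : (X - 1 : F[X]) ^ p ^ k = X ^ p ^ k - 1 := by rw [sub_pow_char_pow, one_pow]
  rw [← aeval_X_sub_one (F := F), ← map_pow, this]
  simp [sub_eq_zero]

theorem unip_pow_iff {t : Multiset ℕ} (h : HasED x (unipOf F t)) (k : ℕ) :
    x ^ p ^ k = 1 ↔ ∀ e ∈ t, e ≤ p ^ k := by
  rw [pow_char_pow_iff, ← aeval_X_sub_one (F := F), ← map_pow, h.aeval_eq_zero_iff]
  refine ⟨fun H e he => ?_, fun H a ha => ?_⟩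
  · simpa using (pow_dvd_pow_iff irreducible_X_sub_one.ne_zero
      irreducible_X_sub_one.not_isUnit).1 (H (X - 1, e) (mem_unipOf.2 ⟨rfl, he⟩))
  · rw [(mem_unipOf.1 ha).1]; exact pow_dvd_pow _ (H _ (mem_unipOf.1 ha).2)

theorem nil_of_pow_char (h : x ^ p = 1) : IsNilpotent (x - 1) :=
  ⟨p ^ 1, (pow_char_pow_iff p 1).1 (by rwa [pow_one])⟩

theorem exists_char_root [Finite F] (c : F) : ∃ b : F, b ^ p = c :=
  (Finite.surjective_of_injective (frobenius F p).injective) c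

theorem exists_pow_char_of_nil [FiniteDimensional F V] (h : IsNilpotent (x - 1)) :
    ∃ k, x ^ p ^ k = 1 := by
  obtain ⟨n, hn⟩ := h
  exact ⟨n, (pow_char_pow_iff p n).2 (pow_eq_zero_of_le
    (Nat.lt_pow_self (Fact.out : p.Prime).one_lt).le hn)⟩

end Char

variable [FiniteDimensional F V]

theorem det_unip (h : IsNilpotent (x - 1)) : LinearMap.det x = 1 := by
  simpa using det_of_sub_nilpotent (a := x) (c := 1) (by simpa using h)

theorem exists_unip {t : Multiset ℕ} (h1 : ∀ e ∈ t, 1 ≤ e) (h2 : t.sum = finrank F V) :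
    ∃ x : End F V, HasED x (unipOf F t) :=
  exists_end_hasED (isED_unipOf.2 h1) (by rw [edDeg_unipOf, h2])

theorem pos_of_unip {t : Multiset ℕ} (h : HasED x (unipOf F t)) : ∀ e ∈ t, 1 ≤ e :=
  isED_unipOf.1 h.1

theorem sum_of_unip {t : Multiset ℕ} (h : HasED x (unipOf F t)) : t.sum = finrank F V := by
  rw [h.finrank, edDeg_unipOf]

theorem exists_reg : ∃ x : End F V, Reg (x - 1) := by
  rcases Nat.eq_zero_or_pos (finrank F V) with h | h
  · exact ⟨1, by simp, (Submodule.finrank_le _).trans (by omega)⟩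
  · obtain ⟨x, hx⟩ := exists_unip (F := F) (V := V) (t := {finrank F V}) (by simp; omega)
      (by simp)
    exact ⟨x, reg_of_hasED hx⟩

theorem ne_zero_of_pow [Nontrivial V] (hx : IsUnit x) {c : F} (h : x ^ r = algebraMap F _ c) :
    c ≠ 0 := by
  rintro rfl
  exact (hx.pow r).ne_zero (by simpa using h)

theorem ss_of_pow_scalar (hF : (r : F) ≠ 0) {c : F} (hc : c ≠ 0)
    (h : x ^ r = algebraMap F _ c) : x.IsSemisimple :=
  Module.End.isSemisimple_of_squarefree_aeval_eq_zero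
    (separable_X_pow_sub_C c hF hc).squarefree (aeval_X_pow_sub_C.2 h)

theorem hasED_of_irred {f : F[X]} (hf : Irreducible f) (hm : f.Monic) (h : aeval x f = 0) :
    ∃ k, HasED x (Multiset.replicate k (f, 1)) := by
  suffices H : ∀ a ∈ edOf x, a = (f, 1) from
    ⟨_, Multiset.eq_replicate_card.2 H ▸ hasED_edOf x⟩
  intro a ha
  have h1 := ((hasED_edOf x).aeval_eq_zero_iff f).1 h a ha
  obtain ⟨h2, h3, h4⟩ := (hasED_edOf x).1 a ha
  have h5 : a.1 = f := eq_of_monic_of_associated h2 hm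
    (h3.associated_of_dvd hf ((dvd_pow_self _ (by omega)).trans h1))
  refine Prod.ext h5 (le_antisymm ?_ h4)
  rw [h5] at h1
  exact (pow_dvd_pow_iff hf.ne_zero hf.not_isUnit).1 (by rwa [pow_one])

theorem hasED_nonpow (hr : r.Prime) {c : F} (hc : ∀ b, b ^ r ≠ c)
    (h : x ^ r = algebraMap F _ c) : ∃ k, HasED x (Multiset.replicate k (X ^ r - C c, 1)) :=
  hasED_of_irred (X_pow_sub_C_irreducible_of_prime hr hc) (monic_X_pow_sub_C c hr.ne_zero)
    (aeval_X_pow_sub_C.2 h)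

theorem det_eq_charpoly (x : End F V) :
    LinearMap.det x = (-1) ^ finrank F V * x.charpoly.coeff 0 :=
  LinearMap.det_eq_sign_charpoly_coeff x

theorem nonpow_props (hr : r ≠ 0) {c : F} {k : ℕ}
    (h : HasED x (Multiset.replicate k (X ^ r - C c, 1))) :
    finrank F V = r * k ∧ x ^ r = algebraMap F _ c ∧ dg x = Multiset.replicate k r ∧
      LinearMap.det x = (-1) ^ finrank F V * (-c) ^ k := by
  refine ⟨by simp [h.finrank, edDeg, mul_comm], aeval_X_pow_sub_C.1 ((h.aeval_eq_zero_iff _).2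
    fun a ha => by rw [Multiset.eq_of_mem_replicate ha, pow_one]), by simp [dg_eq h], ?_⟩
  rw [det_eq_charpoly, h.charpoly, edProd, Multiset.map_replicate, Multiset.prod_replicate,
    pow_one, coeff_zero_eq_eval_zero]
  simp [hr]

theorem exists_nonpow (hr : r.Prime) {c : F} (hc : ∀ b, b ^ r ≠ c) {k : ℕ}
    (hn : finrank F V = r * k) :
    ∃ x : End F V, HasED x (Multiset.replicate k (X ^ r - C c, 1)) :=
  exists_end_hasED (fun a ha => by
    rw [Multiset.eq_of_mem_replicate ha]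
    exact ⟨monic_X_pow_sub_C c hr.ne_zero, X_pow_sub_C_irreducible_of_prime hr hc, le_rfl⟩)
    (by simp [edDeg, hn, mul_comm])

variable [Finite F]

theorem finrank_eig_add (hr : r.Prime) (hF : (r : F) ≠ 0) (h : y ^ r = 1) :
    finrank F (eig y 1) + io r F * (fac y).card = finrank F V := by
  rw [← finrank_rng_of_pow hr hF h, finrank_eig_add_rng]

theorem dg_of_pow (hr : r.Prime) (hF : (r : F) ≠ 0) (h : y ^ r = 1) :
    dg y = Multiset.replicate (finrank F (eig y 1)) 1 +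
      Multiset.replicate (fac y).card (io r F) := by
  have hs := ss_of_pow' hF h
  rw [dg_ss hs, nf_charpoly hs, Multiset.map_add, Multiset.map_replicate, natDegree_X_sub_one']
  congr 1
  exact Multiset.eq_replicate.2 ⟨by simp, fun b hb => by
    obtain ⟨g, hg, rfl⟩ := Multiset.mem_map.1 hb
    exact natDegree_of_mem_Phi hr hF (fac_mem_Phi hr hF h g hg)⟩

theorem exists_mem_Phi (hr : r.Prime) (hF : (r : F) ≠ 0) : ∃ g, g ∈ Phi r F :=
  Finset.card_pos.1 (Nat.pos_of_ne_zero (card_Phi_ne_zero hr hF))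

theorem exists_pow_card (hr : r.Prime) (hF : (r : F) ≠ 0) {a : ℕ}
    (h : io r F * a ≤ finrank F V) : ∃ y : End F V, y ^ r = 1 ∧ (fac y).card = a := by
  obtain ⟨g, hg⟩ := exists_mem_Phi hr hF
  obtain ⟨y, h1, h2⟩ := exists_pow_fac (V := V) (M := Multiset.replicate a g) hr hF
    (fun b hb => Multiset.eq_of_mem_replicate hb ▸ hg) (by simpa using h)
  exact ⟨y, h1, by simp [h2]⟩

theorem det_eq_one_of_io (hr : r.Prime) (hi : io r F ≠ 1) (h : y ^ r = 1) :
    LinearMap.det y = 1 :=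
  eq_one_of_coprime ((Nat.Prime.coprime_iff_not_dvd hr).2 fun h => hi (io_eq_one_iff.2 h))
    (pow_card_sub_one ((isUnit_of_pow hr h).map LinearMap.det).ne_zero)
    (by rw [← map_pow, h, map_one])

omit [Finite F] in
theorem isUnit_of_det (h : LinearMap.det x = 1) : IsUnit x :=
  (LinearMap.isUnit_iff_isUnit_det x).2 (by simp [h])

omit [Finite F] in
theorem lin_cases [Nontrivial V] (hr : r.Prime) (hx : IsUnit x) {c : F}
    (h : x ^ r = algebraMap F _ c) : (∃ (b : F) (y : End F V), b ≠ 0 ∧ y ^ r = 1 ∧ x = b • y) ∨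
      (∀ b, b ^ r ≠ c) ∧ ∃ k, HasED x (Multiset.replicate k (X ^ r - C c, 1)) := by
  by_cases hc : ∃ b, b ^ r = c
  · obtain ⟨b, hb⟩ := hc
    have h0 : b ≠ 0 := by
      rintro rfl
      exact ne_zero_of_pow hx h (by rw [← hb, zero_pow hr.ne_zero])
    exact Or.inl ⟨b, _, h0, smul_pow_eq_one h0 hb h, by simp [h0]⟩
  · push Not at hc
    exact Or.inr ⟨hc, hasED_nonpow hr hc h⟩

theorem lin_all_iff [Nontrivial V] (hr : r.Prime) (hF : (r : F) ≠ 0) (Fx : End F V → Prop)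
    (G : Multiset ℕ → Prop) (hs : ∀ x (c : F), c ≠ 0 → Fx x → Fx (c • x))
    (hG : ∀ x : End F V, x.IsSemisimple → (Fx x ↔ G (dg x))) :
    (∀ x : End F V, LinearMap.det x = 1 → (∃ c, x ^ r = algebraMap F _ c) → Fx x) ↔
      (∀ e a, e + io r F * a = finrank F V →
        G (Multiset.replicate e 1 + Multiset.replicate a (io r F))) ∧
      (NP r F (finrank F V) → G (Multiset.replicate (finrank F V / r) r)) := by
  constructor
  · refine fun H => ⟨fun e a h => ?_, fun ⟨⟨k, hk⟩, c, hc, h⟩ => ?_⟩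
    · have key : ∀ y : End F V, y ^ r = 1 → LinearMap.det y = 1 → G (dg y) := fun y h1 h2 =>
        (hG y (ss_of_pow' hF h1)).1 (H y h2 ⟨1, by simpa using h1⟩)
      by_cases hi : io r F = 1
      · have h1 := key 1 (one_pow _) (map_one _)
        have h2 := finrank_eig_add (y := (1 : End F V)) hr hF (one_pow _)
        rw [dg_of_pow hr hF (one_pow _), hi, ← Multiset.replicate_add] at h1
        rw [hi, ← Multiset.replicate_add]
        rw [hi] at h h2
        convert h1 using 2; omega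
      · obtain ⟨y, h1, rfl⟩ := exists_pow_card (V := V) hr hF (a := a) (by omega)
        have h2 := key y h1 (det_eq_one_of_io hr hi h1)
        have h3 := finrank_eig_add hr hF h1
        rwa [dg_of_pow hr hF h1, show finrank F (eig y 1) = e by omega] at h2
    · obtain ⟨x, hx⟩ := exists_nonpow hr hc hk
      obtain ⟨-, h1, h2, h3⟩ := nonpow_props hr.ne_zero hx
      have e : finrank F V / r = k := by rw [hk, Nat.mul_div_cancel_left _ hr.pos]
      rw [e] at h ⊢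
      have h0 : c ≠ 0 := fun h' => hc 0 (by rw [h', zero_pow hr.ne_zero])
      exact h2 ▸ (hG x (ss_of_pow_scalar hF h0 h1)).1 (H x (h3.trans h) ⟨c, h1⟩)
  · rintro ⟨H1, H2⟩ x hd ⟨c, hc⟩
    rcases lin_cases hr (isUnit_of_det hd) hc with ⟨b, y, hb, hy, rfl⟩ | ⟨h, k, hk⟩
    · exact hs y b hb ((hG y (ss_of_pow' hF hy)).2
        (dg_of_pow hr hF hy ▸ H1 _ _ (finrank_eig_add hr hF hy)))
    · obtain ⟨h0, h1, h2, h3⟩ := nonpow_props hr.ne_zero hk
      have e : finrank F V / r = k := by rw [h0, Nat.mul_div_cancel_left _ hr.pos]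
      refine (hG x (ss_of_pow_scalar hF (ne_zero_of_pow (isUnit_of_det hd) hc) hc)).2 ?_
      rw [h2, ← e]
      exact H2 ⟨⟨k, h0⟩, c, h, by rw [e, ← h3, hd]⟩

theorem lin_all_char [Nontrivial V] (p : ℕ) [Fact p.Prime] [CharP F p] (Fx : End F V → Prop)
    (hs : ∀ x (c : F), c ≠ 0 → Fx x → Fx (c • x)) :
    (∀ x : End F V, LinearMap.det x = 1 → (∃ c, x ^ p = algebraMap F _ c) → Fx x) ↔
      ∀ y : End F V, y ^ p = 1 → Fx y := by
  refine ⟨fun H y hy => H y (det_unip (nil_of_pow_char p hy)) ⟨1, by simpa using hy⟩, ?_⟩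
  rintro H x hd ⟨c, hc⟩
  rcases lin_cases Fact.out (isUnit_of_det hd) hc with ⟨b, y, hb, hy, rfl⟩ | ⟨h, -⟩
  · exact hs y b hb (H y hy)
  · obtain ⟨b, hb⟩ := exists_char_root p c
    exact absurd hb (h b)

section Fix

variable {U W : Submodule F V}

theorem le_eig_of_lt (hr : r.Prime) (hF : (r : F) ≠ 0) (h : y ^ r = 1) (hU : Inv y U)
    (hlt : finrank F U < io r F) : U ≤ eig y 1 := by
  have h1 := restrict_pow_eq_one hU h
  have h2 := io_mul_le hr hF h1
  have h3 : (fac (y.restrict hU)).card = 0 := by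
    by_contra h0
    have := Nat.le_mul_of_pos_right (io r F) (Nat.pos_of_ne_zero h0)
    omega
  have h4 := (fac_eq_zero_iff (ss_of_pow' hF h1)).1 (Multiset.card_eq_zero.1 h3)
  intro v hv
  rw [mem_eig, one_smul]
  exact congrArg Subtype.val (LinearMap.congr_fun h4 ⟨v, hv⟩)

theorem rng_le_of_lt (hr : r.Prime) (hF : (r : F) ≠ 0) (h : y ^ r = 1) (hW : Inv y W)
    (hlt : finrank F V < finrank F W + io r F) : rng y 1 ≤ W := by
  obtain ⟨T, h1, h2⟩ := exists_inv_compl (ss_of_pow' hF h) hW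
  have h3 := Submodule.finrank_add_eq_of_isCompl h2
  have h4 := le_eig_of_lt hr hF h h1 (by omega)
  intro v hv
  obtain ⟨u, rfl⟩ := mem_rng.1 hv
  obtain ⟨a, ha, b, hb, rfl⟩ := Submodule.mem_sup.1 (h2.sup_eq_top ▸ Submodule.mem_top (x := u))
  rw [map_add, mem_eig.1 (h4 hb), one_smul, one_smul, add_sub_add_right_eq_sub]
  exact W.sub_mem (hW a ha) ha

omit [FiniteDimensional F V] [Finite F] in
theorem Inv.of_rng_le (h : rng y 1 ≤ W) : Inv y W := fun v hv => by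
  have := W.add_mem (h (mem_rng.2 ⟨v, rfl⟩)) hv
  rwa [one_smul, sub_add_cancel] at this

omit [Finite F] [FiniteDimensional F V] in
theorem exists_equiv_of_isUnit (h : IsUnit x) : ∃ e : V ≃ₗ[F] V, e.toLinearMap = x :=
  ⟨LinearEquiv.ofBijective x ((Module.End.isUnit_iff x).1 h), rfl⟩

/-- Automorphisms fixing `R` pointwise and moving vectors along `E`. -/
def cen (E R : Submodule F V) : Subgroup (V ≃ₗ[F] V) where
  carrier := {g | (∀ v ∈ R, g v = v) ∧ ∀ v, g v - v ∈ E}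
  mul_mem' {a b} ha hb := ⟨fun v hv => by simp [hb.1 v hv, ha.1 v hv], fun v => by
    simpa using E.add_mem (ha.2 (b v)) (hb.2 v)⟩
  one_mem' := ⟨fun _ _ => rfl, fun v => by simp⟩
  inv_mem' {a} ha := ⟨fun v hv => a.injective (by simp [ha.1 v hv]), fun v => by
    simpa using E.neg_mem (ha.2 (a⁻¹ v))⟩

instance : Finite (V ≃ₗ[F] V) :=
  haveI : Finite V := Module.finite_of_finite F
  Finite.of_injective _ DFunLike.coe_injective

instance : Finite (Submodule F V) :=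
  haveI : Finite V := Module.finite_of_finite F
  Finite.of_injective _ SetLike.coe_injective

theorem io_le_of_pow (hr : r.Prime) (hF : (r : F) ≠ 0) (h : y ^ r = 1) (h1 : y ≠ 1) :
    io r F ≤ finrank F (rng y 1) := by
  rw [finrank_rng_of_pow hr hF h]
  exact Nat.le_mul_of_pos_right _ (Multiset.card_pos.2 fun h0 =>
    h1 ((fac_eq_zero_iff (ss_of_pow' hF h)).1 h0))

theorem not_dvd_cen (hr : r.Prime) (hF : (r : F) ≠ 0) {E R : Submodule F V}
    (h : finrank F E < io r F) : ¬ r ∣ Nat.card (cen E R) := fun hd => by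
  haveI := Fact.mk hr
  obtain ⟨g, hg⟩ := exists_prime_orderOf_dvd_card' r hd
  let φ := LinearEquiv.automorphismGroup.toLinearMapMonoidHom.comp (cen E R).subtype
  have h1 : φ g ^ r = 1 := by rw [← map_pow, ← hg, pow_orderOf_eq_one, map_one]
  have h2 := io_le_of_pow hr hF h1 fun h0 => hr.one_lt.ne' (hg ▸ orderOf_eq_one_iff.2
    (Subtype.ext (LinearEquiv.toLinearMap_injective h0)))
  have h3 : rng (φ g) 1 ≤ E := fun v hv => by
    obtain ⟨u, rfl⟩ := mem_rng.1 hv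
    rw [one_smul]; exact g.2.2 u
  have := Submodule.finrank_mono h3
  omega

theorem not_dvd_pairs (hr : r.Prime) (hF : (r : F) ≠ 0)
    (P : Submodule F V × Submodule F V → Prop)
    (hP : ∀ (g : V ≃ₗ[F] V) s, P s → P (s.1.map g.toLinearMap, s.2.map g.toLinearMap))
    (h1 : ∀ s, P s → finrank F s.1 < io r F ∧ finrank F V < finrank F s.2 + io r F)
    (h2 : ∀ (E R : Submodule F V) s t, IsCompl E R → P s → P t → s.1 ≤ E → t.1 ≤ E → R ≤ s.2 →
      R ≤ t.2 → ∃ h : E ≃ₗ[F] E, (s.1.comap E.subtype).map h.toLinearMap = t.1.comap E.subtype ∧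
        (s.2.comap E.subtype).map h.toLinearMap = t.2.comap E.subtype)
    (hy : y ^ r = 1) (hE : finrank F (eig y 1) < io r F)
    (h0 : ∃ s, P s ∧ Inv y s.1 ∧ Inv y s.2) : ¬ r ∣ Nat.card {s // P s} := by
  obtain ⟨s₀, hs₀, h3, h4⟩ := h0
  have hu := isUnit_of_pow hr hy
  have hc := isCompl_eig_rng (ss_of_pow' hF hy) 1
  have key : ∀ s, P s → Inv y s.1 → Inv y s.2 → s.1 ≤ eig y 1 ∧ rng y 1 ≤ s.2 := fun s a b c =>
    ⟨le_eig_of_lt hr hF hy b (h1 s a).1, rng_le_of_lt hr hF hy c (h1 s a).2⟩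
  obtain ⟨h5, h6⟩ := key s₀ hs₀ h3 h4
  refine not_dvd_of_fix (G := End F V) (fun g s => (s.1.map g, s.2.map g))
    (fun s => Prod.ext (Submodule.map_id _) (Submodule.map_id _))
    (fun g h s => by simp [Module.End.mul_eq_comp, Submodule.map_comp]) P hr (k := 1) (y := y)
    (fun s hs => ?_) (by rwa [pow_one])
    (LinearEquiv.automorphismGroup.toLinearMapMonoidHom.comp (cen _ (rng y 1)).subtype)
    (not_dvd_cen hr hF hE) (s₀ := s₀) fun s => ⟨fun ⟨hs, h7⟩ => ?_, ?_⟩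
  · obtain ⟨e, rfl⟩ := exists_equiv_of_isUnit hu
    exact hP e s hs
  · obtain ⟨h8, h9⟩ := key s hs ((map_eq_iff_inv hu).1 (congrArg Prod.fst h7))
      ((map_eq_iff_inv hu).1 (congrArg Prod.snd h7))
    obtain ⟨h, ha, hb⟩ := h2 _ _ s₀ s hc hs₀ hs h5 h8 h6 h9
    obtain ⟨g, hg, hg'⟩ := exists_glue hc hc h (LinearEquiv.refl F _)
    refine ⟨⟨g, fun v hv => hg' ⟨v, hv⟩, fun v => ?_⟩,
      Prod.ext (map_eq_of_comap h hg h5 h8 ha) ?_⟩
    · obtain ⟨a, ha, b, hb, rfl⟩ :=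
        Submodule.mem_sup.1 (hc.sup_eq_top ▸ Submodule.mem_top (x := v))
      rw [map_add, hg ⟨a, ha⟩, hg' ⟨b, hb⟩]
      simpa using (eig y 1).sub_mem (h ⟨a, ha⟩).2 ha
    · have e : ∀ T : Submodule F V, rng y 1 ≤ T → T = rng y 1 ⊔ eig y 1 ⊓ T := fun T hT => by
        rw [← sup_inf_assoc_of_le _ hT, hc.symm.sup_eq_top, top_inf_eq]
      change s₀.2.map g.toLinearMap = s.2
      rw [e _ h6, e _ h9, Submodule.map_sup, map_eq_of_apply (LinearEquiv.refl F _) hg',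
        map_eq_of_comap h hg inf_le_left inf_le_left (by simpa using hb)]
  · rintro ⟨g, rfl⟩
    refine ⟨hP g.1 s₀ hs₀, Prod.ext ((map_eq_iff_inv hu).2 (Inv.of_le_eig (c := 1) ?_))
      ((map_eq_iff_inv hu).2 (Inv.of_rng_le fun v hv => ⟨v, h6 hv, g.2.1 v hv⟩))⟩
    rintro _ ⟨v, hv, rfl⟩
    simpa using (eig y 1).add_mem (g.2.2 v) (h5 hv)

omit [Finite F] in
theorem finrank_comap_of_le {E R T : Submodule F V} (hc : IsCompl E R) (h : R ≤ T) :
    finrank F (T.comap E.subtype) + finrank F R = finrank F T := by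
  have h1 := Submodule.finrank_sup_add_finrank_inf_eq E T
  have h2 := Submodule.finrank_add_eq_of_isCompl hc
  rw [eq_top_iff.2 (hc.sup_eq_top.ge.trans (sup_le_sup_left h _)), finrank_top] at h1
  have h3 := finrank_comap_subtype (U := E ⊓ T) (E := E) inf_le_left
  rw [Submodule.comap_inf, Submodule.comap_subtype_self, top_inf_eq] at h3
  omega

omit [Finite F] [FiniteDimensional F V] in
theorem finrank_map_equiv (e : V ≃ₗ[F] V') (U : Submodule F V) :
    finrank F (U.map e.toLinearMap) = finrank F U := LinearEquiv.finrank_map_eq e U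

theorem exists_max_pow (hr : r.Prime) (hF : (r : F) ≠ 0) :
    ∃ y : End F V, y ^ r = 1 ∧ finrank F (eig y 1) = finrank F V % io r F ∧
      (fac y).card = finrank F V / io r F := by
  obtain ⟨y, h1, h2⟩ := exists_pow_card (V := V) hr hF (Nat.mul_div_le _ _)
  have h3 := finrank_eig_add hr hF h1
  have := Nat.mod_add_div (finrank F V) (io r F)
  exact ⟨y, h1, by rw [h2] at h3; omega, h2⟩

theorem not_dvd_flags (hr : r.Prime) (hF : (r : F) ≠ 0) {m k : ℕ} (hm : m < io r F)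
    (hk : finrank F V < k + io r F) (hy : y ^ r = 1) (hE : finrank F (eig y 1) < io r F)
    (h0 : ∃ U W : Submodule F V, U ≤ W ∧ finrank F U = m ∧ finrank F W = k ∧ Inv y U ∧ Inv y W) :
    ¬ r ∣ Nat.card {s : Submodule F V × Submodule F V //
      s.1 ≤ s.2 ∧ finrank F s.1 = m ∧ finrank F s.2 = k} := by
  obtain ⟨U, W, a, b, c, d⟩ := h0
  refine not_dvd_pairs hr hF _ (fun g s hs => ⟨Submodule.map_mono hs.1,
    (finrank_map_equiv _ _).trans hs.2.1, (finrank_map_equiv _ _).trans hs.2.2⟩)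
    (fun s hs => by rw [hs.2.1, hs.2.2]; exact ⟨hm, hk⟩) (fun E R s t hc hs ht h1 h2 h3 h4 => ?_)
    hy hE ⟨(U, W), ⟨a, b, c⟩, d⟩
  have h5 := finrank_comap_of_le hc h3
  have h6 := finrank_comap_of_le hc h4
  exact exists_equiv_flag rfl (Submodule.comap_mono hs.1) (Submodule.comap_mono ht.1)
    (by rw [finrank_comap_subtype h1, finrank_comap_subtype h2, hs.2.1, ht.2.1])
    (by have := hs.2.2; have := ht.2.2; omega)

omit [Finite F] [FiniteDimensional F V] in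
theorem isCompl_comap {E : Submodule F V} (h : IsCompl U W) (h1 : U ≤ E) :
    IsCompl (U.comap E.subtype) (W.comap E.subtype) := by
  constructor
  · rw [disjoint_iff, ← Submodule.comap_inf, h.inf_eq_bot, Submodule.comap_bot,
      Submodule.ker_subtype]
  · rw [codisjoint_iff, eq_top_iff]
    rintro ⟨v, hv⟩ -
    obtain ⟨a, ha, b, hb, rfl⟩ := Submodule.mem_sup.1 (h.sup_eq_top ▸ Submodule.mem_top (x := v))
    exact Submodule.mem_sup.2 ⟨⟨a, h1 ha⟩, ha, ⟨b, (E.add_mem_iff_right (h1 ha)).1 hv⟩, hb, rfl⟩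

theorem not_dvd_compl (hr : r.Prime) (hF : (r : F) ≠ 0) {m : ℕ} (hm : m < io r F)
    (hy : y ^ r = 1) (hE : finrank F (eig y 1) < io r F)
    (h0 : ∃ U W : Submodule F V, IsCompl U W ∧ finrank F U = m ∧ Inv y U ∧ Inv y W) :
    ¬ r ∣ Nat.card {s : Submodule F V × Submodule F V // IsCompl s.1 s.2 ∧ finrank F s.1 = m} := by
  obtain ⟨U, W, a, b, d⟩ := h0
  exact not_dvd_pairs hr hF _ (fun g s hs => ⟨(Submodule.orderIsoMapComap g).isCompl hs.1,
    (finrank_map_equiv _ _).trans hs.2⟩) (fun s hs => by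
      have := Submodule.finrank_add_eq_of_isCompl hs.1
      have := hs.2
      omega) (fun E R s t hc hs ht h1 h2 h3 h4 => exists_equiv_compl rfl (isCompl_comap hs.1 h1)
      (isCompl_comap ht.1 h2)
      (by rw [finrank_comap_subtype h1, finrank_comap_subtype h2, hs.2, ht.2]))
    hy hE ⟨(U, W), ⟨a, b⟩, d⟩

theorem not_char_dvd_flags (p : ℕ) [Fact p.Prime] [CharP F p] {m k : ℕ} (hm : m ≤ k)
    (hk : k ≤ finrank F V) : ¬ p ∣ Nat.card {s : Submodule F V × Submodule F V //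
      s.1 ≤ s.2 ∧ finrank F s.1 = m ∧ finrank F s.2 = k} := by
  obtain ⟨u, hu⟩ := exists_reg (F := F) (V := V)
  obtain ⟨j, hj⟩ := exists_pow_char_of_nil p hu.nil
  have h1 := isUnit_of_unip hu.nil
  have h2 : ∀ U, Inv u U ↔ Inv (u - 1) U := fun U => forall₂_congr fun v hv =>
    (U.sub_mem_iff_left hv).symm
  have h3 : ∀ j, Inv u (LinearMap.ker ((u - 1) ^ j)) := fun j => (h2 _).2 fun v hv => by
    rw [LinearMap.mem_ker, ← Module.End.mul_apply, ← pow_succ, pow_succ', Module.End.mul_apply,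
      LinearMap.mem_ker.1 hv, map_zero]
  refine not_dvd_of_unique _ (fun s => (s.1.map u, s.2.map u)) (fun s hs => ?_) Fact.out (k := j)
    (fun s _ => ?_) ⟨(LinearMap.ker ((u - 1) ^ m), LinearMap.ker ((u - 1) ^ k)),
      ⟨⟨ker_pow_mono _ hm, hu.finrank_ker (hm.trans hk), hu.finrank_ker hk⟩,
      Prod.ext ((map_eq_iff_inv h1).2 (h3 _)) ((map_eq_iff_inv h1).2 (h3 _))⟩, fun s hs => ?_⟩
  · obtain ⟨e, rfl⟩ := exists_equiv_of_isUnit h1
    exact ⟨Submodule.map_mono hs.1, (finrank_map_equiv _ _).trans hs.2.1,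
      (finrank_map_equiv _ _).trans hs.2.2⟩
  · rw [iterate_act (G := End F V) (fun g (s : Submodule F V × Submodule F V) =>
      (s.1.map g, s.2.map g)) (fun s => Prod.ext (Submodule.map_id _) (Submodule.map_id _))
      (fun g h s => by simp [Module.End.mul_eq_comp, Submodule.map_comp]), hj]
    simp [Module.End.one_eq_id]
  · exact Prod.ext
      (hs.1.2.1 ▸ hu.eq_ker ((h2 _).1 ((map_eq_iff_inv h1).1 (congrArg Prod.fst hs.2))))
      (hs.1.2.2 ▸ hu.eq_ker ((h2 _).1 ((map_eq_iff_inv h1).1 (congrArg Prod.snd hs.2))))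

omit [Finite F] in
theorem card_sub_eq (m : ℕ) : Nat.card {U : Submodule F V // finrank F U = m} =
    Nat.card {s : Submodule F V × Submodule F V //
      s.1 ≤ s.2 ∧ finrank F s.1 = m ∧ finrank F s.2 = finrank F V - 0} :=
  Nat.card_congr ⟨fun U => ⟨(U, ⊤), le_top, U.2, by simp⟩, fun s => ⟨s.1.1, s.2.2.1⟩,
    fun _ => rfl, fun s => Subtype.ext (Prod.ext rfl
      (Submodule.eq_top_of_finrank_eq s.2.2.2).symm)⟩

end Fix

section Arith

theorem mod_eq_of_lt {e i j m : ℕ} (h : e < i) (h' : e + i * j = m) : m % i = e := by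
  rw [← h', Nat.add_mul_mod_self_left, Nat.mod_eq_of_lt h]

theorem mod_le_of_add {e i a n : ℕ} (h : e + i * a = n) : n % i ≤ e := by
  rw [← h, Nat.add_mul_mod_self_left]; exact Nat.mod_le _ _

theorem ar_sub {i m n : ℕ} (hi : 0 < i) (h : m ≤ n) :
    (∀ e a, e + i * a = n → ∃ e' ≤ e, ∃ j ≤ a, e' + i * j = m) ↔ m % i ≤ n % i := by
  constructor
  · intro H
    obtain ⟨e, h1, j, -, h2⟩ := H _ _ (Nat.mod_add_div n i)
    rwa [mod_eq_of_lt (h1.trans_lt (Nat.mod_lt _ hi)) h2]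
  · intro H e a h1
    by_cases h2 : m / i ≤ a
    · exact ⟨_, H.trans (mod_le_of_add h1), _, h2, Nat.mod_add_div m i⟩
    · have := Nat.mul_le_mul_left i (not_le.1 h2).le
      have := Nat.mul_div_le m i
      exact ⟨m - i * a, by omega, a, le_rfl, by omega⟩

theorem ar_flag {i m n : ℕ} (hi : 0 < i) (h : 2 * m ≤ n) :
    (∀ e a, e + i * a = n → ∃ e₁ e₂ j₁ j₂, e₁ + e₂ ≤ e ∧ j₁ + j₂ ≤ a ∧ e₁ + i * j₁ = m ∧
      e₂ + i * j₂ = m) ↔ 2 * (m % i) ≤ n % i := by
  constructor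
  · intro H
    obtain ⟨e₁, e₂, j₁, j₂, h1, -, h2, h3⟩ := H _ _ (Nat.mod_add_div n i)
    have := Nat.mod_lt n hi
    have h4 := mod_eq_of_lt (by omega) h2
    have h5 := mod_eq_of_lt (by omega) h3
    omega
  · intro H e a h1
    have h3 := Nat.mod_add_div m i
    have h4 := mod_le_of_add h1
    by_cases h2 : 2 * (m / i) ≤ a
    · exact ⟨_, _, _, _, by omega, by omega, h3, h3⟩
    · obtain ⟨j₁, j₂, rfl, h5, h6⟩ : ∃ j₁ j₂, a = j₁ + j₂ ∧ j₁ ≤ m / i ∧ j₂ ≤ m / i :=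
        ⟨min a (m / i), a - min a (m / i), by omega, by omega, by omega⟩
      have := Nat.mul_le_mul_left i h5
      have := Nat.mul_le_mul_left i h6
      rw [mul_add] at h1
      exact ⟨m - i * j₁, m - i * j₂, j₁, j₂, by omega, le_rfl, by omega, by omega⟩

theorem rep_sub_iff {r m n : ℕ} (hr : 0 < r) (h : m ≤ n) :
    (∃ ν ≤ Multiset.replicate (n / r) r, ν.sum = m) ↔ r ∣ m := by
  have := exists_le_rep_iff (e := 0) (a := n / r) (i := r) (m := m)
  rw [Multiset.replicate_zero, zero_add] at this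
  rw [this]
  exact ⟨fun ⟨e, h1, j, _, h2⟩ => ⟨j, by omega⟩, fun ⟨j, hj⟩ => ⟨0, le_rfl, j,
    (Nat.le_div_iff_mul_le hr).2 (by rw [mul_comm]; omega), by omega⟩⟩

theorem rep_flag_iff {r m n : ℕ} (hr : 0 < r) (h : 2 * m ≤ n) :
    (∃ ν μ, ν + μ ≤ Multiset.replicate (n / r) r ∧ ν.sum = m ∧ μ.sum = m) ↔ r ∣ m := by
  have := exists_two_le_rep_iff (e := 0) (a := n / r) (i := r) (m := m)
  rw [Multiset.replicate_zero, zero_add] at this
  rw [this]
  exact ⟨fun ⟨e, _, j, _, h1, _, h2, _⟩ => ⟨j, by omega⟩, fun ⟨j, hj⟩ => ⟨0, 0, j, j, le_rfl,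
    (Nat.le_div_iff_mul_le hr).2 (by rw [mul_comm, mul_add]; omega), by omega, by omega⟩⟩

theorem lin_logic {i m : ℕ} {A C N R : Prop} (hi : 0 < i) (hN : N ↔ i = 1 ∧ ¬ C)
    (h1 : i = 1 → A) (h2 : A → 2 ≤ i → i ≤ m) :
    A ∧ (N → R) ↔ (i = 1 ∧ (R ∨ C)) ∨ (2 ≤ i ∧ i ≤ m ∧ A) := by
  rcases eq_or_ne i 1 with h | h
  · have := h1 h
    have h3 : ¬ 2 ≤ i := by omega
    tauto
  · have h3 : 2 ≤ i := by omega
    tauto

theorem two_parts {μ : Multiset ℕ} (h : ∀ a ∈ μ, 0 < a ∧ a ≤ 2) :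
    μ = Multiset.replicate (μ.count 1) 1 + Multiset.replicate (μ.count 2) 2 := by
  ext a
  rw [Multiset.count_add, Multiset.count_replicate, Multiset.count_replicate]
  by_cases h1 : 1 = a
  · subst h1; simp
  by_cases h2 : 2 = a
  · subst h2; simp
  rw [if_neg h1, if_neg h2]
  exact Multiset.count_eq_zero.2 fun ha => by have := h a ha; omega

theorem part_two_iff {m n : ℕ} (h : m ≤ n) : (∀ μ : Multiset ℕ, (∀ a ∈ μ, 0 < a ∧ a ≤ 2) →
    μ.sum = n → ∃ ν ≤ μ, ν.sum = m) ↔ Odd n ∨ Even m := by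
  rw [show Odd n ∨ Even m ↔ m % 2 ≤ n % 2 by rw [Nat.odd_iff, Nat.even_iff]; omega,
    ← ar_sub two_pos h]
  refine ⟨fun H e a h1 => exists_le_rep_iff.1 (H _ (fun b hb => ?_) (by simp; omega)),
    fun H μ h1 h2 => ?_⟩
  · rcases Multiset.mem_add.1 hb with hb | hb <;> rw [Multiset.eq_of_mem_replicate hb] <;> omega
  · rw [two_parts h1] at h2 ⊢
    exact exists_le_rep_iff.2 (H _ _ (by simp at h2; omega))

end Arith

section Main

variable {n m : ℕ} (p : ℕ) [Fact p.Prime] [CharP F p]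

/-- The arithmetic condition for the absence of non-split elements. -/
def LC (r q n : ℕ) : Prop :=
  padicValNat r n ≤ padicValNat r (q - 1) ∧ (r = 2 → Even n → q % 4 = 1)

theorem lin_sub (hn : finrank F V = n) (hm : 1 ≤ m) (hmn : m ≤ n) (hr : r.Prime)
    (hΩ : r ∣ Nat.card {U : Submodule F V // finrank F U = m}) :
    (∀ x : End F V, LinearMap.det x = 1 → (∃ c, x ^ r = algebraMap F _ c) →
      ∃ U : Submodule F V, finrank F U = m ∧ Inv x U) ↔ r ≠ p ∧
      ((io r F = 1 ∧ (r ∣ m ∨ LC r (Nat.card F) n)) ∨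
        (2 ≤ io r F ∧ io r F ≤ m ∧ m % io r F ≤ n % io r F)) := by
  subst hn
  haveI : Nontrivial V := Module.nontrivial_of_finrank_pos (R := F) (by omega)
  rw [card_sub_eq] at hΩ
  have hp : r ≠ p := by
    rintro rfl
    exact not_char_dvd_flags r (by omega) (by omega) hΩ
  have hF := cast_ne_zero_of_ne (F := F) hr hp
  have hi := io_pos hr hF
  rw [and_iff_right hp, lin_all_iff hr hF _ (fun μ => ∃ ν ≤ μ, ν.sum = m)
    (fun x c hc ⟨U, h1, h2⟩ => ⟨U, h1, (inv_smul hc).2 h2⟩) (fun x hx => sub_iff hx)]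
  simp only [exists_le_rep_iff]
  rw [ar_sub hi hmn, rep_sub_iff hr.pos hmn]
  refine lin_logic hi (np_iff hr hF (by omega)) (fun h => by rw [h]; omega) fun h _ => ?_
  by_contra hlt
  obtain ⟨y, h1, h2, h3⟩ := exists_max_pow (V := V) hr hF
  obtain ⟨U, h4, h5⟩ := (sub_iff (ss_of_pow' hF h1)).2 (dg_of_pow hr hF h1 ▸ exists_le_rep_iff.2
    ((ar_sub hi hmn).2 h _ _ (finrank_eig_add hr hF h1)))
  exact not_dvd_flags hr hF (by omega) (by omega) h1 (h2 ▸ Nat.mod_lt _ hi)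
    ⟨U, ⊤, le_top, h4, by simp, h5, fun _ _ => trivial⟩ hΩ

theorem lin_flag (hn : finrank F V = n) (hm : 1 ≤ m) (hmn : 2 * m ≤ n) (hr : r.Prime)
    (hΩ : r ∣ Nat.card {s : Submodule F V × Submodule F V //
      s.1 ≤ s.2 ∧ finrank F s.1 = m ∧ finrank F s.2 = n - m}) :
    (∀ x : End F V, LinearMap.det x = 1 → (∃ c, x ^ r = algebraMap F _ c) →
      ∃ U W : Submodule F V, U ≤ W ∧ finrank F U = m ∧ finrank F W = n - m ∧ Inv x U ∧
        Inv x W) ↔ r ≠ p ∧
      ((io r F = 1 ∧ (r ∣ m ∨ LC r (Nat.card F) n)) ∨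
        (2 ≤ io r F ∧ io r F ≤ m ∧ 2 * (m % io r F) ≤ n % io r F)) := by
  haveI : Nontrivial V := Module.nontrivial_of_finrank_pos (R := F) (by omega)
  have hp : r ≠ p := by
    rintro rfl
    exact not_char_dvd_flags r (by omega) (by omega) hΩ
  have hF := cast_ne_zero_of_ne (F := F) hr hp
  have hi := io_pos hr hF
  rw [and_iff_right hp, lin_all_iff hr hF _ (fun μ => ∃ ν ν', ν + ν' ≤ μ ∧ ν.sum = m ∧ ν'.sum = m)
    (fun x c hc ⟨U, W, a, b, d, h1, h2⟩ => ⟨U, W, a, b, d, (inv_smul hc).2 h1, (inv_smul hc).2 h2⟩)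
    (fun x hx => flag_iff hx hn (by omega))]
  simp only [exists_two_le_rep_iff]
  rw [hn, ar_flag hi hmn, rep_flag_iff hr.pos hmn]
  refine lin_logic hi (np_iff hr hF (by omega)) (fun h => by rw [h]; omega) fun h _ => ?_
  by_contra hlt
  obtain ⟨y, h1, h2, h3⟩ := exists_max_pow (V := V) hr hF
  exact not_dvd_flags hr hF (by omega) (by omega) h1 (h2 ▸ Nat.mod_lt _ hi)
    ((flag_iff (ss_of_pow' hF h1) hn (by omega)).2 (dg_of_pow hr hF h1 ▸ exists_two_le_rep_iff.2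
    ((ar_flag hi hmn).2 h _ _ (hn ▸ finrank_eig_add hr hF h1)))) hΩ

omit [Finite F] in
theorem all_unip_iff (G : Multiset ℕ → Prop) : (∀ y : End F V, y ^ p = 1 → G (dg y)) ↔
    ∀ μ : Multiset ℕ, (∀ a ∈ μ, 0 < a ∧ a ≤ p) → μ.sum = finrank F V → G μ := by
  refine ⟨fun H μ h1 h2 => ?_, fun H y hy => ?_⟩
  · obtain ⟨y, hy⟩ := exists_unip (fun e he => (h1 e he).1) h2
    exact dg_unip hy ▸ H y (by
      simpa using (unip_pow_iff p hy 1).2 fun e he => by simpa using (h1 e he).2)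
  · obtain ⟨t, ht⟩ := exists_hasED_unip (nil_of_pow_char p hy)
    exact dg_unip ht ▸ H t (fun a ha => ⟨pos_of_unip ht a ha, by
      simpa using (unip_pow_iff p ht 1).1 (by simpa using hy) a ha⟩) (sum_of_unip ht)

theorem lin_pair (hn : finrank F V = n) (hm : 1 ≤ m) (hmn : m ≤ n) (hr : r.Prime)
    (hΩ : r ∣ Nat.card {s : Submodule F V × Submodule F V //
      IsCompl s.1 s.2 ∧ finrank F s.1 = m}) :
    (∀ x : End F V, LinearMap.det x = 1 → (∃ c, x ^ r = algebraMap F _ c) →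
      ∃ U W : Submodule F V, IsCompl U W ∧ finrank F U = m ∧ Inv x U ∧ Inv x W) ↔
      (r = p ∧ 2 < p ∧ ∀ μ : Multiset ℕ, (∀ a ∈ μ, 0 < a ∧ a ≤ p) → μ.sum = n →
        ∃ ν ≤ μ, ν.sum = m) ∨ (r = p ∧ p = 2 ∧ (Odd n ∨ Even m)) ∨ (r ≠ p ∧
      ((io r F = 1 ∧ (r ∣ m ∨ LC r (Nat.card F) n)) ∨
        (2 ≤ io r F ∧ io r F ≤ m ∧ m % io r F ≤ n % io r F))) := by
  subst hn
  haveI : Nontrivial V := Module.nontrivial_of_finrank_pos (R := F) (by omega)
  have hs : ∀ (x : End F V) (c : F), c ≠ 0 → (∃ U W : Submodule F V, IsCompl U W ∧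
      finrank F U = m ∧ Inv x U ∧ Inv x W) → ∃ U W : Submodule F V, IsCompl U W ∧
      finrank F U = m ∧ Inv (c • x) U ∧ Inv (c • x) W :=
    fun x c hc ⟨U, W, a, b, h1, h2⟩ => ⟨U, W, a, b, (inv_smul hc).2 h1, (inv_smul hc).2 h2⟩
  by_cases hp : r = p
  · subst hp
    rw [lin_all_char r _ hs]
    simp only [pair_iff]
    rw [all_unip_iff r fun μ => ∃ ν ≤ μ, ν.sum = m]
    rcases hr.eq_two_or_odd' with rfl | ho
    · simp [part_two_iff hmn]
    · have h2 : r ≠ 2 := by rintro rfl; exact absurd ho (by decide)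
      have := hr.two_le
      simp [h2, show 2 < r by omega]
  have hF := cast_ne_zero_of_ne (F := F) hr hp
  have hi := io_pos hr hF
  simp only [hp, false_and, false_or, ne_eq, not_false_eq_true, true_and]
  rw [lin_all_iff hr hF _ (fun μ => ∃ ν ≤ μ, ν.sum = m) hs (fun x hx => pair_iff)]
  simp only [exists_le_rep_iff]
  rw [ar_sub hi hmn, rep_sub_iff hr.pos hmn]
  refine lin_logic hi (np_iff hr hF (by omega)) (fun h => by rw [h]; omega) fun h _ => ?_
  by_contra hlt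
  obtain ⟨y, h1, h2, h3⟩ := exists_max_pow (V := V) hr hF
  exact not_dvd_compl hr hF (by omega) h1 (h2 ▸ Nat.mod_lt _ hi) (pair_iff.2 (dg_of_pow hr hF h1 ▸
    exists_le_rep_iff.2 ((ar_sub hi hmn).2 h _ _ (finrank_eig_add hr hF h1)))) hΩ

end Main

section Mat

variable {ι : Type*} [Fintype ι] [DecidableEq ι]

omit [Finite F] in
theorem toLin'_eq_scalar {A : Matrix ι ι F} {c : F} :
    A = c • (1 : Matrix ι ι F) ↔ Matrix.toLin' A = algebraMap F (End F (ι → F)) c := by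
  rw [← Matrix.toLin'.injective.eq_iff, map_smul, Matrix.toLin'_one,
    Algebra.algebraMap_eq_smul_one]; rfl

omit [Finite F] in
theorem sl_iff (P : End F (ι → F) → Prop) (h0 : ∀ c, P (algebraMap F _ c)) :
    (∀ x : Matrix.SpecialLinearGroup ι F,
      (∃ c : F, ((x ^ r : Matrix.SpecialLinearGroup ι F) : Matrix ι ι F) = c • (1 : Matrix ι ι F)) →
      (∀ c : F, (x : Matrix ι ι F) ≠ c • (1 : Matrix ι ι F)) → P (Matrix.toLin' (x : Matrix ι ι F))) ↔
    ∀ x : End F (ι → F), LinearMap.det x = 1 → (∃ c, x ^ r = algebraMap F _ c) → P x := by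
  simp only [ne_eq, toLin'_eq_scalar, Matrix.SpecialLinearGroup.coe_pow, Matrix.toLin'_pow]
  refine ⟨fun H x h1 h2 => ?_, fun H x h1 _ => H _ (by simp) h1⟩
  by_cases h : ∃ c, x = algebraMap F _ c
  · obtain ⟨c, rfl⟩ := h; exact h0 c
  · push Not at h
    simpa using H ⟨LinearMap.toMatrix' x, by simpa using h1⟩ (by simpa using h2) (by simpa using h)

end Mat

end Cfsg.Lib.Elu
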