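import Cfsg.Agent.Lib.Elu.Ar
import Cfsg.Agent.Lib.Conj.SpecP
import Cfsg.Agent.Lib.Forms.Para

/-!
Isometries of odd prime order different from the characteristic: the criteria.
-/

set_option autoImplicit false

namespace Cfsg.Lib.Elu

open Module Cfsg.Lib.Forms Cfsg.Lib.Forms.Form Cfsg.Lib.Known Cfsg.Lib.Conj Polynomial

variable {F : Type*} [Field F] {σ : F →+* F} {K : Kind σ} {V V' W W' : Type*}
  [AddCommGroup V] [Module F V] [AddCommGroup V'] [Module F V']
  [AddCommGroup W] [Module F W] [AddCommGroup W'] [Module F W']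
  {D : Form K V} {D' : Form K V'} {E : Form K W} {E' : Form K W'} {x y : End F V}
  {U U' : Submodule F V} {r m n l κ t : ℕ}

theorem iso_prod_zero [Subsingleton V] (D : Form K V) (E : Form K W) : (D.prod E).Iso E :=
  ⟨LinearEquiv.ofBijective (LinearMap.snd F V W) ⟨fun _ _ h => Prod.ext (Subsingleton.elim _ _) h,
    fun w => ⟨(0, w), rfl⟩⟩, fun a b => by simp [Subsingleton.elim a.1 0]; rfl,
    fun a => by simp [Subsingleton.elim a.1 0]; rfl⟩

variable (K) in
/-- Every nondegenerate space embeds in every nondegenerate space of larger dimension. -/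
def Cp : Prop := ∀ (n l : ℕ) (D : Form K (Fin n → F)) (D' : Form K (Fin (n + l) → F)), 1 ≤ l →
  D.Nondeg → D'.Nondeg → ∃ E : Form K (Fin l → F), E.Nondeg ∧ (D.prod E).Iso D'

theorem cp_alt : Cp (altKind F) := fun n l D D' _ h h' => by
  have h1 := alt_even_finrank h
  have h2 := alt_even_finrank h'
  obtain ⟨E, hE⟩ := exists_alt (F := F) (V := Fin l → F) (by
    simp only [finrank_fin_fun, Nat.even_iff] at *; omega)
  exact ⟨E, hE, Symp.iso (h.prod hE) h' (by simp)⟩

theorem cp_herm {q : ℕ} (h : IsConj σ q) : Cp h.kind := fun n l D D' _ h1 h' =>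
  ⟨stdHerm h _, stdHerm_nondeg h _, Herm.iso (h1.prod (stdHerm_nondeg h _)) h' (by simp)⟩

theorem cp_quad [Finite F] : Cp (quadKind F) := fun n l D D' hl h h' =>
  exists_compl h h' hl (by simp)

variable [FiniteDimensional F V] [FiniteDimensional F V'] [FiniteDimensional F W]

theorem exists_iso_fin (D : Form K V) (hn : finrank F V = n) :
    ∃ E : Form K (Fin n → F), E.Iso D :=
  ⟨_, iso_comap D (LinearEquiv.ofFinrankEq _ _ (by simp [hn]))⟩

theorem Cp.compl (hK : Cp K) (hE : E.Nondeg) (hD : D.Nondeg) (h : finrank F W < finrank F V) :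
    ∃ (l : ℕ) (C : Form K (Fin l → F)), C.Nondeg ∧ (E.prod C).Iso D := by
  obtain ⟨l, hl⟩ := Nat.exists_eq_add_of_le h.le
  obtain ⟨A, hA⟩ := exists_iso_fin E rfl
  obtain ⟨B, hB⟩ := exists_iso_fin D hl
  obtain ⟨C, h1, h2⟩ := hK _ l A B (by omega) (hA.symm.nondeg hE) (hB.symm.nondeg hD)
  exact ⟨l, C, h1, (hA.symm.prod (Iso.refl C)).trans (h2.trans hB)⟩

theorem Cp.sub (hK : Cp K) (hE : E.Nondeg) (hD : D.Nondeg) (h : finrank F W < finrank F V) :
    ∃ A : Submodule F V, (D.restrict A).Iso E :=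
  let ⟨_, _, _, h⟩ := hK.compl hE hD h; exists_sub_of_iso h

theorem Cp.sub_iff (hK : Cp K) (hD : D.Nondeg) (hD' : D'.Nondeg) (hE : E.Nondeg) :
    (∃ A : Submodule F V, (D.restrict A).Nondeg ∧ E.Iso ((D.restrict A).prod D')) ↔
      finrank F V' ≤ finrank F W ∧ finrank F W ≤ finrank F V + finrank F V' ∧
      (finrank F V' = finrank F W → E.Iso D') ∧
      (finrank F W = finrank F V + finrank F V' → E.Iso (D.prod D')) := by
  constructor
  · rintro ⟨A, -, h⟩
    have h1 := h.finrank_eq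
    have h2 := A.finrank_le
    rw [finrank_prod] at h1
    refine ⟨by omega, by omega, fun h3 => ?_, fun h3 => ?_⟩
    · haveI := finrank_zero_iff.1 (show finrank F A = 0 by omega)
      exact h.trans (iso_prod_zero _ _)
    · obtain rfl := Submodule.eq_top_of_finrank_eq (show finrank F A = finrank F V by omega)
      exact h.trans ((iso_restrict_top D).prod (Iso.refl _))
  · rintro ⟨h1, h2, h3, h4⟩
    rcases h1.eq_or_lt with h1 | h1
    · exact ⟨⊥, fun _ _ => Subsingleton.elim _ _, (h3 h1).trans (iso_prod_zero _ _).symm⟩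
    rcases h2.eq_or_lt with h2 | h2
    · exact ⟨⊤, (iso_restrict_top D).symm.nondeg hD,
        (h4 h2).trans ((iso_restrict_top D).symm.prod (Iso.refl _))⟩
    obtain ⟨l, C, h5, h6⟩ := hK.compl hD' hE h1
    have h7 := h6.finrank_eq
    rw [finrank_prod] at h7
    obtain ⟨A, hA⟩ := hK.sub h5 hD (by omega)
    exact ⟨A, hA.symm.nondeg h5, h6.symm.trans ((iso_prod_comm _ _).trans
      (hA.symm.prod (Iso.refl _)))⟩

variable [Finite F]

theorem one_le_div_io (hr : r.Prime) (hF : (r : F) ≠ 0) : 0 < (r - 1) / io r F := by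
  rw [← card_Phi hr hF, Nat.mul_div_cancel _ (io_pos hr hF)]
  exact Nat.pos_of_ne_zero (card_Phi_ne_zero hr hF)

theorem finrank_fpf (hr : r.Prime) (hF : (r : F) ≠ 0) (h : y ^ r = 1) (hu : IsUnit (y - 1)) :
    finrank F V = io r F * (fac y).card := ((isUnit_sub_one_iff hr hF h).1 hu).symm

theorem ts_plain (hD : D.Nondeg) (hn : finrank F V = n) (hr : r.Prime) (h2 : r ≠ 2)
    (hF : (r : F) ≠ 0) (c : Prop) [Decidable c] (hc : ∀ g ∈ Phi r F, pd σ g = g ↔ c)
    (hR : Rz D r fun a => io r F * a ≤ finrank F V)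
    (hH : ∀ y : End F V, IsIsometry D D y → y ^ r = 1 → ∀ l, 2 * l ≤ finrank F (eig y 1) →
      (D.restrict (eig y 1)).HasTS l) (hm : 2 * m ≤ n)
    (hΩ : r ∣ Nat.card {U : Submodule F V // finrank F U = m ∧ D.IsTS U}) :
    (∀ y : End F V, IsIsometry D D y → y ^ r = 1 → TSI D y m) ↔ io r F ≤ m ∧
      2 * (m % io r F) ≤ n % (if c then io r F else 2 * io r F) ∧
      (¬ c ∨ (r - 1) / io r F + 2 * (m / io r F) ≤ n / io r F) := by
  subst hn
  have h0 := io_pos hr hF
  rw [← and_iff_right_of_imp (io_le_of_all_ts hD hr hF hΩ)]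
  refine and_congr_right fun h1 => ?_
  rw [all_ts_iff hD hr h2 hF (prof_of K.σσ hr hF c hc) hR
    (fun a l => 2 * l + io r F * a ≤ finrank F V) fun y hy h l => ?_]
  · split_ifs with h
    · simpa [ArT, h] using arT_sd h0 (one_le_div_io hr hF) h1 hm
    · simpa [ArT, h] using arT_zero (P := True) h0 hm fun _ => trivial
  · have := finrank_eig_add hr hF h
    exact ⟨fun h3 => by
      have := h3.two_mul_le (nondeg_eig hD (ss_of_pow' hF h) hy (by simp)); omega,
      fun h3 => hH y hy h l (by omega)⟩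

theorem nd_ar (hK : Cp K) (hD : D.Nondeg) (hE : E.Nondeg) (hr : r.Prime) (h2 : r ≠ 2)
    (hF : (r : F) ≠ 0) (c : Prop) [Decidable c] (hc : ∀ g ∈ Phi r F, pd σ g = g ↔ c)
    {P Q S : Prop} (hS : c ∨ S) (hR : Rz D r fun a => io r F * a ≤ finrank F V ∧
      (io r F * a = finrank F V → (P ↔ S ∨ Even a)))
    (hH : ∀ y : End F V, IsIsometry D D y → y ^ r = 1 → ∀ (B : Submodule F V) (hB : Inv y B),
      (D.restrict B).Nondeg → IsUnit (y.restrict hB - 1 : End F B) →
      (finrank F B = finrank F W →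
        (E.Iso (D.restrict B) ↔ (Q ↔ S ∨ Even (fac (y.restrict hB)).card))) ∧
      (finrank F W = finrank F (eig y 1) + finrank F B →
        (E.Iso ((D.restrict (eig y 1)).prod (D.restrict B)) ↔
          (Q ↔ ((P ↔ S ∨ Even (fac y).card) ↔ S ∨ Even (fac (y.restrict hB)).card))))) :
    (∀ y : End F V, IsIsometry D D y → y ^ r = 1 → NDI D y E) ↔
      ArN (if c then io r F else 2 * io r F) (finrank F V) (finrank F W) P Q S := by
  rw [all_nd_iff hD hE hr h2 hF (prof_of K.σσ hr hF c hc) hR (fun a j => io r F * j ≤ finrank F W ∧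
    finrank F W + io r F * a ≤ finrank F V + io r F * j ∧ (io r F * j = finrank F W →
      (Q ↔ S ∨ Even j)) ∧ (finrank F W + io r F * a = finrank F V + io r F * j →
      (Q ↔ ((P ↔ S ∨ Even a) ↔ S ∨ Even j)))) fun y hy h B hB h3 h4 => ?_]
  · split_ifs with h
    · simp only [ArN, one_mul]
    · simp only [ArN, hS.resolve_left h, true_or, mul_left_comm (io r F), mul_assoc]
  · have h5 := finrank_eig_add hr hF h
    have h6 := finrank_fpf hr hF (restrict_pow_eq_one hB h) h4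
    obtain ⟨h7, h8⟩ := hH y hy h B hB h3 h4
    rw [hK.sub_iff (nondeg_eig hD (ss_of_pow' hF h) hy (by simp)) h3 hE, ← h6]
    exact and_congr_right fun _ => and_congr (by omega) (and_congr (imp_congr_right h7)
      ⟨fun a b => (h8 (by omega)).1 (a (by omega)), fun a b => (h8 b).2 (a (by omega))⟩)

theorem le_of_all_nd' (hD : D.Nondeg) (hE : E.Nondeg) (hr : r.Prime) (hF : (r : F) ≠ 0)
    (c : Prop) [Decidable c] (hc : ∀ g ∈ Phi r F, pd σ g = g ↔ c)
    (hΩ : r ∣ Nat.card {U : Submodule F V // (D.restrict U).Iso E})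
    (H : ∀ y : End F V, IsIsometry D D y → y ^ r = 1 → NDI D y E) :
    (if c then io r F else 2 * io r F) ≤ finrank F W := by
  have := le_of_all_nd hD hE hr hF (prof_of K.σσ hr hF c hc) hΩ H
  split_ifs at this ⊢ <;> omega

theorem nd_plain (hK : Cp K) (hD : D.Nondeg) (hE : E.Nondeg) (hr : r.Prime) (h2 : r ≠ 2)
    (hF : (r : F) ≠ 0) (c : Prop) [Decidable c] (hc : ∀ g ∈ Phi r F, pd σ g = g ↔ c)
    (hR : Rz D r fun a => io r F * a ≤ finrank F V)
    (h1 : ∀ A : Submodule F V, (D.restrict A).Nondeg → finrank F A = finrank F W →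
      E.Iso (D.restrict A))
    (h1' : ∀ A B : Submodule F V, (D.restrict A).Nondeg → (D.restrict B).Nondeg →
      finrank F W = finrank F A + finrank F B → E.Iso ((D.restrict A).prod (D.restrict B)))
    (hn : finrank F V = n) (hm : finrank F W = m) (h0 : 0 < m) (hmn : m < n)
    (hΩ : r ∣ Nat.card {U : Submodule F V // (D.restrict U).Iso E}) :
    (∀ y : End F V, IsIsometry D D y → y ^ r = 1 → NDI D y E) ↔
      (if c then io r F else 2 * io r F) ≤ m ∧
      m % (if c then io r F else 2 * io r F) ≤ n % (if c then io r F else 2 * io r F) := by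
  subst hn hm
  rw [← and_iff_right_of_imp (le_of_all_nd' hD hE hr hF c hc hΩ), nd_ar hK hD hE hr h2 hF c hc
    (P := True) (Q := True) (S := True) (Or.inr trivial) (by simpa using hR)
    fun y hy h B hB h3 h4 => ⟨fun h5 => by simpa using h1 B h3 h5, fun h5 => by
      simpa using h1' _ B (nondeg_eig hD (ss_of_pow' hF h) hy (by simp)) h3 h5⟩,
    arN_iff (by have := io_pos hr hF; split_ifs <;> omega) h0 hmn]
  simp

section Quad

variable {D : Form (quadKind F) V} {E : Form (quadKind F) W} {d : ℕ}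

theorem even_io_mul {K : Kind (RingHom.id F)} {D : Form K V} (hD : D.Nondeg) (hr : r.Prime)
    (h2 : r ≠ 2) (hF : (r : F) ≠ 0) (hy : IsIsometry D D y) (h : y ^ r = 1) :
    Even (io r F * (fac y).card) :=
  finrank_rng_of_pow hr hF h ▸ even_finrank_rng hr h2 hF h (map_pd_fac hD hy (ss_of_pow' hF h))

theorem quad_eig_type (hD : D.Nondeg) (hn : finrank F V = 2 * d) (hr : r.Prime) (h2 : r ≠ 2)
    (hF : (r : F) ≠ 0) (hy : IsIsometry D D y) (h : y ^ r = 1) :
    ∃ e, finrank F (eig y 1) = 2 * e ∧ ((D.restrict (eig y 1)).HasTS e ↔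
      (D.HasTS d ↔ Odd (io r F) ∨ Even (fac y).card)) := by
  have hs := ss_of_pow' hF h
  obtain ⟨k, hk⟩ := (even_io_mul hD hr h2 hF hy h).two_dvd
  rw [← finrank_rng_of_pow hr hF h] at hk
  have h1 := finrank_eig_add_rng y 1
  obtain ⟨e, rfl⟩ : ∃ e, d = e + k := ⟨d - k, by omega⟩
  refine ⟨e, by omega, ?_⟩
  rw [Quad.IsOrthCompl.hasTS_iff (orth_one hs hy) hD (by omega) hk, hasTS_iff_of_fpf
    (nondeg_rng hD hs hy (by simp)) hk (isIsometry_off hy 1) hr h2 hF
    (restrict_pow_eq_one _ h) (isUnit_off_one hs), fac_off hs]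
  tauto

theorem quad_hasTS_iff (hD : D.Nondeg) (hn : finrank F V = 2 * d) :
    D.HasTS l ↔ l ≤ d ∧ (l = d → D.HasTS d) :=
  ⟨fun h => ⟨by have := h.two_mul_le hD; omega, fun e => e ▸ h⟩, fun h =>
    h.1.eq_or_lt.elim (fun e => e ▸ h.2 e) fun e => Quad.hasTS_pred hD (by omega)⟩

theorem quad_odd_ts (hD : D.Nondeg) (hn : finrank F V = 2 * d + 1) (hr : r.Prime) (h2 : r ≠ 2)
    (hF : (r : F) ≠ 0) (hm : m ≤ d)
    (hΩ : r ∣ Nat.card {U : Submodule F V // finrank F U = m ∧ D.IsTS U}) :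
    (∀ y : End F V, IsIsometry D D y → y ^ r = 1 → TSI D y m) ↔ io r F ≤ m ∧
      2 * (m % io r F) < (2 * d + 1) % (if Even (io r F) then io r F else 2 * io r F) ∧
      (Odd (io r F) ∨ (r - 1) / io r F + 2 * (m / io r F) ≤ (2 * d + 1) / io r F) := by
  rw [ts_plain hD hn hr h2 hF _ (fun g => pd_id_iff hr h2 hF)
    (fun M => quad_odd_real_iff hD hn hr h2 hF) (fun y hy h l hl => Quad.hasTS_pred
      (nondeg_eig hD (ss_of_pow' hF h) hy (by simp)) ?_) (by omega) hΩ, Nat.not_even_iff_odd]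
  · have : 2 ∣ (if Even (io r F) then io r F else 2 * io r F) := by
      split_ifs with h; exacts [h.two_dvd, dvd_mul_right _ _]
    have := Nat.mod_mod_of_dvd (2 * d + 1) this
    exact and_congr_right fun _ => and_congr_left fun _ => by omega
  · have := finrank_eig_add hr hF h
    have := Nat.even_iff.1 (even_io_mul hD hr h2 hF hy h)
    omega

theorem quad_even_ts (hD : D.Nondeg) (hn : finrank F V = 2 * d) (hr : r.Prime) (h2 : r ≠ 2)
    (hF : (r : F) ≠ 0) (hm : m < d) {i : ℕ} (hi : io r F = i) {P : Prop} (hP : D.HasTS d ↔ P)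
    (hΩ : r ∣ Nat.card {U : Submodule F V // finrank F U = m ∧ D.IsTS U}) :
    (∀ y : End F V, IsIsometry D D y → y ^ r = 1 → TSI D y m) ↔
      Odd i ∧ i ≤ m ∧ (2 * d % (2 * i) = 0 ∧ ¬ P ∨
        2 * (m % i) ≤ 2 * d % (2 * i) ∧ (2 * (m % i) = 2 * d % (2 * i) → P)) ∨
      Even i ∧ i ≤ m ∧ (r - 1) / i + 2 * (m / i) ≤ 2 * d / i ∧
      (2 * (m % i) ≤ i ∧ 2 * d % i = 0 ∧ ¬ (P ↔ Even (2 * d / i)) ∧
          (r - 1) / i + 2 * (m / i) < 2 * d / i ∨
        2 * (m % i) ≤ 2 * d % i ∧ (P ↔ Even (2 * d / i)) ∨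
        2 * (m % i) < 2 * d % i ∧ ¬ (P ↔ Even (2 * d / i))) := by
  subst hi
  have h0 := io_pos hr hF
  rw [← and_iff_right_of_imp (io_le_of_all_ts hD hr hF hΩ), and_left_comm,
    and_left_comm (a := Even _), ← and_or_left]
  refine and_congr_right fun h1 => ?_
  rw [all_ts_iff hD hr h2 hF (prof_of (fun _ => rfl) hr hF _ fun g => pd_id_iff hr h2 hF)
    (R := fun a => io r F * a ≤ 2 * d ∧ (io r F * a = 2 * d → (D.HasTS d ↔ Odd (io r F) ∨ Even a)))
    (fun M => quad_even_real_iff hD hn hr h2 hF) (fun a l => 2 * l + io r F * a ≤ 2 * d ∧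
      (2 * l + io r F * a = 2 * d → (D.HasTS d ↔ Odd (io r F) ∨ Even a))) fun y hy h l => ?_, hP]
  · split_ifs with h
    · simpa [ArT, h, Nat.not_odd_iff_even.2 h] using arT_quad (P := P) h0 (one_le_div_io hr hF) h1
        (show 2 * m + 2 ≤ 2 * d by omega) h (even_two_mul d)
    · simpa [ArT, h, Nat.not_even_iff_odd.1 h] using arT_zero (P := P) h0
        (show 2 * m ≤ 2 * d by omega) fun _ => by omega
  · have := finrank_eig_add hr hF h
    obtain ⟨e, h3, h4⟩ := quad_eig_type hD hn hr h2 hF hy h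
    rw [quad_hasTS_iff (nondeg_eig hD (ss_of_pow' hF h) hy (by simp)) h3, h4]
    exact and_congr (by omega) (imp_congr_left (by omega))

theorem quad_iso_iff (hD : D.Nondeg) (hE : E.Nondeg) (hn : finrank F V = 2 * d)
    (hm : finrank F W = 2 * d) : E.Iso D ↔ (E.HasTS (finrank F W / 2) ↔ D.HasTS d) := by
  rw [hm, Nat.mul_div_cancel_left _ two_pos]
  exact ⟨fun h => h.hasTS_iff, Quad.iso_of_type hE hD hm hn⟩

theorem quad_nd (hD : D.Nondeg) (hE : E.Nondeg) (hr : r.Prime) (h2 : r ≠ 2) (hF : (r : F) ≠ 0)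
    (hn : finrank F V = n) (hm : finrank F W = m) (he : Even n ∨ Even m) {P Q : Prop}
    (hP : D.HasTS (n / 2) ↔ P) (hQ : E.HasTS (m / 2) ↔ Q) {i c : ℕ} (hi : io r F = i)
    (hc : c = if Even i then i else 2 * i) (h0 : 0 < m) (hmn : m < n)
    (hΩ : r ∣ Nat.card {U : Submodule F V // (D.restrict U).Iso E}) :
    (∀ y : End F V, IsIsometry D D y → y ^ r = 1 → NDI D y E) ↔ c ≤ m ∧
      (n % c = 0 ∧ ¬ (P ↔ Odd i ∨ Even (n / c)) ∨ m % c ≤ n % c ∧
        (m % c = 0 → (Q ↔ Odd i ∨ Even (m / c))) ∧ (m % c = n % c →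
          (Q ↔ ((P ↔ Odd i ∨ Even (n / c)) ↔ Odd i ∨ Even (m / c))))) := by
  subst hn hm hi hc
  rw [← and_iff_right_of_imp (le_of_all_nd' hD hE hr hF _ (fun g => pd_id_iff hr h2 hF) hΩ),
    nd_ar cp_quad hD hE hr h2 hF _ (fun g => pd_id_iff hr h2 hF) (P := P) (Q := Q)
    (Nat.even_or_odd _) (fun M hM => ?_) fun y hy h B hB h3 h4 => ?_,
    arN_iff (by have := io_pos hr hF; split_ifs <;> omega) h0 hmn]
  · obtain ⟨d, hd | hd⟩ := Nat.even_or_odd' (finrank F V)
    · rw [← hP, hd, Nat.mul_div_cancel_left _ two_pos]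
      exact quad_even_real_iff hD hd hr h2 hF hM
    · refine ⟨fun h => (quad_odd_real_iff hD hd hr h2 hF hM).1 ⟨h.1, h.2.1⟩, fun h => ?_⟩
      have h1 := (quad_odd_real_iff hD hd hr h2 hF hM).2 h
      obtain ⟨g, h3, rfl⟩ := h
      have := Nat.even_iff.1 (even_io_mul hD hr h2 hF (isIsometry_nat g) h3)
      exact ⟨h1.1, h1.2, by omega⟩
  · have h5 := restrict_pow_eq_one hB h
    have h6 := isIsometry_restrict hy hB
    obtain ⟨k, hk⟩ := (even_io_mul h3 hr h2 hF h6 h5).two_dvd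
    rw [← finrank_fpf hr hF h5 h4] at hk
    have h7 := hasTS_iff_of_fpf h3 hk h6 hr h2 hF h5 h4
    refine ⟨fun h8 => by rw [quad_iso_iff h3 hE hk (h8 ▸ hk), hQ, h7], fun h8 => ?_⟩
    have h9 := finrank_eig_add hr hF h
    have := Nat.even_iff.1 (even_io_mul hD hr h2 hF hy h)
    obtain ⟨d, hd⟩ : 2 ∣ finrank F V := by simp only [Nat.even_iff] at he; omega
    obtain ⟨e, h10, h11⟩ := quad_eig_type hD hd hr h2 hF hy h
    have h12 := nondeg_eig hD (ss_of_pow' hF h) hy (c := 1) (by simp)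
    rw [quad_iso_iff (d := e + k) (h12.prod h3) hE (by rw [finrank_prod]; omega) (by omega),
      Quad.hasTS_prod_iff_iff h12 h3 h10 hk, h7, h11, hQ, ← hP, hd,
      Nat.mul_div_cancel_left _ two_pos]

end Quad

theorem alt_ts {D : Form (altKind F) V} (hD : D.Nondeg) (hn : finrank F V = n) (hr : r.Prime)
    (h2 : r ≠ 2) (hF : (r : F) ≠ 0) (hm : 2 * m ≤ n)
    (hΩ : r ∣ Nat.card {U : Submodule F V // finrank F U = m ∧ D.IsTS U}) :
    (∀ y : End F V, IsIsometry D D y → y ^ r = 1 → TSI D y m) ↔ io r F ≤ m ∧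
      2 * (m % io r F) ≤ n % (if Even (io r F) then io r F else 2 * io r F) ∧
      (Odd (io r F) ∨ (r - 1) / io r F + 2 * (m / io r F) ≤ n / io r F) := by
  rw [ts_plain hD hn hr h2 hF _ (fun g => pd_id_iff hr h2 hF)
    (fun M => alt_real_iff hD hr h2 hF) (fun y hy h l => Symp.hasTS
      (nondeg_eig hD (ss_of_pow' hF h) hy (by simp))) hm hΩ, Nat.not_even_iff_odd]

theorem alt_nd {D : Form (altKind F) V} {E : Form (altKind F) W} (hD : D.Nondeg) (hE : E.Nondeg)
    (hr : r.Prime) (h2 : r ≠ 2) (hF : (r : F) ≠ 0) (hn : finrank F V = n) (hm : finrank F W = m)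
    (h0 : 0 < m) (hmn : m < n) (hΩ : r ∣ Nat.card {U : Submodule F V // (D.restrict U).Iso E}) :
    (∀ y : End F V, IsIsometry D D y → y ^ r = 1 → NDI D y E) ↔
      (if Even (io r F) then io r F else 2 * io r F) ≤ m ∧
      m % (if Even (io r F) then io r F else 2 * io r F) ≤
        n % (if Even (io r F) then io r F else 2 * io r F) :=
  nd_plain cp_alt hD hE hr h2 hF _ (fun _ => pd_id_iff hr h2 hF) (fun _ => alt_real_iff hD hr h2 hF)
    (fun _ h h' => Symp.iso hE h h'.symm)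
    (fun _ _ h h' e => Symp.iso hE (h.prod h') (e.trans finrank_prod.symm)) hn hm h0 hmn hΩ

variable {q : ℕ} {h : IsConj σ q}

theorem herm_ts {D : Form h.kind V} (hD : D.Nondeg) (hn : finrank F V = n) (hr : r.Prime)
    (h2 : r ≠ 2) (hF : (r : F) ≠ 0) (hm : 2 * m ≤ n)
    (hΩ : r ∣ Nat.card {U : Submodule F V // finrank F U = m ∧ D.IsTS U}) :
    (∀ y : End F V, IsIsometry D D y → y ^ r = 1 → TSI D y m) ↔ io r F ≤ m ∧
      2 * (m % io r F) ≤ n % (if orderOf (q : ZMod r) % 4 = 2 then io r F else 2 * io r F) ∧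
      (orderOf (q : ZMod r) % 4 ≠ 2 ∨ (r - 1) / io r F + 2 * (m / io r F) ≤ n / io r F) :=
  ts_plain hD hn hr h2 hF _ (fun _ => pd_herm_iff h hr h2 hF)
    (fun _ => herm_real_iff hD hr hF) (fun _ hy h _ => Herm.hasTS
      (nondeg_eig hD (ss_of_pow' hF h) hy (by simp))) hm hΩ

theorem herm_nd {D : Form h.kind V} {E : Form h.kind W} (hD : D.Nondeg) (hE : E.Nondeg)
    (hr : r.Prime) (h2 : r ≠ 2) (hF : (r : F) ≠ 0) (hn : finrank F V = n) (hm : finrank F W = m)
    (h0 : 0 < m) (hmn : m < n) (hΩ : r ∣ Nat.card {U : Submodule F V // (D.restrict U).Iso E}) :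
    (∀ y : End F V, IsIsometry D D y → y ^ r = 1 → NDI D y E) ↔
      (if orderOf (q : ZMod r) % 4 = 2 then io r F else 2 * io r F) ≤ m ∧
      m % (if orderOf (q : ZMod r) % 4 = 2 then io r F else 2 * io r F) ≤
        n % (if orderOf (q : ZMod r) % 4 = 2 then io r F else 2 * io r F) :=
  nd_plain (cp_herm h) hD hE hr h2 hF _ (fun _ => pd_herm_iff h hr h2 hF)
    (fun _ => herm_real_iff hD hr hF) (fun _ h h' => Herm.iso hE h h'.symm)
    (fun _ _ h h' e => Herm.iso hE (h.prod h') (e.trans finrank_prod.symm)) hn hm h0 hmn hΩ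

end Cfsg.Lib.Elu
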