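import Cfsg.Agent.Lib.Elu.C2

/-!
Elements fixing a pair of complementary totally singular subspaces.
-/

set_option autoImplicit false

namespace Cfsg.Lib.Elu

open Module Cfsg.Lib.Forms Cfsg.Lib.Forms.Form Cfsg.Lib.Known Cfsg.Lib.Conj Polynomial

theorem dvd_of_trans {C A S : Type*} [Group C] [Finite C] [Group A] (a : C → S → S)
    (a1 : ∀ s, a 1 s = s) (am : ∀ g h s, a (g * h) s = a g (a h s)) (R : S → Prop) {s₀ : S}
    (h : ∀ s, R s ↔ ∃ c, a c s₀ = s) (φ : A →* C) (hφ : Function.Injective φ)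
    (h1 : ∀ g, a (φ g) s₀ = s₀) {r u v P Q : ℕ} (hC : Nat.card C = u * (P * Q))
    (hA : Nat.card A = v * P) (hr : r ∣ Nat.card {s // R s}) : r ∣ u * Q := by
  letI : MulAction C S := { smul := a, one_smul := a1, mul_smul := am }
  have h2 := MulAction.index_stabilizer C s₀
  rw [show MulAction.orbit C s₀ = {s | R s} from Set.ext fun s => (h s).symm] at h2
  exact dvd_of_relIndex (M := MulAction.stabilizer C s₀) (S := ⊤) (by rwa [Subgroup.relIndex_top_right, h2]) φ hφ h1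
    (by simp) (by simpa using hC) hA

variable {F : Type*} [Field F] {σ : F →+* F} {K : Kind σ} {V V' W W' : Type*}
  [AddCommGroup V] [Module F V] [AddCommGroup V'] [Module F V'] [AddCommGroup W] [Module F W]
  [AddCommGroup W'] [Module F W'] {D : Form K V} {D' : Form K V'} {x y : End F V} {r m n d : ℕ}
  {U U' T T' : Submodule F V}

theorem isoc_iff {ι : Type} [Fintype ι] [DecidableEq ι] {D : Form K (ι → F)} {E : Subgroup D.isom}
    {G M : Subgroup (GL ι F)} (hG : G = E.map (toGL D)) {S P : End F (ι → F) → Prop}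
    (h1 : ∀ y, S y ↔ ∃ g ∈ E, nat D g = y)
    (h0 : ∀ x ∈ E, ∀ c, nat D x = algebraMap F _ c → P (nat D x))
    (h2 : ∀ x ∈ E, (∃ g ∈ E, g⁻¹ * x * g ∈ M.comap (toGL D)) ↔ P (nat D x)) :
    (∀ x ∈ G, (∃ z : F, ((x ^ r : GL ι F) : Matrix ι ι F) = z • (1 : Matrix ι ι F)) →
      (∀ z : F, (x : Matrix ι ι F) ≠ z • (1 : Matrix ι ι F)) → ∃ g ∈ G, g⁻¹ * x * g ∈ M) ↔
      AllE S r P := by
  subst hG
  simp only [Subgroup.mem_map, forall_exists_index, and_imp, forall_apply_eq_imp_iff₂,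
    exists_exists_and_eq_and, ← map_inv, ← map_mul, ← Subgroup.mem_comap, ne_eq, toLin'_eq_scalar,
    Units.val_pow_eq_pow_val, Matrix.toLin'_pow, toLin'_toGL, AllE, h1]
  refine forall₂_congr fun x hx => ?_
  rw [h2 x hx]
  exact ⟨fun H c h => by_contra fun e => e (H c h fun c h => e (h0 x hx c h)), fun H c h _ => H c h⟩

/-- `x` fixes or interchanges two complementary totally singular subspaces. -/
def PP (D : Form K V) (x : End F V) : Prop := ∃ U U' : Submodule F V, IsCompl U U' ∧ D.IsTS U ∧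
  D.IsTS U' ∧ (Inv x U ∧ Inv x U' ∨ (∀ v ∈ U, x v ∈ U') ∧ ∀ v ∈ U', x v ∈ U)

theorem PP.smul (h : PP D x) (c : F) : PP D (c • x) :=
  let ⟨U, U', h1, h2, h3, h4⟩ := h
  ⟨U, U', h1, h2, h3, h4.imp
    (.imp (fun h v hv => U.smul_mem c (h v hv)) fun h v hv => U'.smul_mem c (h v hv))
    (.imp (fun h v hv => U'.smul_mem c (h v hv)) fun h v hv => U.smul_mem c (h v hv))⟩

theorem isTS_map {e : V ≃ₗ[F] V'} (he : IsIsometry D D' e) (h : D.IsTS U) :
    D'.IsTS (U.map e.toLinearMap) :=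
  ⟨by rintro _ ⟨u, hu, rfl⟩; exact (he.Q_map u).trans (h.1 u hu), by
    rintro _ ⟨u, hu, rfl⟩ _ ⟨v, hv, rfl⟩; exact (he.B_map u v).trans (h.2 u hu v hv)⟩

theorem PP.isoC (h : PP D x) {y : End F V'} (H : IsoC D x D' y) : PP D' y := by
  obtain ⟨U, U', h1, h2, h3, h4⟩ := h
  obtain ⟨e, he, h5⟩ := H
  have key : ∀ U U' : Submodule F V, (∀ v ∈ U, x v ∈ U') → ∀ v ∈ U.map e.toLinearMap,
      y v ∈ U'.map e.toLinearMap := by rintro U U' h _ ⟨u, hu, rfl⟩; exact ⟨_, h u hu, h5 u⟩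
  exact ⟨_, _, (Submodule.orderIsoMapComap e).isCompl h1, isTS_map he h2, isTS_map he h3,
    h4.imp (.imp (key _ _) (key _ _)) (.imp (key _ _) (key _ _))⟩

theorem isDual_of_isCompl (hD : D.Nondeg) (h : IsCompl U U') (h1 : D.IsTS U) (h2 : D.IsTS U') :
    D.IsDual U U' := by
  have key : ∀ U U' : Submodule F V, U ⊔ U' = ⊤ → D.IsTS U → Disjoint U (D.perp U') :=
    fun U U' h h1 => by
      rw [disjoint_iff, eq_bot_iff, ← hD.perp_top, ← h, perp_sup]
      exact inf_le_inf_right _ h1.le_perp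
  exact ⟨h1, h2, key _ _ h.sup_eq_top h1, key _ _ h.symm.sup_eq_top h2⟩

theorem pp_swap {K : Kind (RingHom.id F)} (hK : K.ε = -1) (d : ℕ) :
    ∃ (E : Form K ((Fin d → F) × (Fin d → F))) (a : End F _), E.Nondeg ∧ (∀ u v, E.B (a u) (a v) =
      E.B u v) ∧ a ^ 2 = algebraMap F _ (-1) ∧ PP E a := by
  refine ⟨dbl K (dotProductBilin F F), (-LinearMap.snd F _ _).prod (LinearMap.fst F _ _),
    dbl_nondeg (fun u h => dotProduct_eq_zero u h) fun v h => dotProduct_eq_zero v fun u =>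
      (dotProduct_comm v u).trans (h u), fun u v => ?_,
    LinearMap.ext fun v => by simp [sq, Prod.ext_iff], _, _, LinearMap.isCompl_range_inl_inr,
    ⟨?_, ?_⟩, ⟨?_, ?_⟩, .inr ⟨?_, ?_⟩⟩
  · simp [dbl_B, hK, dotProduct_comm u.2, dotProduct_comm v.2, add_comm]
  all_goals simp [dbl_B, dbl_Q]

theorem pp_eig (h2 : (2 : F) ≠ 0) (hx : IsIsometry D D x) {w : F} (hw : w * σ w = -1)
    (h : x ^ 2 = algebraMap F _ (w ^ 2)) : PP D x := by
  have h0 : w ≠ 0 := by rintro rfl; simp at hw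
  have h1 : w * σ w ≠ 1 := fun e => h2 (by linear_combination hw - e)
  refine ⟨eig x w, eig x (-w), ⟨Submodule.disjoint_def.2 fun v h3 h4 => ?_, codisjoint_iff.2 <|
    eq_top_iff.2 fun v _ => ?_⟩, isTS_eig hx h1, isTS_eig hx (by simpa), .inl ⟨eig_inv _ _, eig_inv _ _⟩⟩
  · rw [mem_eig] at h3 h4
    exact (smul_eq_zero_iff_right (mul_ne_zero h2 h0)).1 (by linear_combination (norm := module) h4 - h3)
  · have h3 := rng_le_eig h (mem_rng.2 ⟨v, rfl⟩)
    have h4 := rng_le_eig (w := -w) (by simpa using h) (mem_rng.2 ⟨v, rfl⟩)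
    rw [neg_neg] at h4
    have : v = (2 * w)⁻¹ • ((x v - -w • v) - (x v - w • v)) := by
      rw [eq_inv_smul_iff₀ (mul_ne_zero h2 h0)]; module
    exact this ▸ Submodule.smul_mem _ _ (sub_mem (Submodule.mem_sup_left h4) (Submodule.mem_sup_right h3))

variable [FiniteDimensional F V] [FiniteDimensional F V']

theorem ker_det_iff (hD : D.Nondeg) (y : End F V) :
    IsIsometry D D y ∧ LinearMap.det y = 1 ↔ ∃ g ∈ D.det.ker, nat D g = y := by
  refine ⟨fun ⟨a, b⟩ => ?_, by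
    rintro ⟨g, hg, rfl⟩; exact ⟨g.2, (coe_det g).symm.trans (congrArg Units.val hg)⟩⟩
  obtain ⟨g, rfl⟩ := exists_nat hD a
  exact ⟨g, Units.ext ((coe_det g).trans b), rfl⟩

theorem top_iff (hD : D.Nondeg) (y : End F V) :
    IsIsometry D D y ↔ ∃ g ∈ (⊤ : Subgroup D.isom), nat D g = y :=
  ⟨fun h => (exists_nat hD h).imp fun _ h => ⟨trivial, h⟩, by rintro ⟨g, -, rfl⟩; exact g.2⟩

theorem two_mul_finrank (hD : D.Nondeg) (h : IsCompl U U') (h1 : D.IsTS U) (h2 : D.IsTS U') :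
    2 * finrank F U = finrank F V := by
  rw [← (isDual_of_isCompl hD h h1 h2).finrank_sup hD, h.sup_eq_top, finrank_top]

theorem exists_pair (hD : D.Nondeg) (h : D.HasTS m) (hn : finrank F V = 2 * m) :
    ∃ U U' : Submodule F V, IsCompl U U' ∧ D.IsTS U ∧ D.IsTS U' := by
  obtain ⟨U, rfl, h1⟩ := h
  obtain ⟨U', h2⟩ := h1.exists_isDual hD
  exact ⟨U, U', ⟨h2.disjoint, codisjoint_iff.2 (Submodule.eq_top_of_finrank_eq
    ((h2.finrank_sup hD).trans hn.symm))⟩, h1, h2.right⟩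

theorem pp_scalar (hD : D.Nondeg) (h : D.HasTS m) (hn : finrank F V = 2 * m) (c : F) :
    PP D (algebraMap F _ c) :=
  let ⟨U, U', h1, h2, h3⟩ := exists_pair hD h hn
  ⟨U, U', h1, h2, h3, .inl ⟨inv_scalar c U, inv_scalar c U'⟩⟩

theorem pp_pm (hD : D.Nondeg) (hc : D.IsOrthCompl U U') (h1 : (D.restrict U).HasTS m)
    (h2 : (D.restrict U').HasTS n) (h3 : finrank F U = 2 * m) (h4 : finrank F U' = 2 * n) :
    PP D (pm hc) := by
  obtain ⟨A, B, a1, a2, a3⟩ := exists_pair (hc.nondeg_left hD) h1 h3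
  obtain ⟨A', B', b1, b2, b3⟩ := exists_pair (hc.symm.nondeg_left hD) h2 h4
  have i1 : ∀ A : Submodule F U, Inv ((pm hc).restrict (pm_inv hc)) A := fun A v hv => by
    rwa [show (pm hc).restrict (pm_inv hc) v = v from Subtype.ext (pm_left hc v.2)]
  have i2 : ∀ A : Submodule F U', Inv ((pm hc).restrict (pm_inv' hc)) A := fun A v hv => by
    rw [show (pm hc).restrict (pm_inv' hc) v = -v from Subtype.ext (pm_right hc v.2)]
    exact neg_mem hv
  have t : ∀ {A B}, (D.restrict U).IsTS A → (D.restrict U').IsTS B →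
      ((D.restrict U).prod (D.restrict U')).IsTS (A.prod B) := fun h h' =>
    ⟨fun u hu => by rw [prod_Q, h.1 _ hu.1, h'.1 _ hu.2, add_zero],
      fun u hu v hv => by rw [prod_B, h.2 _ hu.1 _ hv.1, h'.2 _ hu.2 _ hv.2, add_zero]⟩
  exact PP.isoC ⟨A.prod A', B.prod B', ⟨disjoint_iff.2 (by simp [a1.inf_eq_bot, b1.inf_eq_bot]),
    codisjoint_iff.2 (by simp [a1.sup_eq_top, b1.sup_eq_top])⟩, t a2 b2, t a3 b3,
    .inl ⟨(i1 _).prod (i2 _), (i1 _).prod (i2 _)⟩⟩ (isoC_orthCompl hc (pm_inv hc) (pm_inv' hc))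

theorem pp_iff (hD : D.Nondeg) (hx : IsUnit x) : PP D x ↔ ∃ U U' : Submodule F V, IsCompl U U' ∧
    D.IsTS U ∧ D.IsTS U' ∧ (U.map x = U ∧ U'.map x = U' ∨ U.map x = U' ∧ U'.map x = U) := by
  refine exists₂_congr fun U U' => and_congr_right fun h1 => and_congr_right fun h2 =>
    and_congr_right fun h3 => ?_
  have h4 := (isDual_of_isCompl hD h1 h2 h3).finrank_eq hD
  obtain ⟨e, rfl⟩ := exists_equiv_of_isUnit hx
  have key : ∀ U U' : Submodule F V, finrank F U = finrank F U' →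
      ((∀ v ∈ U, e.toLinearMap v ∈ U') ↔ U.map e.toLinearMap = U') := fun U U' h =>
    ⟨fun H => Submodule.eq_of_le_of_finrank_eq (by rintro _ ⟨v, hv, rfl⟩; exact H v hv)
      ((finrank_map_equiv e U).trans h), fun H v hv => H ▸ Submodule.mem_map_of_mem hv⟩
  rw [← key _ _ rfl, ← key _ _ rfl, ← key _ _ h4, ← key _ _ h4.symm]

theorem PP.tsi (h : PP D y) (hD : D.Nondeg) (hr : Odd r) (hy : y ^ r = 1)
    (hn : finrank F V = 2 * m) : TSI D y m := by
  obtain ⟨U, U', h1, h2, h3, h4⟩ := h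
  have h5 := two_mul_finrank hD h1 h2 h3
  refine ⟨U, by omega, h2, h4.elim (·.1) fun ⟨h6, h7⟩ v hv => ?_⟩
  obtain ⟨k, rfl⟩ := hr
  have : ∀ k, (y ^ (2 * k + 1)) v ∈ U' := fun k => by
    induction k with
    | zero => exact h6 v hv
    | succ k ih => simpa [mul_add, pow_succ'] using h6 _ (h7 _ ih)
  simp [Submodule.disjoint_def.1 h1.disjoint v hv (by simpa [hy] using this k)]

theorem not_pp_of_rk (hD : D.Nondeg) (hx : IsIsometry D D x) (h : rk x = 1)
    (hn : 2 < finrank F V) : ¬ PP D x := by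
  rintro ⟨U, U', h1, h2, h3, h4 | ⟨h4, -⟩⟩
  · have key : ∀ U : Submodule F V, D.IsTS U → Inv x U → U ≤ eig x 1 := fun U h5 h6 u hu => by
      by_contra e
      have h7 : rng x 1 ≤ U := by
        rw [← Submodule.eq_of_le_of_finrank_eq ((Submodule.span_singleton_le_iff_mem _ _).2
          (mem_rng.2 ⟨u, rfl⟩)) ((finrank_span_singleton (by simpa [mem_eig, sub_eq_zero] using e)).trans
            h.symm), Submodule.span_singleton_le_iff_mem]
        exact sub_mem (h6 u hu) (U.smul_mem _ hu)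
      obtain ⟨g, rfl⟩ := exists_nat hD hx
      refine e (mem_eig.2 (sub_eq_zero.1 (hD _ fun v => ?_)))
      obtain ⟨v, rfl⟩ := g.1.surjective v
      have := h5.2 u hu _ (h7 (mem_rng.2 ⟨v, rfl⟩))
      simp only [map_sub, one_smul, LinearMap.sub_apply, nat_apply, LinearEquiv.coe_coe,
        g.2.B_map] at this ⊢
      linear_combination -this
    have := finrank_eig_add_rng x 1
    rw [show eig x 1 = ⊤ from eq_top_iff.2 (h1.sup_eq_top ▸ sup_le (key U h2 h4.1) (key U' h3 h4.2)),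
      finrank_top, ← rk] at this
    omega
  · have h5 := two_mul_finrank hD h1 h2 h3
    have h6 := Submodule.finrank_add_finrank_le_of_disjoint (s := U) (t := eig x 1)
      (Submodule.disjoint_def.2 fun v hv h => Submodule.disjoint_def.1 h1.disjoint v hv
        (by simpa [mem_eig.1 h] using h4 v hv))
    have := finrank_eig_add_rng x 1
    rw [← rk] at this
    omega

theorem dual_trans (hD : D.Nondeg) (h : D.IsDual U U') (h' : D.IsDual T T')
    (hn : finrank F T = finrank F U) :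
    ∃ g : D.isom, U.map g.1.toLinearMap = T ∧ U'.map g.1.toLinearMap = T' := by
  classical
  have key : ∀ U U' : Submodule F V, D.IsDual U U' → ∀ m, finrank F U = m →
      ∃ e f : Fin m → V, Submodule.span F (Set.range e) = U ∧ Submodule.span F (Set.range f) = U' ∧
        LinearIndependent F (Sum.elim e f) ∧ (∀ i, D.Q (Sum.elim e f i) = 0) ∧
        (∀ i j, D.B (e i) (e j) = 0) ∧ (∀ i j, D.B (f i) (f j) = 0) ∧
        ∀ i j, D.B (e i) (f j) = if i = j then 1 else 0 := by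
    rintro U U' h _ rfl
    have hi := (finBasis F U).linearIndependent.map' U.subtype (by simp)
    obtain ⟨f, h1, h2⟩ := h.exists_dual_family hD hi fun i => (finBasis F U i).2
    have h3 := fun i j => h.left.B_eq _ (finBasis F U i).2 _ (finBasis F U j).2
    have h4 := fun i j => h.right.B_eq _ (h1 i) _ (h1 j)
    have h5 := linearIndependent_sum_elim_of_dual h3 h4 h2
    refine ⟨_, f, Submodule.eq_of_le_of_finrank_eq (Submodule.span_le.2 (Set.range_subset_iff.2
      fun i => (finBasis F U i).2)) ((finrank_span_eq_card hi).trans (Fintype.card_fin _)),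
      Submodule.eq_of_le_of_finrank_eq (Submodule.span_le.2 (Set.range_subset_iff.2 h1)) ?_, h5,
      Sum.rec (fun i => h.left.Q_eq _ (finBasis F U i).2) fun i => h.right.Q_eq _ (h1 i), h3, h4, h2⟩
    rw [finrank_span_eq_card (b := f) (h5.comp Sum.inr Sum.inr_injective), ← h.finrank_eq hD,
      Fintype.card_fin]
  generalize hm : finrank F U = m at hn
  obtain ⟨e, f, rfl, rfl, a1, a2, a3, a4, a5⟩ := key _ _ h _ hm
  obtain ⟨e', f', rfl, rfl, b1, b2, b3, b4, b5⟩ := key _ _ h' _ hn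
  obtain ⟨g, hg⟩ := hD.witt_family a1 b1 (by
    rintro (i | i) (j | j)
    exacts [(b3 _ _).trans (a3 _ _).symm, (b5 _ _).trans (a5 _ _).symm,
      D.eq_symm_of_eq ((b5 _ _).trans (a5 _ _).symm), (b4 _ _).trans (a4 _ _).symm])
    fun i => (b2 i).trans (a2 i).symm
  simp only [Submodule.map_span, ← Set.range_comp]
  exact ⟨g, congrArg (fun e => Submodule.span F (Set.range e)) (funext fun i => hg (.inl i)),
    congrArg (fun e => Submodule.span F (Set.range e)) (funext fun i => hg (.inr i))⟩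

variable [Finite F]

theorem card_levi (hD : D.Nondeg) (h : D.IsDual U U') (hm : finrank F U = m) :
    Nat.card (D.leviGL U U') = Nat.card F ^ (m * (m - 1) / 2) *
      ∏ i ∈ Finset.range m, (Nat.card F ^ (i + 1) - 1) := by
  rw [Nat.card_congr (leviEquiv hD h).toEquiv, card_linAut hm, Linear.prod_pow_sub_pow]

theorem not_tsi (hD : D.Nondeg) (hr : r.Prime) (h2 : r ≠ 2) (hF : (r : F) ≠ 0)
    (hy : IsIsometry D D y) (h1 : y ^ r = 1) (hn : finrank F V = 2 * m)
    (h3 : ∀ g ∈ Phi r F, pd σ g = g) (h4 : (fac y).Nodup) (h5 : fac y ≠ 0) : ¬ TSI D y m := by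
  rw [tsi_iff_of_pow hD hr h2 hF hy h1]
  rintro ⟨N, l, h6, h7, h8⟩
  rw [map_pd_of_self (fun g hg => fac_mem_Phi hr hF h1 g (Multiset.mem_of_le h6 (by simp [hg]))) h3]
    at h6
  obtain rfl : N = 0 := Multiset.eq_zero_of_forall_notMem fun g hg => Multiset.disjoint_left.1
    (Multiset.nodup_add.1 (Multiset.nodup_of_le h6 h4)).2.2 hg hg
  have := h7.two_mul_le (nondeg_eig hD (ss_of_pow' hF h1) hy (by simp))
  have := finrank_eig_add hr hF h1
  have := Nat.mul_pos (io_pos hr hF) (Multiset.card_pos.2 h5)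
  simp at h8
  omega

section Alt

variable {D : Form (altKind F) V}

theorem alt_pp_two (h2 : (2 : F) ≠ 0) (hD : D.Nondeg) (hn : finrank F V = 2 * d) (hd : 0 < d) :
    AllE (fun x => IsIsometry D D x) 2 (PP D) := by
  have := nontrivial_of_finrank_pos (hn ▸ (by omega : 0 < 2 * d))
  refine (allE_two hD fun _ h => h).2 ⟨fun y hy h => ?_, fun y hy h => ?_⟩
  · obtain ⟨U, U', hc, rfl⟩ := exists_pm h2 hy h
    obtain ⟨a, ha⟩ := Symp.exists_finrank_eq (hc.nondeg_left hD)
    obtain ⟨b, hb⟩ := Symp.exists_finrank_eq (hc.symm.nondeg_left hD)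
    exact pp_pm hD hc (Symp.hasTS (hc.nondeg_left hD) ha.ge)
      (Symp.hasTS (hc.symm.nondeg_left hD) hb.ge) ha hb
  · obtain ⟨E, a, h1, h3, h4, h5⟩ := pp_swap (K := altKind F) rfl d
    exact h5.isoC ((nr_neg_one h2).isoC h1 hD ⟨h3, fun _ => by simp [alt_Q]⟩ hy h4 (by simpa)
      (by simp [hn, two_mul]))

theorem alt_pp_odd (hD : D.Nondeg) (hn : finrank F V = 2 * d) (hr : r.Prime) (h2 : r ≠ 2)
    (hF : (r : F) ≠ 0) (hΩ : r ∣ Nat.card {s : Submodule F V × Submodule F V //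
      IsCompl s.1 s.2 ∧ D.IsTS s.1 ∧ D.IsTS s.2}) :
    ¬ AllE (fun x => IsIsometry D D x) r (PP D) := fun H => by
  obtain ⟨U, U', h1, h3, h4⟩ := exists_pair hD (Symp.hasTS hD hn.ge) hn
  have h5 := isDual_of_isCompl hD h1 h3 h4
  have h6 := two_mul_finrank hD h1 h3 h4
  obtain ⟨j, h7, h8⟩ := exists_dvd_of_prod hr (card_ne_zero_zmod hr hF) (f := fun i =>
    Nat.card F ^ (i + 1) + 1) (n := d) (dvd_of_trans (fun (g : D.isom)
      (s : Submodule F V × Submodule F V) => (s.1.map g.1.toLinearMap, s.2.map g.1.toLinearMap))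
    (fun s => by simp [LinearEquiv.one_eq_refl]) (fun g k s => by simp only [map_isom_mul]) _ (s₀ := (U, U'))
    (fun s => ⟨fun ⟨a, b, c⟩ => (dual_trans hD h5 (isDual_of_isCompl hD a b c) (by
      have := two_mul_finrank hD a b c; omega)).imp fun _ h => Prod.ext h.1 h.2, by
        rintro ⟨g, rfl⟩
        exact ⟨(Submodule.orderIsoMapComap g.1).isCompl h1, isTS_map g.2 h3, isTS_map g.2 h4⟩⟩)
    (D.leviGL U U').subtype Subtype.val_injective (fun g => Prod.ext (D.mem_stab_iff_map.1 g.2.1)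
      (D.mem_stab_iff_map.1 g.2.2.1)) (by
      rw [Symp.card_isom hD hn, spOrder, ← Finset.prod_mul_distrib]
      exact congrArg _ (Finset.prod_congr rfl fun i _ => by rw [pow_mul', sq_sub_one_eq, mul_comm]))
    (card_levi hD h5 (by omega)) hΩ)
  obtain ⟨h9, h10⟩ := (dvd_pow_add_one_iff hr h2).1 h8
  have h11 := fun g hg => (pd_id_iff (g := g) hr h2 hF hg).2 (even_of_dvd_two_mul h9 h10)
  obtain ⟨g, hg⟩ := exists_mem_Phi hr hF
  obtain ⟨y, h12, h13⟩ := (alt_real_iff hD hr h2 hF (M := {g}) (by simpa)).1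
    ⟨by simp [h11 g hg], by have := Nat.le_of_dvd (by omega) h9; simp [io]; omega⟩
  exact not_tsi hD hr h2 hF (isIsometry_nat y) h12 hn h11 (by simp [h13]) (by simp [h13])
    ((H _ (isIsometry_nat y) ⟨1, by simpa⟩).tsi hD (hr.odd_of_ne_two h2) h12 hn)

end Alt

section Herm

variable {q : ℕ} {h : IsConj σ q} {D : Form h.kind V}

omit [Finite F] in
theorem su_dual_trans (hD : D.Nondeg) (hW : D.IsDual U U') (h' : D.IsDual T T')
    (hn : finrank F T = finrank F U) (h0 : U ≠ ⊥) :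
    ∃ g ∈ D.det.ker, U.map g.1.toLinearMap = T ∧ U'.map g.1.toLinearMap = T' := by
  obtain ⟨g, h1, h2⟩ := dual_trans hD hW h' hn
  obtain ⟨e, he, he0⟩ := Submodule.exists_mem_ne_zero_of_ne_bot h0
  obtain ⟨y, hy, hB⟩ := not_mem_perp_iff.1 fun hp => he0 (Submodule.disjoint_def.1 hW.disj e he hp)
  have hef := exists_isHyp_smul (hW.left.Q_eq e he) (hW.right.Q_eq y hy) hB
  have hf := U'.smul_mem (D.B e y)⁻¹ hy
  set f := (D.B e y)⁻¹ • y
  obtain ⟨c, hc, hcu⟩ := h.exists_div_eq (hD.det_mul_σ_det g⁻¹)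
  obtain ⟨k, k1, k2, k3⟩ := hef.exists_torus hD hc
  have s1 : k ∈ D.stab U := D.mem_stab_of_mapsTo fun x hx => by
    obtain ⟨w, hw, hxw⟩ := hef.exists_comb x
    rw [hW.left.B_eq _ he _ hx, zero_smul, add_zero] at hxw
    have : k.1 x = x + ((h.kind.ε * D.B f x) * (c - 1)) • e := by
      conv_lhs => rw [hxw, map_add, map_smul, k1, k3 w hw]
      conv_rhs => rw [hxw]; simp only [← hxw]
      linear_combination (norm := module) -hxw
    rw [this]; exact add_mem hx (U.smul_mem _ he)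
  have s2 : k ∈ D.stab U' := D.mem_stab_of_mapsTo fun x hx => by
    obtain ⟨w, hw, hxw⟩ := hef.exists_comb x
    rw [hW.right.B_eq _ hf _ hx, mul_zero, zero_smul, zero_add] at hxw
    have : k.1 x = x + (D.B e x * ((σ c)⁻¹ - 1)) • f := by
      conv_lhs => rw [hxw, map_add, map_smul, k2, k3 w hw]
      linear_combination (norm := module) -hxw
    rw [this]; exact add_mem hx (U'.smul_mem _ hf)
  refine ⟨g * k, ?_, by rw [map_isom_mul, D.mem_stab_iff_map.1 s1, h1],
    by rw [map_isom_mul, D.mem_stab_iff_map.1 s2, h2]⟩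
  rw [MonoidHom.mem_ker, map_mul, show D.det k = D.det g⁻¹ from
    Units.ext ((hef.det_torus k1 k2 k3).trans hcu)]
  simp

omit [Finite F] in
theorem su_pp_iff (hD : D.Nondeg) (h0 : 0 < finrank F V) {A : Fin 2 → Submodule F V}
    (h1 : IsCompl (A 0) (A 1)) (h2 : ∀ i, D.IsTS (A i)) (x : D.isom) :
    (∃ g ∈ D.det.ker, g⁻¹ * x * g ∈ D.dec A) ↔ PP D (nat D x) := by
  have h3 := two_mul_finrank hD h1 (h2 0) (h2 1)
  have key : ∀ (g : D.isom) i j, (A i).map (g⁻¹ * x * g).1.toLinearMap = A j ↔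
      ((A i).map g.1.toLinearMap).map (nat D x) = (A j).map g.1.toLinearMap := fun g i j => by
    rw [← (Submodule.map_injective_of_injective (f := g.1.toLinearMap) g.1.injective).eq_iff,
      ← map_isom_mul, ← mul_assoc, mul_inv_cancel_left, map_isom_mul, nat_apply]
  rw [pp_iff hD (isUnit_of_isIsometry hD (isIsometry_nat x).B_map)]
  constructor
  · rintro ⟨g, -, π, hπ⟩
    refine ⟨_, _, (Submodule.orderIsoMapComap g.1).isCompl h1, isTS_map g.2 (h2 0),
      isTS_map g.2 (h2 1), ?_⟩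
    have h4 := (key _ _ _).1 (hπ 0)
    have h5 := (key _ _ _).1 (hπ 1)
    obtain rfl | rfl : π = 1 ∨ π = .swap 0 1 := by clear * -; revert π; decide
    exacts [.inl ⟨h4, h5⟩, .inr ⟨h4, h5⟩]
  · rintro ⟨U, U', h4, h5, h6, h7⟩
    have := two_mul_finrank hD h4 h5 h6
    obtain ⟨g, hg, rfl, rfl⟩ := su_dual_trans hD (isDual_of_isCompl hD h1 (h2 0) (h2 1))
      (isDual_of_isCompl hD h4 h5 h6) (by omega) fun e => by rw [e, finrank_bot] at h3; omega
    refine ⟨g, hg, h7.elim (fun h => ⟨1, ?_⟩) fun h => ⟨.swap 0 1, ?_⟩⟩ <;>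
      exact Fin.forall_fin_two.2 ⟨(key _ _ _).2 h.1, (key _ _ _).2 h.2⟩

theorem su_pp_dvd (hD : D.Nondeg) (hn : finrank F V = 2 * m) {A : Fin 2 → Submodule F V}
    (h1 : IsCompl (A 0) (A 1)) (h2 : ∀ i, D.IsTS (A i)) (hr : r.Prime) (hF : (r : F) ≠ 0)
    (hΩ : r ∣ (D.dec A).relIndex D.det.ker) : ∃ j < m, r ∣ q ^ (2 * j + 1) + 1 := by
  have h3 := two_mul_finrank hD h1 (h2 0) (h2 1)
  have h4 := card_ne_zero_zmod hr hF
  rw [h.card, Nat.cast_pow] at h4
  refine exists_dvd_of_prod hr (q := q) (a := 2 * m * (2 * m - 1) / 2) (fun e => h4 (by simp [e])) (dvd_of_relIndex' hΩ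
    (D.leviGL (A 0) (A 1)).subtype Subtype.val_injective (fun g => ⟨1, Fin.forall_fin_two.2
      ⟨D.mem_stab_iff_map.1 g.2.1, D.mem_stab_iff_map.1 g.2.2.1⟩⟩) ?_
    (card_levi hD (isDual_of_isCompl hD h1 (h2 0) (h2 1)) (m := m) (by omega)))
  rw [Herm.card_isom hD, hn, guOrder, h.card]
  congr 1
  convert prod_two_mul (fun j => if Odd j then q ^ j + 1 else q ^ j - 1) m using 3 with i _ i _ i
  · simp [Nat.odd_add_one]
  · simp [← pow_mul]
  · simp

theorem su_pp (p : ℕ) [Fact p.Prime] [CharP F p] (hD : D.Nondeg) (hn : finrank F V = 2 * m)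
    (hm : 2 ≤ m) (hr : r.Prime) (hΩ : (r : F) ≠ 0 → ∃ j < m, r ∣ q ^ (2 * j + 1) + 1) :
    AllE (fun x => IsIsometry D D x ∧ LinearMap.det x = 1) r (PP D) ↔
      r = 2 ∧ (2 : F) ≠ 0 ∧ padicValNat 2 (q + 1) ≤ padicValNat 2 (2 * m) := by
  haveI := nontrivial_of_finrank_pos (R := F) (M := V) (by omega)
  rcases r_cases (F := F) p hr with rfl | ⟨rfl, -, h2⟩ | ⟨-, -, h2, h3, hF⟩
  · refine iff_of_false (fun H => ?_) fun ⟨e, h2, _⟩ => h2 (by subst e; exact CharTwo.two_eq_zero)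
    obtain ⟨e, f, hef⟩ := Herm.exists_isHyp hD (by omega)
    obtain ⟨c, h1, h2⟩ := h.exists_trace_zero
    have h3 := (Herm.isRk1_iff_of_Q_eq_zero hef.1).2 h2
    have h4 : D.B e e = 0 := by rw [D.B_self, hef.1, mul_zero]
    refine not_pp_of_rk hD (isIsometry_nat (D.rk1 e c h3)) (by
      rw [rk, rng, map_one]; exact hD.finrank_range_rk1 h3 h1 hef.e_ne_zero) (by omega)
      (H _ ⟨isIsometry_nat _, by simpa [h4, nat_apply] using (coe_det _).symm.trans (det_rk1 e c h3)⟩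
        ⟨1, ?_⟩)
    rw [map_one, ← pow_one r, pow_char_pow_iff, pow_one, pow_eq_zero_of_le hr.two_le]
    exact LinearMap.ext fun v => by simp [sq, nat_apply, rk1_apply, h4]
  · have hq : 2 ∣ q + 1 := ((Nat.odd_pow_iff two_ne_zero).1
      (h.card ▸ odd_card_iff.2 h2)).add_one.two_dvd
    obtain ⟨ζ, hζ⟩ := exists_primRoot (F := F) (N := q + 1) ⟨_, h.card_sub_one⟩
    rw [su_all_iff (R := True) hD Nat.prime_two h2 hq hn (fun _ c h => h.smul c)
      fun x z h1 h3 hx h4 => iff_true_intro ?_, true_or, and_true, ← not_lt,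
      ← exists_pow_eq_neg_one_iff' hζ (by omega) h2 (by omega)]
    · simp only [h2, ne_eq, not_false_eq_true, true_and]
      refine ⟨fun H ⟨w, h3, h4⟩ => ?_, fun H y hy h1 ⟨w, h3, h4⟩ => ?_⟩
      · obtain ⟨A, hA⟩ := (cp_herm h).sub (stdHerm_nondeg h (Fin 1)) hD (by simp; omega)
        have hc := (hD.isOrthCompl (D.nondeg_restrict_iff.1
          (hA.symm.nondeg (stdHerm_nondeg h _)))).symm
        have h5 : finrank F A = 1 := by simpa using hA.finrank_eq
        refine not_pp_of_rk hD (pm_isIsometry hc) (le_antisymm ?_ ?_) (by omega)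
          (H _ (pm_isIsometry hc) (pm_sq hc) ⟨w, h3, by simp [det_pm, h4, h5]⟩)
        · have := finrank_eig_add_rng (pm hc) 1
          have := Submodule.finrank_add_eq_of_isCompl hc.compl
          have := Submodule.finrank_mono (t := eig (pm hc) 1) fun v hv =>
            mem_eig.2 ((pm_left hc hv).trans (one_smul _ _).symm)
          rw [rk]; omega
        · refine Nat.pos_of_ne_zero fun e => h2 ?_
          have := det_pm hc
          rw [rk_eq_zero e, h5, map_one] at this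
          linear_combination this
      · obtain ⟨U, U', hc, rfl⟩ := exists_pm h2 hy h1
        have := Submodule.finrank_add_eq_of_isCompl hc.compl
        have : finrank F U' % 2 = 0 := by_contra fun e => H ⟨w, h3, by
          rw [det_pm, (Nat.odd_iff.2 (by omega)).neg_one_pow] at h4
          linear_combination -h4⟩
        exact pp_pm hD hc (m := finrank F U / 2) (n := finrank F U' / 2)
          (Herm.hasTS (hc.nondeg_left hD) (by omega))
          (Herm.hasTS (hc.symm.nondeg_left hD) (by omega)) (by omega) (by omega)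
    · obtain h5 | ⟨-, w, rfl, h5⟩ := h1.cases
      swap
      · exact pp_eig h2 hx h5 h4
      obtain ⟨k, hk⟩ : 2 ∣ q - 1 := by have := h.two_le; omega
      obtain ⟨g, hg⟩ := exists_primRoot (F := F) dvd_rfl
      haveI : NeZero (q + 1) := ⟨by omega⟩
      have h6 : IsPrimitiveRoot (g ^ (q - 1)) (q + 1) :=
        hg.pow (by have := two_le_card (F := F); omega) (by rw [h.card_sub_one, mul_comm])
      obtain ⟨j, -, rfl⟩ := h6.eq_pow_of_pow_eq_one (h.norm_eq z ▸ h3)
      exact absurd (by rw [hk]; ring) (h5 (g ^ (k * j)))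
  refine iff_of_false (fun H => ?_) fun e => h2 e.1
  obtain ⟨j, h4, h5⟩ := hΩ hF
  obtain ⟨h6, h7⟩ := (dvd_pow_add_one_iff hr h2).1 h5
  obtain ⟨b, hb⟩ := (even_of_dvd_two_mul h6 h7).two_dvd
  rw [hb, Nat.mul_dvd_mul_iff_left two_pos] at h6
  have h8 := Nat.odd_iff.1 ((odd_two_mul_add_one j).of_dvd_nat h6)
  have h9 := fun g hg => (pd_herm_iff (g := g) h hr h2 hF hg).2 (by omega)
  have h10 : io r F = b := by simp [io_herm h, hb]
  have h11 := Nat.le_of_dvd (by omega) h6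
  have key : ∀ y : End F V, y ^ r = 1 → (fac y).Nodup → fac y ≠ 0 → LinearMap.det y ≠ 1 :=
    fun y a b c d => by
      obtain ⟨g, hg⟩ := ((selfDual_iff_fac h.σσ (ss_of_pow' hF a) (isUnit_of_pow hr a)).2
        (map_pd_of_self (fac_mem_Phi hr hF a) h9)).exists_herm_isom hD rfl
      have e : nat D g ^ r = 1 := (sim_pow_scalar (z := 1) hg (by simpa using a)).trans (map_one _)
      obtain ⟨u, hu⟩ := id hg
      refine not_tsi hD hr h2 hF (isIsometry_nat g) e hn h9 (fac_of_sim hg ▸ b) (fac_of_sim hg ▸ c)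
        ((H _ ⟨isIsometry_nat g, ?_⟩ ⟨1, by simpa⟩).tsi hD h3 e hn)
      rw [← d, ← LinearMap.det_conj y u]
      exact congrArg _ (LinearMap.ext fun v => by simp [hu, nat_apply])
  by_cases e : io r F = 1
  · obtain ⟨ζ, hζ⟩ := exists_primRoot (io_eq_one_iff.1 e)
    have h12 := hζ.ne_zero hr.ne_zero
    have h13 := hζ.ne_one hr.one_lt
    obtain ⟨y, hy⟩ := exists_dgm (F := F) (V := V) (s := ζ ::ₘ ζ⁻¹ ::ₘ .replicate (2 * m - 2) 1)
      (by simp; omega)
    have h14 : fac y = {X - C ζ, X - C ζ⁻¹} := fac_eq_of_nf (a := 2 * m - 2) (by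
      simp [← C_1, eq_comm (a := (1 : F)), h13, -map_one]) (by
        rw [hy.2, nf_prod_lin, add_comm]; simp)
    refine key y (hy.pow_eq_one.2 ?_) ?_ (by simp [h14]) (by simp [hy.det, h12])
    · simp +contextual [Multiset.mem_replicate, hζ.pow_eq_one, or_imp]
    · have : ζ ≠ ζ⁻¹ := fun e => h2 ((Nat.prime_dvd_prime_iff_eq hr Nat.prime_two).1
        (hζ.dvd_of_pow_eq_one 2 (by rw [sq]; nth_rw 2 [e]; exact mul_inv_cancel₀ h12)))
      simp [h14, this, -map_inv₀]
  · obtain ⟨g, hg⟩ := exists_mem_Phi hr hF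
    obtain ⟨y, h12, h13⟩ := exists_pow_fac (V := V) hr hF (M := {g}) (by simpa) (by simp; omega)
    exact key y h12 (by simp [h13]) (by simp [h13]) (det_eq_one_of_io hr e h12)

end Herm

end Cfsg.Lib.Elu
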