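import Cfsg.Agent.Lib.Elu.Br

/-!
Isometries whose `r`-th power is a scalar without an `r`-th root of norm one; involutions.
-/

set_option autoImplicit false

namespace Cfsg.Lib.Elu

open Module Cfsg.Lib.Forms Cfsg.Lib.Forms.Form Cfsg.Lib.Known Cfsg.Lib.Conj Polynomial

variable {F : Type*} [Field F] {σ : F →+* F} {K : Kind σ} {V V' W W' : Type*}
  [AddCommGroup V] [Module F V] [AddCommGroup V'] [Module F V']
  [AddCommGroup W] [Module F W] [AddCommGroup W'] [Module F W']
  {D : Form K V} {D' : Form K V'} {E : Form K W} {E' : Form K W'} {x : End F V} {y : End F V'}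
  {U U' : Submodule F V} {r m n l : ℕ} {z w : F}

variable (σ r z) in
/-- `z` has no `r`-th root, or `r = 2` and its square roots have norm `-1`. -/
structure Nr : Prop where
  prime : r.Prime
  ne : (r : F) ≠ 0
  cases : (∀ b, b ^ r ≠ z) ∨ r = 2 ∧ ∃ w, w ^ 2 = z ∧ w * σ w = -1

variable (D r z) in
/-- Some isometry has `r`-th power `z`. -/
def Rt : Prop := ∃ x : End F V, IsIsometry D D x ∧ x ^ r = algebraMap F _ z

theorem Nr.not_root (h : Nr σ r z) (hw : w * σ w = 1) : w ^ r ≠ z := by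
  obtain ⟨-, h0, h | ⟨rfl, a, rfl, h⟩⟩ := h
  · exact h w
  · intro e
    refine h0 ?_
    rcases sq_eq_sq_iff_eq_or_eq_neg.1 e with rfl | rfl
    · push_cast; linear_combination h - hw
    · rw [map_neg] at hw
      push_cast; linear_combination h - hw

theorem Nr.ne_zero (h : Nr σ r z) : z ≠ 0 := by
  obtain ⟨h1, -, h | ⟨rfl, a, rfl, h⟩⟩ := h
  · exact fun e => h 0 (by rw [e, zero_pow h1.ne_zero])
  · rintro e
    rw [pow_eq_zero_iff two_ne_zero] at e
    simp [e] at h

theorem pow_apply_of_eig (v : V) (h : x v = w • v) (k : ℕ) : (x ^ k) v = w ^ k • v := by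
  induction k with
  | zero => simp
  | succ k ih => rw [pow_succ', Module.End.mul_apply, ih, map_smul, h, smul_smul, pow_succ]

theorem Nr.eq_zero (h : Nr σ r z) (hx : x ^ r = algebraMap F _ z) (hw : w * σ w = 1) {v : V}
    (hv : x v = w • v) : v = 0 := by_contra fun h0 => h.not_root hw (smul_left_injective F h0 (by
  simp only [← pow_apply_of_eig v hv, hx]; rfl))

theorem restrict_pow_scalar (hU : Inv x U) (h : x ^ r = algebraMap F _ z) :
    x.restrict hU ^ r = algebraMap F _ z := by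
  rw [Module.End.pow_restrict]
  exact LinearMap.ext fun v => Subtype.ext (LinearMap.congr_fun h v)

theorem sim_pow_scalar (hs : Sim x y) (h : x ^ r = algebraMap F _ z) :
    y ^ r = algebraMap F _ z :=
  aeval_X_pow_sub_C.1 ((hs.aeval _).eq_zero_iff.1 (aeval_X_pow_sub_C.2 h))

theorem Rt.iso (h : Rt D r z) (e : D.Iso D') : Rt D' r z :=
  let ⟨x, h1, h2⟩ := h; let ⟨e, he⟩ := e
  ⟨_, (isoC_conj he x).isIsometry h1, sim_pow_scalar (sim_conj e x) h2⟩

theorem Rt.prod (h : Rt D r z) (h' : Rt D' r z) : Rt (D.prod D') r z :=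
  let ⟨_, h1, h2⟩ := h; let ⟨_, h3, h4⟩ := h'
  ⟨_, isIsometry_prodMap h1 h3, by rw [prodMap_pow, h2, h4]; rfl⟩

theorem NDI.rt (h : NDI D x E) (hx : IsIsometry D D x) (h1 : x ^ r = algebraMap F _ z) :
    Rt E r z :=
  let ⟨_, h2, h3⟩ := h
  Rt.iso ⟨_, isIsometry_restrict hx h3, restrict_pow_scalar h3 h1⟩ h2

theorem ndi_inl (D : Form K V) (D' : Form K V') (x : End F V) (y : End F V') :
    NDI (D.prod D') (x.prodMap y) D := ⟨_, (iso_restrict_inl D D').symm, inv_inl x y⟩

theorem isTS_eig (hx : IsIsometry D D x) (hw : w * σ w ≠ 1) : D.IsTS (eig x w) := by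
  refine ⟨fun u hu => ?_, fun u hu v hv => ?_⟩
  · have := hx.Q_map u
    rw [mem_eig.1 hu, D.Q_smul] at this
    exact (mul_left_eq_self₀.1 this).resolve_left hw
  · have := hx.B_map u v
    rw [mem_eig.1 hu, mem_eig.1 hv, D.B_smul_left, D.B_smul_right, ← mul_assoc,
      mul_comm (σ w)] at this
    exact (mul_left_eq_self₀.1 this).resolve_left hw

theorem rng_le_eig (h : x ^ 2 = algebraMap F _ (w ^ 2)) : rng x w ≤ eig x (-w) := by
  intro v hv
  obtain ⟨u, rfl⟩ := mem_rng.1 hv
  have : x (x u) = w ^ 2 • u := LinearMap.congr_fun h u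
  rw [mem_eig, map_sub, map_smul, this]
  module

variable [FiniteDimensional F V] [FiniteDimensional F V'] [FiniteDimensional F W]

theorem charpoly_of_smul (h : ∀ v, x v = w • v) : x.charpoly = (X - C w) ^ finrank F V := by
  have h1 := LinearMap.charpoly_sub_smul x w
  rw [show x - w • 1 = 0 from LinearMap.ext fun v => by simp [h], LinearMap.charpoly_zero] at h1
  have := congrArg (·.comp (X - C w)) h1
  simpa [comp_assoc] using this.symm

theorem eig_half (hD : D.Nondeg) (hx : IsIsometry D D x) (h2 : (2 : F) ≠ 0)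
    (h : x ^ 2 = algebraMap F _ (w ^ 2)) (hw : w * σ w = -1) :
    2 * finrank F (eig x w) = finrank F V := by
  have h0 : w * σ w ≠ 1 := fun e => h2 (by linear_combination hw - e)
  have h1 := (isTS_eig hx h0).two_mul_finrank_le hD
  have h3 := ((isTS_eig hx (w := -w) (by simpa using h0)).mono (rng_le_eig h)).two_mul_finrank_le hD
  have := finrank_eig_add_rng x w
  omega

theorem Nr.ss (h : Nr σ r z) (hx : x ^ r = algebraMap F _ z) : x.IsSemisimple :=
  ss_of_pow_scalar h.ne h.ne_zero hx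

theorem Nr.charpoly (h : Nr σ r z) (hD : D.Nondeg) (hx : IsIsometry D D x)
    (h1 : x ^ r = algebraMap F _ z) :
    ∃ k, finrank F V = r * k ∧ x.charpoly = (X ^ r - C z) ^ k := by
  have hs := h.ss h1
  obtain ⟨hr, h0, h | ⟨rfl, w, rfl, h⟩⟩ := h
  · obtain ⟨k, hk⟩ := hasED_nonpow hr h h1
    exact ⟨k, (nonpow_props hr.ne_zero hk).1, by simp [hk.charpoly, edProd]⟩
  · have h2 := eig_half hD hx h0 h1 h
    have h3 := finrank_eig_add_rng x w
    refine ⟨_, h2.symm, ?_⟩
    rw [← (sim_isCompl (isCompl_eig_rng hs w) (eig_inv x w) (rng_inv x w)).charpoly,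
      LinearMap.charpoly_prodMap, charpoly_of_smul (restrict_eig_apply x w),
      charpoly_of_smul (w := -w) fun v => Subtype.ext (mem_eig.1 (rng_le_eig h1 v.2)),
      show finrank F (rng x w) = finrank F (eig x w) by omega, ← mul_pow, C_neg, C_pow]
    ring

theorem Nr.dvd (h : Nr σ r z) (hD : D.Nondeg) (hR : Rt D r z) : r ∣ finrank F V :=
  let ⟨_, h1, h2⟩ := hR; let ⟨k, hk, _⟩ := h.charpoly hD h1 h2; ⟨k, hk⟩

theorem Nr.det (h : Nr σ r z) (hD : D.Nondeg) (hx : IsIsometry D D x)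
    (h1 : x ^ r = algebraMap F _ z) :
    LinearMap.det x = (-1) ^ finrank F V * (-z) ^ (finrank F V / r) := by
  obtain ⟨k, h2, h3⟩ := h.charpoly hD hx h1
  rw [det_eq_charpoly, h3, coeff_zero_eq_eval_zero, h2, Nat.mul_div_cancel_left _ h.prime.pos]
  simp [h.prime.ne_zero]

theorem Nr.sub_one (h : Nr σ r z) (hx : x ^ r = algebraMap F _ z) : IsUnit (x - 1) :=
  isUnit_sub_one_of fun v hv => h.eq_zero hx (w := 1) (by simp) (by simpa using hv)

theorem Nr.add_one (h : Nr σ r z) (hx : x ^ r = algebraMap F _ z) : IsUnit (x + 1) :=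
  isUnit_add_one_of fun v hv => h.eq_zero hx (w := -1) (by simp) (by simpa using hv)

variable [Finite F]

theorem Nr.isoC (h : Nr σ r z) (hD : D.Nondeg) (hD' : D'.Nondeg) (hx : IsIsometry D D x)
    (hy : IsIsometry D' D' y) (h1 : x ^ r = algebraMap F _ z) (h2 : y ^ r = algebraMap F _ z)
    (hn : finrank F V = finrank F V') : IsoC D x D' y := by
  obtain ⟨k, h3, h4⟩ := h.charpoly hD hx h1
  obtain ⟨l, h5, h6⟩ := h.charpoly hD' hy h2
  obtain rfl : k = l := Nat.eq_of_mul_eq_mul_left h.prime.pos (by omega)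
  exact isoC_of_unit hD hD' hx hy (sim_of_charpoly (h.ss h1) (h.ss h2) (h4.trans h6.symm))
    (h.sub_one h1) (h.add_one h1)

theorem Nr.ndi [FiniteDimensional F W'] (h : Nr σ r z) (hD : D.Nondeg) (hx : IsIsometry D D x)
    (h1 : x ^ r = algebraMap F _ z) (e : (E.prod E').Iso D) (h2 : Rt E r z) (h3 : Rt E' r z) :
    NDI D x E := by
  obtain ⟨a, h4, h5⟩ := h2
  obtain ⟨b, h6, h7⟩ := h3
  exact (ndi_inl E E' a b).isoC (h.isoC (e.symm.nondeg hD) hD (isIsometry_prodMap h4 h6) hx
    (by rw [prodMap_pow, h5, h7]; rfl) h1 e.finrank_eq)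

theorem Nr.exists (K : Kind σ) (h : Nr σ r z) (hz : z * σ z = 1) (hn : r ∣ finrank F V) :
    ∃ D : Form K V, D.Nondeg ∧ Rt D r z := by
  obtain ⟨k, hk⟩ := hn
  have hr := h.prime.ne_zero
  have hm := monic_X_pow_sub_C z hr
  obtain ⟨x, h1, h2⟩ := exists_ss_charpoly (V := V) (hm.pow k) (by simp [hk, mul_comm])
  have h3 : x ^ r = algebraMap F _ z := aeval_X_pow_sub_C.1
    (Module.End.eq_zero_of_isNilpotent_isSemisimple
      ⟨k, by rw [← map_pow, ← h2, LinearMap.aeval_self_charpoly]⟩ (h1.aeval _))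
  have h4 : IsUnit x := (isUnit_pow_iff hr).1 (h3 ▸ (IsUnit.mk0 z h.ne_zero).map _)
  obtain ⟨D, h5, h6⟩ := ((selfDual_iff_pd K.σσ h1 h4).2 (by
    rw [h2, map_pow, (pd_eq_self_iff hm (by simp [hr.symm, h.ne_zero])).2 ?_]
    rw [natDegree_X_pow_sub_C, show (X ^ r - C z : F[X]).coeff 0 = -z by simp [hr.symm],
      Polynomial.map_sub, Polynomial.map_pow, map_X, map_C, reflect_sub, reflect_C,
      reflect_monomial, revAt_le le_rfl, Nat.sub_self, map_neg, map_neg]
    linear_combination -(C_mul.symm.trans (congrArg C hz)).trans C_1)).exists_form K (h.sub_one h3)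
    (h.add_one h3)
  exact ⟨D, h5, x, h6, h3⟩

theorem Nr.tsi (h : Nr σ r z) (hD : D.Nondeg) (hx : IsIsometry D D x)
    (h1 : x ^ r = algebraMap F _ z) (hm : 2 * m ≤ finrank F V) :
    TSI D x m ↔ (∃ b, b ^ r = z) ∨ r ∣ m := by
  have hs := h.ss h1
  have h5 := h.add_one h1
  obtain ⟨hr, h0, h | ⟨rfl, w, rfl, h⟩⟩ := h
  · rw [or_iff_right (not_exists.2 h)]
    constructor
    · rintro ⟨U, rfl, -, h2⟩
      obtain ⟨k, hk⟩ := hasED_nonpow hr h (restrict_pow_scalar h2 h1)
      exact ⟨k, (nonpow_props hr.ne_zero hk).1⟩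
    · rintro ⟨j, rfl⟩
      obtain ⟨k, hk⟩ := hasED_nonpow hr h h1
      have h2 := (nonpow_props hr.ne_zero hk).1
      have h3 : fac x = Multiset.replicate k (X ^ r - C z) := fac_of_hasED (by simpa using hk)
        fun e => hr.one_lt.ne (by
          simpa [natDegree_X_sub_one'] using congrArg natDegree (Multiset.eq_of_mem_replicate e))
      have h4 := map_pd_fac hD hx hs
      have h6 : j + j ≤ k := Nat.le_of_mul_le_mul_left (by rw [mul_add]; omega) hr.pos
      refine (ts_iff hD hx hs fun v hv => ?_).2 ⟨Multiset.replicate j (X ^ r - C z), 0, ?_,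
        hasTS_zero, by simp [mul_comm]⟩
      · rw [inj_of_isUnit h5 (v := v) (by simp [hv]), map_zero]
      · rw [h3, map_of_fix fun a ha => ?_, ← Multiset.replicate_add]
        · exact (Multiset.replicate_le_replicate _).2 h6
        · rw [h3, Multiset.map_replicate] at h4
          rw [Multiset.eq_of_mem_replicate ha]
          exact Multiset.replicate_right_injective
            (by have := (Multiset.mem_replicate.1 ha).1; omega) h4
  · refine iff_of_true ?_ (Or.inl ⟨w, rfl⟩)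
    have h2 := eig_half hD hx h0 h1 h
    obtain ⟨T, h3, h4⟩ := exists_le_finrank_eq (eig x w) (l := m) (by omega)
    exact ⟨T, h4, (isTS_eig hx fun e => h0 (by push_cast; linear_combination h - e)).mono h3,
      Inv.of_le_eig h3⟩

end Cfsg.Lib.Elu
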