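import Cfsg.Agent.Lib.Elu.Lin
import Cfsg.Agent.Lib.Forms.Levi

/-!
Invariant totally singular and nondegenerate subspaces of semisimple isometries.
-/

set_option autoImplicit false

namespace Cfsg.Lib.Elu

open Module Cfsg.Lib.Forms Cfsg.Lib.Forms.Form Cfsg.Lib.Known Cfsg.Lib.Conj Polynomial

universe u

variable {F : Type*} [Field F] {σ : F →+* F} {K : Kind σ} {V V' W W' : Type*}
  [AddCommGroup V] [Module F V] [AddCommGroup V'] [Module F V']
  [AddCommGroup W] [Module F W] [AddCommGroup W'] [Module F W']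
  {D : Form K V} {D' : Form K V'} {E : Form K W} {E' : Form K W'} {x : End F V} {y : End F V'}
  {U U' : Submodule F V} {r m l : ℕ}

/-- `x` fixes a totally singular `m`-space. -/
def TSI (D : Form K V) (x : End F V) (m : ℕ) : Prop :=
  ∃ U : Submodule F V, finrank F U = m ∧ D.IsTS U ∧ Inv x U

/-- `x` fixes a subspace isometric to `E`. -/
def NDI (D : Form K V) (x : End F V) (E : Form K W) : Prop :=
  ∃ U : Submodule F V, (D.restrict U).Iso E ∧ Inv x U

theorem TSI.isoC (h : TSI D x m) (H : IsoC D x D' y) : TSI D' y m := by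
  obtain ⟨U, h1, h2, h3⟩ := h
  obtain ⟨e, he, he'⟩ := H
  exact ⟨_, (finrank_map_equiv e U).trans h1, h2.map (f := e.toLinearMap) he, h3.map _ he'⟩

theorem NDI.isoC (h : NDI D x E) (H : IsoC D x D' y) : NDI D' y E := by
  obtain ⟨U, h1, h3⟩ := h
  obtain ⟨e, he, he'⟩ := H
  exact ⟨_, (he.iso_restrict U).symm.trans h1, h3.map _ he'⟩

theorem NDI.iso (h : NDI D x E) (H : E.Iso E') : NDI D x E' :=
  let ⟨U, h1, h2⟩ := h; ⟨U, h1.trans H, h2⟩

theorem tsi_zero (D : Form K V) (x : End F V) : TSI D x 0 :=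
  ⟨⊥, finrank_bot F V, isTS_bot, fun v hv => by simp_all⟩

theorem ndi_top (D : Form K V) (x : End F V) : NDI D x D :=
  ⟨⊤, iso_restrict_top D, fun _ _ => trivial⟩

theorem TSI.smul (h : TSI D x m) (c : F) : TSI D (c • x) m :=
  let ⟨U, h1, h2, h3⟩ := h; ⟨U, h1, h2, fun v hv => U.smul_mem c (h3 v hv)⟩

theorem NDI.smul (h : NDI D x E) (c : F) : NDI D (c • x) E :=
  let ⟨U, h1, h3⟩ := h; ⟨U, h1, fun v hv => U.smul_mem c (h3 v hv)⟩

theorem TSI.hasTS (h : TSI D x m) : D.HasTS m := let ⟨U, h1, h2, _⟩ := h; ⟨U, h1, h2⟩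

theorem tsi_of_smul {c : F} (hx : ∀ v, x v = c • v) (h : D.HasTS m) : TSI D x m :=
  let ⟨U, h1, h2⟩ := h; ⟨U, h1, h2, fun v hv => hx v ▸ U.smul_mem c hv⟩

theorem ndi_of_smul {c : F} (hx : ∀ v, x v = c • v) (U : Submodule F V) :
    NDI D x (D.restrict U) := ⟨U, Iso.refl _, fun v hv => hx v ▸ U.smul_mem c hv⟩

theorem Inv.prod {T : Submodule F V'} (h : Inv x U) (h' : Inv y T) :
    Inv (x.prodMap y) (U.prod T) := fun v hv => ⟨h _ hv.1, h' _ hv.2⟩

/-- The product of two subspaces. -/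
def prodEquiv (U : Submodule F V) (T : Submodule F V') : (U × T) ≃ₗ[F] U.prod T where
  toFun v := ⟨(v.1, v.2), v.1.2, v.2.2⟩
  map_add' _ _ := rfl
  map_smul' _ _ := rfl
  invFun v := (⟨v.1.1, v.2.1⟩, ⟨v.1.2, v.2.2⟩)
  left_inv _ := rfl
  right_inv _ := rfl

theorem iso_restrict_prod (D : Form K V) (D' : Form K V') (U : Submodule F V)
    (T : Submodule F V') :
    ((D.restrict U).prod (D'.restrict T)).Iso ((D.prod D').restrict (U.prod T)) :=
  ⟨prodEquiv U T, fun _ _ => rfl, fun _ => rfl⟩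

theorem NDI.prod (h : NDI D x E) (h' : NDI D' y E') :
    NDI (D.prod D') (x.prodMap y) (E.prod E') :=
  let ⟨U, h1, h2⟩ := h; let ⟨T, h3, h4⟩ := h'
  ⟨U.prod T, (iso_restrict_prod D D' U T).symm.trans (h1.prod h3), h2.prod h4⟩

theorem NDI.glue (hc : D.IsOrthCompl U U') {h1 : Inv x U} {h2 : Inv x U'}
    (h : NDI (D.restrict U) (x.restrict h1) E) (h' : NDI (D.restrict U') (x.restrict h2) E') :
    NDI D x (E.prod E') := (h.prod h').isoC (isoC_orthCompl hc h1 h2)

theorem NDI.of_restrict {h1 : Inv x U} (h : NDI (D.restrict U) (x.restrict h1) E) : NDI D x E :=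
  let ⟨T, h2, h3⟩ := h
  ⟨T.map U.subtype, (iso_restrict_restrict U T).symm.trans h2, Inv.map h3 _ fun _ => rfl⟩

theorem TSI.of_restrict {h1 : Inv x U} (h : TSI (D.restrict U) (x.restrict h1) m) : TSI D x m :=
  let ⟨T, h2, h3, h4⟩ := h
  ⟨T.map U.subtype, (Submodule.finrank_map_subtype_eq _ _).trans h2,
    h3.map (D.isIsometry_comap _), Inv.map h4 _ fun _ => rfl⟩

theorem isoC_restrict_map (h : Inv x U) {e : V ≃ₗ[F] V'} (he : IsIsometry D D' e)
    (he' : ∀ v, e (x v) = y (e v)) : IsoC (D.restrict U) (x.restrict h)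
      (D'.restrict (U.map e.toLinearMap)) (y.restrict (h.map e.toLinearMap he')) :=
  ⟨e.submoduleMap U, ⟨fun a b => he.B_map a b, fun a => he.Q_map a⟩,
    fun v => Subtype.ext (he' v)⟩

theorem orth_map {e : V ≃ₗ[F] V'} (he : IsIsometry D D' e) (h : D.IsOrthCompl U U') :
    D'.IsOrthCompl (U.map e.toLinearMap) (U'.map e.toLinearMap) :=
  ⟨(Submodule.orderIsoMapComap e).isCompl h.compl, he.map_perp U ▸ Submodule.map_mono h.orth⟩

theorem exists_of_isoC_prod {a : End F W} {b : End F W'}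
    (h : IsoC (E.prod E') (a.prodMap b) D x) :
    ∃ (U U' : Submodule F V) (h1 : Inv x U) (h2 : Inv x U'), D.IsOrthCompl U U' ∧
      IsoC E a (D.restrict U) (x.restrict h1) ∧ IsoC E' b (D.restrict U') (x.restrict h2) := by
  obtain ⟨e, he, he'⟩ := h
  refine ⟨_, _, (inv_inl a b).map e.toLinearMap he', (inv_inr a b).map e.toLinearMap he',
    orth_map he (isOrthCompl_prod E E'),
    IsoC.trans ?_ (isoC_restrict_map (inv_inl a b) he he'),
    IsoC.trans ?_ (isoC_restrict_map (inv_inr a b) he he')⟩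
  · exact ⟨LinearEquiv.ofInjective _ LinearMap.inl_injective, ⟨fun a b => by simp, fun a => by simp⟩,
      fun v => Subtype.ext (by simp)⟩
  · exact ⟨LinearEquiv.ofInjective _ LinearMap.inr_injective, ⟨fun a b => by simp, fun a => by simp⟩,
      fun v => Subtype.ext (by simp)⟩

theorem eig_restrict (h : Inv x U) (c : F) : eig (x.restrict h) c = (eig x c).comap U.subtype := by
  ext v; rw [Submodule.mem_comap, mem_eig, mem_eig, Subtype.ext_iff]; rfl

variable [FiniteDimensional F V] [FiniteDimensional F V']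

theorem TSI.prod (h : TSI D x m) (h' : TSI D' y l) : TSI (D.prod D') (x.prodMap y) (m + l) :=
  let ⟨U, h1, h2, h3⟩ := h; let ⟨T, h4, h5, h6⟩ := h'
  ⟨U.prod T, by rw [← (prodEquiv U T).finrank_eq, finrank_prod, h1, h4],
    ⟨fun u hu => by rw [prod_Q, h2.1 _ hu.1, h5.1 _ hu.2, add_zero],
      fun u hu v hv => by rw [prod_B, h2.2 _ hu.1 _ hv.1, h5.2 _ hu.2 _ hv.2, add_zero]⟩,
    h3.prod h6⟩

theorem TSI.glue (hc : D.IsOrthCompl U U') {h1 : Inv x U} {h2 : Inv x U'}
    (h : TSI (D.restrict U) (x.restrict h1) m) (h' : TSI (D.restrict U') (x.restrict h2) l) :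
    TSI D x (m + l) := (h.prod h').isoC (isoC_orthCompl hc h1 h2)

theorem isUnit_restrict_sub {c : F} (hu : IsUnit (x - algebraMap F _ c)) (h : Inv x U) :
    IsUnit (x.restrict h - algebraMap F _ c) :=
  isUnit_of_inj fun v hv => Subtype.ext (inj_of_isUnit hu (congrArg Subtype.val hv))

theorem isUnit_restrict (hu : IsUnit x) (h : Inv x U) : IsUnit (x.restrict h : End F U) :=
  isUnit_of_inj fun v hv => Subtype.ext (inj_of_isUnit hu (congrArg Subtype.val hv))

theorem isUnit_restrict_sub_one (hu : IsUnit (x - 1)) (h : Inv x U) :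
    IsUnit (x.restrict h - 1 : End F U) :=
  isUnit_of_inj fun v hv => Subtype.ext (inj_of_isUnit hu (congrArg Subtype.val hv))

theorem isUnit_restrict_add_one (hu : IsUnit (x + 1)) (h : Inv x U) :
    IsUnit (x.restrict h + 1 : End F U) :=
  isUnit_of_inj fun v hv => Subtype.ext (inj_of_isUnit hu (congrArg Subtype.val hv))

theorem eig_eq_bot (hu : IsUnit (x - 1)) : eig x 1 = ⊥ :=
  eq_bot_iff.2 fun v hv => inj_of_isUnit hu (by simp [mem_eig.1 hv])

theorem fac_restrict_le (hs : x.IsSemisimple) (h : Inv x U) : fac (x.restrict h) ≤ fac x := by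
  obtain ⟨T, h1, h2⟩ := exists_inv_compl hs h
  exact fac_isCompl h2 h h1 ▸ Multiset.le_add_right _ _

theorem fac_mono (hs : x.IsSemisimple) (h : Inv x U) (h' : Inv x U') (hle : U ≤ U') :
    fac (x.restrict h) ≤ fac (x.restrict h') := by
  have h1 : Inv (x.restrict h') (U.comap U'.subtype) := h.comap _ fun _ => rfl
  refine le_of_eq_of_le (fac_of_sim (Sim.symm ?_)) (fac_restrict_le (ss_restrict hs h') h1)
  exact ⟨Submodule.comapSubtypeEquivOfLe hle, fun _ => rfl⟩

theorem fac_of_hasED {M : Multiset F[X]} (h : HasED x (M.map fun p => (p, 1)))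
    (h1 : X - 1 ∉ M) : fac x = M := by
  refine fac_eq_of_nf (a := 0) h1 ?_
  rw [h.charpoly, edProd, Multiset.map_map, Multiset.replicate_zero, zero_add]
  simpa using nf_prod fun g hg =>
    let ⟨a, b, _⟩ := h.1 _ (Multiset.mem_map_of_mem _ hg); ⟨b, a⟩

theorem hasED_fac (hs : x.IsSemisimple) (hu : IsUnit (x - 1)) :
    HasED x ((fac x).map fun p => (p, 1)) := by
  have := hasED_ssOf hs
  rwa [ssOf_eq, nf_charpoly hs, eig_eq_bot hu, finrank_bot, Multiset.replicate_zero,
    zero_add] at this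

theorem fac_split (hs : x.IsSemisimple) (hu : IsUnit (x - 1)) {M N : Multiset F[X]}
    (h : fac x = M + N) : ∃ (U U' : Submodule F V) (h1 : Inv x U) (h2 : Inv x U'),
      IsCompl U U' ∧ fac (x.restrict h1) = M ∧ fac (x.restrict h2) = N := by
  have h0 := hasED_fac hs hu
  rw [h, Multiset.map_add] at h0
  obtain ⟨U, U', h1, h2, hc, h3, h4⟩ := hasED_split h0
  have h5 : X - 1 ∉ fac x := fun h => (mem_fac.1 h).2.2.2 rfl
  rw [h, Multiset.mem_add, not_or] at h5
  exact ⟨U, U', h1, h2, hc, fac_of_hasED h3 h5.1, fac_of_hasED h4 h5.2⟩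

theorem finrank_of_fpf (hs : x.IsSemisimple) (hu : IsUnit (x - 1)) :
    finrank F V = ((fac x).map natDegree).sum := by
  rw [← finrank_rng hs, ← finrank_eig_add_rng x 1, eig_eq_bot hu, finrank_bot, zero_add]

theorem finrank_eig_restrict (h : Inv x U) (c : F) :
    finrank F (eig (x.restrict h) c) = finrank F (U.comap (eig x c).subtype) := by
  rw [eig_restrict, ← Submodule.finrank_map_subtype_eq, ← Submodule.finrank_map_subtype_eq (eig x c),
    Submodule.map_comap_subtype, Submodule.map_comap_subtype, inf_comm]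

theorem iso_eig_restrict (h : Inv x U) (c : F) : ((D.restrict U).restrict (eig (x.restrict h) c)).Iso
    ((D.restrict (eig x c)).restrict (U.comap (eig x c).subtype)) :=
  (iso_restrict_restrict _ _).trans ((iso_restrict_of_eq (by
    rw [eig_restrict, Submodule.map_comap_subtype, Submodule.map_comap_subtype, inf_comm])).trans
    (iso_restrict_restrict _ _).symm)

variable [Finite F]

theorem fpf_split (hD : D.Nondeg) (hx : IsIsometry D D x) (hs : x.IsSemisimple)
    (hu : IsUnit (x - 1)) (hu' : IsUnit (x + 1)) {M N : Multiset F[X]} (h : fac x = M + N)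
    (hM : M.map (pd σ) = M) : ∃ (U U' : Submodule F V) (h1 : Inv x U) (h2 : Inv x U'),
      D.IsOrthCompl U U' ∧ fac (x.restrict h1) = M ∧ fac (x.restrict h2) = N := by
  have hN : N.map (pd σ) = N := by
    have := map_pd_fac hD hx hs
    rwa [h, Multiset.map_add, hM, add_right_inj] at this
  have h0 := isUnit_of_isIsometry hD hx.B_map
  obtain ⟨U, U', h1, h2, hc, h3, h4⟩ := fac_split hs hu h
  obtain ⟨E, hE, hE'⟩ := ((selfDual_iff_fac K.σσ (ss_restrict hs h1) (isUnit_restrict h0 h1)).2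
    (by rwa [h3])).exists_form K (isUnit_restrict_sub_one hu h1) (isUnit_restrict_add_one hu' h1)
  obtain ⟨G, hG, hG'⟩ := ((selfDual_iff_fac K.σσ (ss_restrict hs h2) (isUnit_restrict h0 h2)).2
    (by rwa [h4])).exists_form K (isUnit_restrict_sub_one hu h2) (isUnit_restrict_add_one hu' h2)
  obtain ⟨T, T', h5, h6, h7, h8, h9⟩ := exists_of_isoC_prod (isoC_of_unit hD (hE.prod hG) hx
    (isIsometry_prodMap hE' hG') (sim_isCompl hc h1 h2).symm hu hu').symm
  exact ⟨T, T', h5, h6, h7, (fac_of_sim h8.sim).symm.trans h3, (fac_of_sim h9.sim).symm.trans h4⟩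

omit [Finite F] [FiniteDimensional F V] [FiniteDimensional F V'] in
theorem prodMap_pow (x : End F V) (y : End F V') (N : ℕ) :
    x.prodMap y ^ N = (x ^ N).prodMap (y ^ N) := by
  induction N with
  | zero => rfl
  | succ N ih => rw [pow_succ, ih, pow_succ, pow_succ]; rfl

omit [Finite F] [FiniteDimensional F V'] in
theorem tsi_dbl {B : V →ₛₗ[σ] V' →ₗ[F] F} (h : ∃ U : Submodule F V, finrank F U = m ∧ Inv x U) :
    TSI (dbl K B) (x.prodMap y) m := by
  obtain ⟨U, h1, h2⟩ := h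
  refine ⟨U.map (LinearMap.inl F V V'), (Submodule.equivMapOfInjective _ LinearMap.inl_injective
    U).finrank_eq.symm.trans h1, ⟨?_, ?_⟩, h2.map _ fun v => by simp⟩
  · rintro _ ⟨v, -, rfl⟩; simp [dbl_Q]
  · rintro _ ⟨v, -, rfl⟩ _ ⟨w, -, rfl⟩; simp [dbl_B]

theorem tsi_of_half (hD : D.Nondeg) (hx : IsIsometry D D x) (hs : x.IsSemisimple)
    (hu : IsUnit (x - 1)) (hu' : IsUnit (x + 1)) {N : Multiset F[X]}
    (h : fac x = N.map (pd σ) + N) : TSI D x (N.map natDegree).sum := by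
  obtain ⟨U, U', h1, h2, hc, h3, h4⟩ := fac_split hs hu h
  have h0 := isUnit_restrict (isUnit_of_isIsometry hD hx.B_map) h2
  obtain ⟨B, hB⟩ := exists_perfect U' (σ := σ) fun a => ⟨σ a, K.σσ a⟩
  obtain ⟨y, -, -, hy⟩ := exists_dual_end hB h0
  obtain ⟨k, hk, hk'⟩ := exists_pow_of_ss (ss_restrict hs h2) h0
  have h5 := finrank_of_fpf (ss_restrict hs h2) (isUnit_restrict_sub_one hu h2)
  rw [h4] at h5
  refine (tsi_dbl (K := K) (B := B) (x := y) (y := x.restrict h2) ⟨⊤, by rw [finrank_top, h5],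
    fun _ _ => trivial⟩).isoC (isoC_of_unit hD (dbl_nondeg_of_bij hB) hx (dbl_isIsometry hy)
    (sim_of_fac hs (ss_of_pow' hk (prodMap_pow_eq_one (dual_pow_eq_one hB.1 hy hk') hk')) ?_
    (by rw [fac_prodMap, fac_dual K.σσ (charpoly_of_dual K.σσ hB h0 hy), h4, h])) hu hu').symm
  rw [finrank_prod, h5, finrank_of_fpf hs hu, h]
  simp [natDegree_pd]

theorem dual_le_fac (hD : D.Nondeg) (hx : IsIsometry D D x) (hs : x.IsSemisimple)
    (hU : D.IsTS U) (h : Inv x U) :
    (fac (x.restrict h)).map (pd σ) + fac (x.restrict h) ≤ fac x := by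
  have h0 := isUnit_of_isIsometry hD hx.B_map
  have h1 : Inv x (D.perp U) := perp_inv h0 hx.B_map h
  obtain ⟨T, h2, hc⟩ := exists_inv_compl hs h1
  have hB : Function.Bijective (D.B.domRestrict₁₂ T U) := by
    refine ⟨(injective_iff_map_eq_zero _).2 fun t ht => Subtype.ext ?_, fun φ => ?_⟩
    · exact (Submodule.disjoint_def.1 hc.disjoint) _ (D.mem_perp'.2 fun w hw =>
        LinearMap.congr_fun ht ⟨w, hw⟩) t.2
    · obtain ⟨z, hz⟩ := hD.exists_rep_sub U φ
      obtain ⟨a, ha, b, hb, rfl⟩ :=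
        Submodule.mem_sup.1 (hc.sup_eq_top ▸ Submodule.mem_top (x := z))
      refine ⟨⟨b, hb⟩, LinearMap.ext fun w => ?_⟩
      rw [← hz, D.B_add_left, D.mem_perp'.1 ha _ w.2, zero_add]; rfl
  rw [fac_isCompl hc h1 h2, add_comm, fac_dual K.σσ (charpoly_of_dual K.σσ hB
    (isUnit_restrict h0 h) (y := x.restrict h2) fun u v => hx.B_map u v)]
  exact add_le_add (fac_mono hs h h1 hU.le_perp) le_rfl

omit [Finite F] in
theorem orth_one (hs : x.IsSemisimple) (hx : IsIsometry D D x) :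
    D.IsOrthCompl (eig x 1) (rng x 1) := orth_eig_rng hs hx (by simp)

theorem map_pd_half (hx : IsIsometry D D x) {N : Multiset F[X]}
    (h : N.map (pd σ) + N ≤ fac x) : (N.map (pd σ) + N).map (pd σ) = N.map (pd σ) + N := by
  rw [Multiset.map_add, Multiset.map_map, add_comm]
  congr 1
  conv_rhs => rw [← N.map_id]
  exact Multiset.map_congr rfl fun g hg => pd_pd K.σσ
    (mem_fac.1 (Multiset.mem_of_le h (Multiset.mem_add.2 (Or.inr hg)))).2.1

theorem ts_iff (hD : D.Nondeg) (hx : IsIsometry D D x) (hs : x.IsSemisimple)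
    (hn : ∀ v, x v = -v → x v = v) : TSI D x m ↔ ∃ N l, N.map (pd σ) + N ≤ fac x ∧
      (D.restrict (eig x 1)).HasTS l ∧ l + (N.map natDegree).sum = m := by
  constructor
  · rintro ⟨U, rfl, h1, h2⟩
    exact ⟨_, _, dual_le_fac hD hx hs h1 h2, ⟨U.comap (eig x 1).subtype, rfl,
      h1.comap (D.isIsometry_comap _)⟩, by rw [← finrank_eig_restrict h2,
        ← finrank_rng (ss_restrict hs h2), finrank_eig_add_rng]⟩
  · rintro ⟨N, l, h1, h2, rfl⟩
    have hR := nondeg_rng hD hs hx (c := 1) (by simp)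
    obtain ⟨L, hL⟩ := Multiset.le_iff_exists_add.1 h1
    obtain ⟨T, T', h3, h4, h5, h6, -⟩ := fpf_split hR (isIsometry_off hx 1) (ss_off hs 1)
      (isUnit_off_one hs) (isUnit_off_one_add hs hn) ((fac_off hs).trans hL) (map_pd_half hx h1)
    exact TSI.glue (orth_one hs hx) (h1 := eig_inv x 1) (h2 := rng_inv x 1)
      (tsi_of_smul (restrict_eig_apply x 1) h2)
      (tsi_of_half (h5.nondeg_left hR) (isIsometry_restrict (isIsometry_off hx 1) h3)
        (ss_restrict (ss_off hs 1) h3) (isUnit_restrict_sub_one (isUnit_off_one hs) h3)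
        (isUnit_restrict_add_one (isUnit_off_one_add hs hn) h3) h6).of_restrict

theorem nd_decomp (hE : E.Nondeg) (hx : IsIsometry D D x) (hs : x.IsSemisimple)
    (h : NDI D x E) : ∃ (A : Submodule F (eig x 1)) (B : Submodule F V) (hB : Inv x B),
      ((D.restrict (eig x 1)).restrict A).Nondeg ∧ (D.restrict B).Nondeg ∧
      IsUnit (x.restrict hB - 1 : End F B) ∧
      E.Iso (((D.restrict (eig x 1)).restrict A).prod (D.restrict B)) := by
  obtain ⟨U, h1, h2⟩ := h
  have hU := h1.symm.nondeg hE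
  have h3 := orth_one (ss_restrict hs h2) (isIsometry_restrict hx h2)
  have h4 : Inv x ((rng (x.restrict h2) 1).map U.subtype) :=
    Inv.map (rng_inv (x.restrict h2) 1) _ fun _ => rfl
  refine ⟨_, _, h4, (iso_eig_restrict h2 1).nondeg (h3.nondeg_left hU),
    (iso_restrict_restrict _ _).nondeg (h3.symm.nondeg_left hU), ?_,
    h1.symm.trans (h3.iso.trans ((iso_eig_restrict h2 1).prod (iso_restrict_restrict _ _)))⟩
  exact (sim_sub_one (sim_restrict_map (rng_inv (x.restrict h2) 1) U.subtype U.injective_subtype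
    fun _ => rfl)).isUnit_iff.1 (isUnit_off_one (ss_restrict hs h2))

theorem nd_build (hD : D.Nondeg) (hx : IsIsometry D D x) (hs : x.IsSemisimple)
    (hn : ∀ v, x v = -v → x v = v) {M : Multiset F[X]} (hM : M ≤ fac x)
    (hd : M.map (pd σ) = M) : ∃ (B : Submodule F V) (hB : Inv x B), (D.restrict B).Nondeg ∧
      IsUnit (x.restrict hB - 1 : End F B) ∧ fac (x.restrict hB) = M ∧
      ∀ A : Submodule F (eig x 1),
        NDI D x (((D.restrict (eig x 1)).restrict A).prod (D.restrict B)) := by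
  have hR := nondeg_rng hD hs hx (c := 1) (by simp)
  obtain ⟨L, hL⟩ := Multiset.le_iff_exists_add.1 hM
  obtain ⟨T, T', h3, h4, h5, h6, -⟩ := fpf_split hR (isIsometry_off hx 1) (ss_off hs 1)
    (isUnit_off_one hs) (isUnit_off_one_add hs hn) ((fac_off hs).trans hL) hd
  have h7 := sim_restrict_map (y := x) h3 (rng x 1).subtype (rng x 1).injective_subtype fun _ => rfl
  refine ⟨_, Inv.map h3 (rng x 1).subtype fun _ => rfl,
    (iso_restrict_restrict _ _).nondeg (h5.nondeg_left hR),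
    (sim_sub_one h7).isUnit_iff.1 (isUnit_restrict_sub_one (isUnit_off_one hs) h3),
    (fac_of_sim h7).symm.trans h6, fun A => NDI.glue (orth_one hs hx) (h1 := eig_inv x 1)
      (h2 := rng_inv x 1) (ndi_of_smul (restrict_eig_apply x 1) A)
      ⟨T, iso_restrict_restrict _ _, h3⟩⟩

end Cfsg.Lib.Elu
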