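import Cfsg.Agent.Lib.Elu.Root

/-!
Elements of order two in odd characteristic.
-/

set_option autoImplicit false

namespace Cfsg.Lib.Elu

open Module Cfsg.Lib.Forms Cfsg.Lib.Forms.Form Cfsg.Lib.Known Cfsg.Lib.Conj Polynomial

variable {F : Type*} [Field F] {σ : F →+* F} {K : Kind σ} {V V' W W' : Type*}
  [AddCommGroup V] [Module F V] [AddCommGroup V'] [Module F V']
  [AddCommGroup W] [Module F W] [AddCommGroup W'] [Module F W']
  {D : Form K V} {D' : Form K V'} {E : Form K W} {E' : Form K W'} {x : End F V} {y : End F V'}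
  {U U' : Submodule F V} {r m n l d : ℕ} {z w : F}

/-- The involution that is `1` on `U` and `-1` on `U'`. -/
noncomputable def pm (h : D.IsOrthCompl U U') : End F V :=
  nat D (extend h.symm ((D.restrict U').scalar (-1) (by simp)))

theorem pm_left (h : D.IsOrthCompl U U') {v : V} (hv : v ∈ U) : pm h v = v :=
  extend_apply_right h.symm _ hv

theorem pm_right (h : D.IsOrthCompl U U') {v : V} (hv : v ∈ U') : pm h v = -v :=
  (extend_apply_left h.symm _ ⟨v, hv⟩).trans (by simp)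

theorem pm_isIsometry (h : D.IsOrthCompl U U') : IsIsometry D D (pm h) := isIsometry_nat _

theorem pm_inv (h : D.IsOrthCompl U U') : Inv (pm h) U := fun _ hv => (pm_left h hv).symm ▸ hv

theorem pm_inv' (h : D.IsOrthCompl U U') : Inv (pm h) U' :=
  fun _ hv => (pm_right h hv).symm ▸ U'.neg_mem hv

theorem ndi_pm (h : D.IsOrthCompl U U') {A : Submodule F V} (hA : A ≤ U ∨ A ≤ U') :
    NDI D (pm h) (D.restrict A) :=
  ⟨A, Iso.refl _, fun v hv => hA.elim (fun e => (pm_left h (e hv)).symm ▸ hv)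
    fun e => (pm_right h (e hv)).symm ▸ A.neg_mem hv⟩

theorem nr_neg_one (h2 : (2 : F) ≠ 0) : Nr (RingHom.id F) 2 (-1) := by
  refine ⟨Nat.prime_two, h2, ?_⟩
  by_cases h : ∃ w : F, w ^ 2 = -1
  · exact Or.inr ⟨rfl, h.imp fun w h => ⟨h, (sq w).symm.trans h⟩⟩
  · exact Or.inl (not_exists.1 h)

theorem rt_prod_self (E : Form K W) : Rt (E.prod E) 2 (-1) :=
  ⟨(-LinearMap.snd F W W).prod (LinearMap.fst F W W),
    ⟨fun a b => by simp [add_comm], fun a => by simp [add_comm]⟩,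
    LinearMap.ext fun v => by simp [sq, Prod.ext_iff]⟩

variable [FiniteDimensional F V] [FiniteDimensional F V'] [FiniteDimensional F W]

theorem pm_sq (h : D.IsOrthCompl U U') : pm h ^ 2 = 1 :=
  isCompl_ext h.compl (fun v hv => by simp [sq, pm_left h hv]) fun v hv => by
    simp [sq, pm_right h hv]

theorem det_pm (h : D.IsOrthCompl U U') : LinearMap.det (pm h) = (-1) ^ finrank F U' :=
  (coe_det _).symm.trans (by rw [det_extend]; exact det_of_smul fun _ => rfl)

theorem exists_pm (h2 : (2 : F) ≠ 0) (hx : IsIsometry D D x) (h : x ^ 2 = 1) :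
    ∃ (U U' : Submodule F V) (hc : D.IsOrthCompl U U'), x = pm hc := by
  have hc := orth_one (ss_of_pow' (N := 2) h2 h) hx
  exact ⟨_, _, hc, isCompl_ext hc.compl (fun v hv => by rw [pm_left hc hv, mem_eig.1 hv, one_smul])
    fun v hv => by
      rw [pm_right hc hv, mem_eig.1 (rng_le_eig (by simpa using h) hv), neg_smul, one_smul]⟩

theorem tsi_pm (h2 : (2 : F) ≠ 0) (h : D.IsOrthCompl U U') : TSI D (pm h) m ↔
    ∃ a b, a + b = m ∧ (D.restrict U).HasTS a ∧ (D.restrict U').HasTS b := by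
  constructor
  · rintro ⟨T, rfl, h1, h3⟩
    refine ⟨_, _, ?_, ⟨T.comap U.subtype, rfl, h1.comap (D.isIsometry_comap _)⟩,
      T.comap U'.subtype, rfl, h1.comap (D.isIsometry_comap _)⟩
    rw [← Submodule.finrank_map_subtype_eq U, ← Submodule.finrank_map_subtype_eq U',
      Submodule.map_comap_subtype, Submodule.map_comap_subtype,
      ← Submodule.finrank_sup_add_finrank_inf_eq, (h.compl.disjoint.mono inf_le_left
        inf_le_left).eq_bot, finrank_bot, add_zero]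
    refine congrArg (fun A : Submodule F V => finrank F A) (le_antisymm (by simp) fun v hv => ?_)
    obtain ⟨a, b, rfl⟩ := h.exists_add v
    have h4 := T.smul_mem 2⁻¹ (T.add_mem hv (h3 _ hv))
    rw [map_add, pm_left h a.2, pm_right h b.2, show (a : V) + b + (a + -b) = (2 : F) • (a : V) by
      module,
      inv_smul_smul₀ h2] at h4
    exact Submodule.add_mem_sup ⟨a.2, h4⟩ ⟨b.2, by simpa using T.sub_mem hv h4⟩
  · rintro ⟨a, b, rfl, h1, h3⟩
    exact TSI.glue h (h1 := pm_inv h) (h2 := pm_inv' h)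
      (tsi_of_smul (c := 1) (fun v => Subtype.ext (by simp [pm_left h v.2])) h1)
      (tsi_of_smul (c := -1) (fun v => Subtype.ext (by simp [pm_right h v.2])) h3)

theorem ndi_inv (hK : Cp K) (h2 : (2 : F) ≠ 0) (hD : D.Nondeg) (hE : E.Nondeg)
    (hx : IsIsometry D D x) (h : x ^ 2 = 1) (hm : 2 * finrank F W < finrank F V) : NDI D x E := by
  obtain ⟨U, U', hc, rfl⟩ := exists_pm h2 hx h
  have := Submodule.finrank_add_eq_of_isCompl hc.compl
  by_cases h1 : finrank F W < finrank F U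
  · obtain ⟨A, hA⟩ := hK.sub hE (hc.nondeg_left hD) h1
    exact (ndi_pm hc (Or.inl (U.map_subtype_le A))).iso ((iso_restrict_restrict _ _).symm.trans hA)
  · obtain ⟨A, hA⟩ := hK.sub hE (hc.symm.nondeg_left hD) (by omega)
    exact (ndi_pm hc (Or.inr (U'.map_subtype_le A))).iso
      ((iso_restrict_restrict _ _).symm.trans hA)

theorem iso_cancel [FiniteDimensional F W'] (hD : D.Nondeg) (e : (E.prod E').Iso D)
    (h : (D.restrict U).Iso E) : (D.restrict (D.perp U)).Iso E' := by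
  refine (Iso.perp hD e.symm (h.trans (iso_restrict_inl E E'))).trans ?_
  rw [← (isOrthCompl_prod E E').eq_perp (e.symm.nondeg hD)]
  exact (iso_restrict_inr E E').symm

theorem NDI.compl [FiniteDimensional F W'] (h : NDI D x E) (hD : D.Nondeg)
    (hx : IsIsometry D D x) (e : (E.prod E').Iso D) : NDI D x E' :=
  let ⟨_, h1, h2⟩ := h
  ⟨_, iso_cancel hD e h1, perp_inv (isUnit_of_isIsometry hD hx.B_map) hx.B_map h2⟩

theorem ndi_inv' (hK : Cp K) (h2 : (2 : F) ≠ 0) (hD : D.Nondeg) (hE : E.Nondeg)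
    (hx : IsIsometry D D x) (h : x ^ 2 = 1) (hm : 2 * finrank F W ≠ finrank F V)
    (hm' : finrank F W < finrank F V) : NDI D x E := by
  rcases hm.lt_or_gt with hm | hm
  · exact ndi_inv hK h2 hD hE hx h hm
  · obtain ⟨l, C, h1, h3⟩ := hK.compl hE hD hm'
    have := h3.finrank_eq
    rw [finrank_prod] at this
    exact (ndi_inv hK h2 hD h1 hx h (by omega)).compl hD hx ((iso_prod_comm _ _).trans h3)

variable [Finite F]

omit [FiniteDimensional F V] [FiniteDimensional F V'] [FiniteDimensional F W] in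
theorem exists_sq_neg_iff (h2 : (2 : F) ≠ 0) : (∃ b : F, b ^ 2 = -1) ↔ Nat.card F % 4 = 1 := by
  have := (chi_neg_one_pow h2 1).1
  rw [pow_one, pow_one, chi_eq_one_iff] at this
  exact ⟨fun ⟨b, h⟩ => this.1 ⟨b, by rw [← h, sq]⟩, fun h => (this.2 h).imp fun b h => by
    rw [h, sq]⟩

theorem exists_neg_one {K : Kind (RingHom.id F)} {D : Form K V} :
    Rt D 2 (-1) ↔ ∃ x : End F V, IsIsometry D D x ∧ x ^ 2 = -1 := by
  simp [Rt]

theorem tsi_neg_one {K : Kind (RingHom.id F)} {D : Form K V} (h2 : (2 : F) ≠ 0) (hD : D.Nondeg)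
    (hx : IsIsometry D D x) (h : x ^ 2 = -1) (hm : 2 * m ≤ finrank F V) :
    TSI D x m ↔ Nat.card F % 4 = 1 ∨ Even m := by
  rw [(nr_neg_one h2).tsi hD hx (by simpa using h) hm, exists_sq_neg_iff h2, even_iff_two_dvd]

section Alt

variable {D : Form (altKind F) V} {E : Form (altKind F) W}

theorem alt_rt (h2 : (2 : F) ≠ 0) (hD : D.Nondeg) : Rt D 2 (-1) :=
  let ⟨_, h, h'⟩ := (nr_neg_one h2).exists (altKind F) (by simp) (alt_even_finrank hD).two_dvd
  h'.iso (Symp.iso h hD rfl)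

theorem alt_two_ts (h2 : (2 : F) ≠ 0) (hD : D.Nondeg) (h0 : 0 < m) (hm : 2 * m ≤ finrank F V) :
    AllE (fun x => IsIsometry D D x) 2 (TSI D · m) ↔ Even m ∨ Nat.card F % 4 = 1 := by
  haveI := nontrivial_of_finrank_pos (R := F) (M := V) (by omega)
  rw [allE_two hD fun _ h => h, and_iff_right, or_comm]
  · obtain ⟨y, h1, h3⟩ := exists_neg_one.1 (alt_rt h2 hD)
    exact ⟨fun H => (tsi_neg_one h2 hD h1 h3 hm).1 (H y h1 h3),
      fun H x hx h => (tsi_neg_one h2 hD hx h hm).2 H⟩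
  · intro y hy h
    obtain ⟨U, U', hc, rfl⟩ := exists_pm h2 hy h
    have := Submodule.finrank_add_eq_of_isCompl hc.compl
    obtain ⟨a, ha⟩ := alt_even_finrank (hc.nondeg_left hD)
    obtain ⟨b, hb⟩ := alt_even_finrank (hc.symm.nondeg_left hD)
    exact (tsi_pm h2 hc).2 ⟨min a m, m - min a m, by omega,
      Symp.hasTS (hc.nondeg_left hD) (by omega), Symp.hasTS (hc.symm.nondeg_left hD) (by omega)⟩

theorem alt_two_nd (h2 : (2 : F) ≠ 0) (hD : D.Nondeg) (hE : E.Nondeg)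
    (hm : 2 * finrank F W < finrank F V) : AllE (fun x => IsIsometry D D x) 2 (NDI D · E) := by
  haveI := nontrivial_of_finrank_pos (R := F) (M := V) (by omega)
  obtain ⟨l, C, h1, h3⟩ := cp_alt.compl hE hD (by omega)
  exact (allE_two hD fun _ h => h).2 ⟨fun y hy h => ndi_inv cp_alt h2 hD hE hy h hm, fun y hy h =>
    (nr_neg_one h2).ndi hD hy (by simpa using h) h3 (alt_rt h2 hE) (alt_rt h2 h1)⟩

end Alt

section Quad

variable {D : Form (quadKind F) V} {E : Form (quadKind F) W}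

theorem quad_rt_iff (h2 : (2 : F) ≠ 0) (hD : D.Nondeg) :
    Rt D 2 (-1) ↔ Even (finrank F V) ∧ disc hD = 1 := by
  rw [← and_iff_right_of_imp ((nr_neg_one h2).dvd hD), even_iff_two_dvd]
  refine and_congr_right fun ⟨k, hk⟩ => ?_
  have h := fDiag_nondeg h2 (w := fun _ : Fin k => (1 : F)) fun _ => one_ne_zero
  have h1 : disc (h.prod h) = 1 := by rw [disc_prod h h, Int.units_mul_self]
  have h3 : finrank F V = finrank F ((Fin k → F) × (Fin k → F)) := by simp [hk, two_mul]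
  obtain ⟨y, h4, h5⟩ := rt_prod_self (fDiag fun _ : Fin k => (1 : F))
  exact ⟨fun ⟨x, h6, h7⟩ => (((nr_neg_one h2).isoC hD (h.prod h) h6 h4 h7 h5 h3).iso.disc_eq
    hD _).trans h1, fun h6 => Rt.iso ⟨y, h4, h5⟩
      (iso_of_disc (h.prod h) hD h2 h3.symm (h1.trans h6.symm))⟩

theorem om_neg_one_iff (h2 : (2 : F) ≠ 0) (hD : D.Nondeg) (hn : finrank F V = 2 * d)
    (hx : IsIsometry D D x) (h : x ^ 2 = -1) : Om D x ↔ chi (2 : F) ^ d = 1 := by
  have h1 : x ^ 2 = algebraMap F _ (-1) := by simpa using h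
  have h3 := (nr_neg_one h2).det hD hx h1
  obtain ⟨k, h4, h5⟩ := (nr_neg_one h2).charpoly hD hx h1
  obtain rfl : k = d := by omega
  have h6 := x.eval_charpoly (-1)
  have h7 := (nr_neg_one h2).add_one h1
  obtain ⟨g, rfl⟩ := exists_nat hD hx
  rw [om_nat, hD.mem_commutator_iff_det h2, spinor_eq_chi_det hD h2 g h7, and_iff_right
    (Units.ext ((coe_det g).trans (h3.trans (by simp [hn])))),
    show (2⁻¹ : F) • (nat D g + 1) = (-2⁻¹ : F) • (algebraMap F _ (-1) - nat D g) by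
      rw [map_neg, map_one]; module, LinearMap.det_smul, ← h6, h5, hn, pow_mul, ← pow_mul, mul_comm 2, pow_mul,
    chi_sq_mul (by simp [one_add_one_eq_two, h2]) (by simp [h2]), ← chi_pow h2]
  simp [one_add_one_eq_two]

omit [FiniteDimensional F V] [FiniteDimensional F V'] [FiniteDimensional F W] in
theorem chi_neg_one_pow_iff (h2 : (2 : F) ≠ 0) :
    chi (-1 : F) ^ d = 1 ↔ Nat.card F % 4 = 1 ∨ Even d := by
  have := (chi_neg_one_pow h2 1).1
  rw [pow_one, pow_one] at this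
  rw [← this]
  rcases Int.units_eq_one_or (chi (-1 : F)) with h | h <;> simp [h, neg_one_pow_eq_one_iff_even]

omit [FiniteDimensional F V] [FiniteDimensional F V'] [FiniteDimensional F W] in
theorem chi_two_pow_iff (h2 : (2 : F) ≠ 0) :
    chi (2 : F) ^ d = 1 ↔ Nat.card F % 8 = 1 ∨ Nat.card F % 8 = 7 ∨ Even d := by
  haveI := Fintype.ofFinite F
  have h1 := Nat.odd_iff.1 (odd_card_iff.2 h2)
  have := (chi_eq_one_iff (a := (2 : F))).trans FiniteField.isSquare_two_iff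
  rw [← Nat.card_eq_fintype_card] at this
  rw [← or_assoc, show Nat.card F % 8 = 1 ∨ Nat.card F % 8 = 7 ↔ _ from
    ⟨fun h => this.2 (by omega), fun h => by have := this.1 h; omega⟩]
  rcases Int.units_eq_one_or (chi (2 : F)) with h | h <;> simp [h, neg_one_pow_eq_one_iff_even]

theorem disc_eq_one_iff (h2 : (2 : F) ≠ 0) (hD : D.Nondeg) (hn : finrank F V = 2 * d) :
    disc hD = 1 ↔ (D.HasTS d ↔ Nat.card F % 4 = 1 ∨ Even d) := by
  rw [hasTS_iff_disc hD h2 hn, ← chi_neg_one_pow_iff h2]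
  rcases Int.units_eq_one_or (disc hD) with h | h <;>
    rcases Int.units_eq_one_or (chi (-1 : F) ^ d) with h' | h' <;> simp [h, h']

theorem om_pm_iff (h2 : (2 : F) ≠ 0) (hD : D.Nondeg) (h : D.IsOrthCompl U U') :
    Om D (pm h) ↔ ∃ b, finrank F U' = 2 * b ∧
      ((D.restrict U').HasTS b ↔ Nat.card F % 4 = 1 ∨ Even b) := by
  refine om_nat.trans ((extend_negOne_mem_commutator_iff hD h2 h.symm).trans ?_)
  exact ⟨fun ⟨h1, h3⟩ => let ⟨b, hb⟩ := h1.two_dvd; ⟨b, hb, (disc_eq_one_iff h2 _ hb).1 h3⟩,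
    fun ⟨b, hb, h3⟩ => ⟨hb ▸ even_two_mul b, (disc_eq_one_iff h2 _ hb).2 h3⟩⟩

theorem exists_minus_pm (h2 : (2 : F) ≠ 0) (hD : D.Nondeg) (hn : 2 < finrank F V)
    (hq : Nat.card F % 4 ≠ 1) : ∃ (U U' : Submodule F V) (h : D.IsOrthCompl U U'),
      Om D (pm h) ∧ finrank F U' = 2 * 1 ∧ ¬ (D.restrict U').HasTS 1 := by
  obtain ⟨E, h1, h3⟩ := exists_quad_type (F := F) (V := Fin 2 → F) (l := 1) (by simp) False
    (by simp)
  obtain ⟨A, hA⟩ := cp_quad.sub h1 hD (by simpa using hn)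
  have h4 := (hD.isOrthCompl (D.nondeg_restrict_iff.1 (hA.symm.nondeg h1))).symm
  have h5 : finrank F A = 2 * 1 := by simpa using hA.finrank_eq
  have h6 : ¬ (D.restrict A).HasTS 1 := by rw [hA.hasTS_iff, h3]; exact id
  exact ⟨_, A, h4, (om_pm_iff h2 hD h4).2 ⟨1, h5, by simp [h6, hq]⟩, h5, h6⟩

theorem quad_two_odd_ts (h2 : (2 : F) ≠ 0) (hD : D.Nondeg) (hn : finrank F V = 2 * d + 1)
    (h0 : 0 < m) (hm : m ≤ d) :
    (∀ y, Om D y → y ^ 2 = 1 → TSI D y m) ↔ m < d ∨ Nat.card F % 4 = 1 := by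
  refine ⟨fun H => by_contra fun h => ?_, fun H y hy h => ?_⟩
  · obtain ⟨U, U', hc, h1, h3, h4⟩ := exists_minus_pm h2 hD (by omega) fun e => h (Or.inr e)
    obtain ⟨a, b, h5, h6, h7⟩ := (tsi_pm h2 hc).1 (H _ h1 (pm_sq hc))
    have := Submodule.finrank_add_eq_of_isCompl hc.compl
    have := h6.two_mul_le (hc.nondeg_left hD)
    exact h4 (h7.mono (by omega))
  · obtain ⟨U, U', hc, rfl⟩ := exists_pm h2 hy.isIsometry h
    obtain ⟨b, h1, h3⟩ := (om_pm_iff h2 hD hc).1 hy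
    have := Submodule.finrank_add_eq_of_isCompl hc.compl
    refine (tsi_pm h2 hc).2 ⟨min (d - b) m, m - min (d - b) m, by omega,
      Quad.hasTS_pred (hc.nondeg_left hD) (by omega),
      (quad_hasTS_iff (hc.symm.nondeg_left hD) h1).2 ⟨by omega, fun h => h3.2 ?_⟩⟩
    rw [Nat.even_iff]
    omega

theorem quad_inv_ts (h2 : (2 : F) ≠ 0) (hD : D.Nondeg) (hn : finrank F V = 2 * d)
    (h0 : 0 < m) (hm : m < d) : (∀ y, Om D y → y ^ 2 = 1 → TSI D y m) ↔
      (D.HasTS d → Nat.card F % 4 = 1 ∨ m + 2 ≤ d) := by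
  refine ⟨fun H hP => by_contra fun h => ?_, fun H y hy h => ?_⟩
  · obtain ⟨U, U', hc, h1, h3, h4⟩ := exists_minus_pm h2 hD (by omega) fun e => h (Or.inl e)
    obtain ⟨a, b, h5, h6, h7⟩ := (tsi_pm h2 hc).1 (H _ h1 (pm_sq hc))
    have := Submodule.finrank_add_eq_of_isCompl hc.compl
    obtain ⟨e, rfl⟩ : ∃ e, d = e + 1 := ⟨d - 1, by omega⟩
    have h8 : b = 0 := by_contra fun e => h4 (h7.mono (by omega))
    exact h4 (((Quad.IsOrthCompl.hasTS_iff hc hD (by omega) h3).1 hP).1 (h6.mono (by omega)))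
  · obtain ⟨U, U', hc, rfl⟩ := exists_pm h2 hy.isIsometry h
    obtain ⟨b, h1, h3⟩ := (om_pm_iff h2 hD hc).1 hy
    have := Submodule.finrank_add_eq_of_isCompl hc.compl
    obtain ⟨a, rfl⟩ : ∃ e, d = e + b := ⟨d - b, by omega⟩
    have h4 : finrank F U = 2 * a := by omega
    have h5 := Quad.IsOrthCompl.hasTS_iff hc hD h4 h1
    suffices ∃ a' b', a' + b' = m ∧ (a' ≤ a ∧ (a' = a → (D.restrict U).HasTS a)) ∧
        (b' ≤ b ∧ (b' = b → (D.restrict U').HasTS b)) by
      obtain ⟨a', b', e1, e2, e3⟩ := this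
      exact (tsi_pm h2 hc).2 ⟨a', b', e1, (quad_hasTS_iff (hc.nondeg_left hD) h4).2 e2,
        (quad_hasTS_iff (hc.symm.nondeg_left hD) h1).2 e3⟩
    have h6 : a = 0 → (D.restrict U).HasTS a := by rintro rfl; exact hasTS_zero
    rw [h5] at H
    rw [Nat.even_iff] at h3
    generalize (D.restrict U).HasTS a = A at *
    generalize (D.restrict U').HasTS b = B at *
    obtain ⟨s, rfl⟩ := prop_nat A
    obtain ⟨t, rfl⟩ := prop_nat B
    by_cases h7 : s = 0
    · exact ⟨min a m, m - min a m, by omega⟩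
    · exact ⟨min (a - 1) m, m - min (a - 1) m, by omega⟩

/-- The condition for `Ω` to contain an element with square `-1`. -/
def Ex (q d : ℕ) (P : Prop) : Prop :=
  (P ↔ q % 4 = 1 ∨ Even d) ∧ (q % 8 = 1 ∨ q % 8 = 7 ∨ Even d)

theorem om_all_neg (h2 : (2 : F) ≠ 0) (hD : D.Nondeg) (hn : finrank F V = 2 * d)
    {P : End F V → Prop} {R : Prop} (h : ∀ x : End F V, IsIsometry D D x → x ^ 2 = -1 → (P x ↔ R)) :
    (∀ y, Om D y → y ^ 2 = -1 → P y) ↔ (Ex (Nat.card F) d (D.HasTS d) → R) := by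
  rw [Ex, ← disc_eq_one_iff h2 hD hn, ← chi_two_pow_iff h2]
  refine ⟨fun H ⟨h1, h3⟩ => ?_, fun H y hy h1 => (h y hy.isIsometry h1).2 (H ⟨((quad_rt_iff h2
    hD).1 (exists_neg_one.2 ⟨y, hy.isIsometry, h1⟩)).2,
      (om_neg_one_iff h2 hD hn hy.isIsometry h1).1 hy⟩)⟩
  obtain ⟨y, h4, h5⟩ := exists_neg_one.1 ((quad_rt_iff h2 hD).2 ⟨hn ▸ even_two_mul d, h1⟩)
  exact (h y h4 h5).1 (H y ((om_neg_one_iff h2 hD hn h4 h5).2 h3) h5)

theorem quad_two_ts (h2 : (2 : F) ≠ 0) (hD : D.Nondeg) (hn : finrank F V = 2 * d)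
    (h0 : 0 < m) (hm : m < d) {P : Prop} (hP : D.HasTS d ↔ P) : AllE (Om D) 2 (TSI D · m) ↔
      (P → Nat.card F % 4 = 1 ∨ m + 2 ≤ d) ∧
      (Ex (Nat.card F) d P → Nat.card F % 4 = 1 ∨ Even m) := by
  haveI := nontrivial_of_finrank_pos (R := F) (M := V) (by omega)
  rw [allE_two hD fun _ => Om.isIsometry, quad_inv_ts h2 hD hn h0 hm,
    om_all_neg h2 hD hn fun x hx h => tsi_neg_one h2 hD hx h (by omega), hP]

theorem quad_two_nd (h2 : (2 : F) ≠ 0) (hD : D.Nondeg) (hE : E.Nondeg) (hn : finrank F V = 2 * d)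
    (hm : finrank F W = m) (hmn : m < 2 * d) {P Q : Prop} (hP : D.HasTS d ↔ P)
    (hQ : E.HasTS (m / 2) ↔ Q) (H : m = d → Even m ∧ ¬ P) : AllE (Om D) 2 (NDI D · E) ↔
      (Ex (Nat.card F) d P → Even m ∧ (Q ↔ Nat.card F % 4 = 1 ∨ Even (m / 2))) := by
  haveI := nontrivial_of_finrank_pos (R := F) (M := V) (by omega)
  obtain ⟨l, C, h1, h3⟩ := cp_quad.compl hE hD (by omega)
  rw [allE_two hD fun _ => Om.isIsometry, and_iff_right fun y hy h => ?_, ← hP, ← hQ]
  · refine om_all_neg h2 hD hn fun x hx h => ?_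
    have h4 : x ^ 2 = algebraMap F _ (-1) := by simpa using h
    have h5 : Rt E 2 (-1) ↔ Even m ∧ (E.HasTS (m / 2) ↔ Nat.card F % 4 = 1 ∨ Even (m / 2)) := by
      rw [quad_rt_iff h2 hE, hm]
      exact and_congr_right fun h => disc_eq_one_iff h2 hE
        (by have := Nat.even_iff.1 h; omega)
    rw [← h5]
    refine ⟨fun h => h.rt hx h4, fun h6 => (nr_neg_one h2).ndi hD hx h4 h3 h6 ?_⟩
    have h7 := (quad_rt_iff h2 hD).1 ⟨x, hx, h4⟩
    have h8 := h3.finrank_eq
    rw [← h3.disc_eq (hE.prod h1), disc_prod hE h1, ← h8, finrank_prod] at h7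
    rw [quad_rt_iff h2 hE] at h6
    exact (quad_rt_iff h2 h1).2 ⟨(Nat.even_add.1 h7.1).1 h6.1, by simpa [h6.2] using h7.2⟩
  · by_cases h4 : m = d
    · obtain ⟨U, U', hc, rfl⟩ := exists_pm h2 hy.isIsometry h
      have := Submodule.finrank_add_eq_of_isCompl hc.compl
      obtain ⟨⟨k, hk⟩, h5⟩ := H h4
      rcases lt_trichotomy m (finrank F U) with h6 | h6 | h6
      · obtain ⟨A, hA⟩ := cp_quad.sub hE (hc.nondeg_left hD) (by omega)
        exact (ndi_pm hc (Or.inl (U.map_subtype_le A))).iso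
          ((iso_restrict_restrict _ _).symm.trans hA)
      · rw [← hP, ← h4, hk, Quad.IsOrthCompl.hasTS_iff hc hD (by omega) (by omega)] at h5
        by_cases h7 : (D.restrict U).HasTS k ↔ E.HasTS k
        · exact (ndi_pm hc (Or.inl le_rfl)).iso (Quad.iso_of_type (hc.nondeg_left hD) hE
            (by omega) (by omega) h7)
        · exact (ndi_pm hc (Or.inr le_rfl)).iso (Quad.iso_of_type (hc.symm.nondeg_left hD) hE
            (m := k) (by omega) (by omega) (by tauto))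
      · obtain ⟨A, hA⟩ := cp_quad.sub hE (hc.symm.nondeg_left hD) (by omega)
        exact (ndi_pm hc (Or.inr (U'.map_subtype_le A))).iso
          ((iso_restrict_restrict _ _).symm.trans hA)
    · exact ndi_inv' cp_quad h2 hD hE hy.isIsometry h (by omega) (by omega)

end Quad

omit [FiniteDimensional F V] [FiniteDimensional F V'] [FiniteDimensional F W] [Finite F] in
theorem r_cases (p : ℕ) [Fact p.Prime] [CharP F p] (hr : r.Prime) :
    r = p ∨ (r = 2 ∧ p ≠ 2 ∧ (2 : F) ≠ 0) ∨ (r ≠ p ∧ 2 < r ∧ r ≠ 2 ∧ Odd r ∧ (r : F) ≠ 0) := by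
  by_cases h : r = p
  · exact Or.inl h
  · have h1 := cast_ne_zero_of_ne (F := F) hr h
    rcases hr.eq_two_or_odd' with rfl | h2
    · exact Or.inr (Or.inl ⟨rfl, Ne.symm h, h1⟩)
    · have := hr.two_le
      have := Nat.odd_iff.1 h2
      exact Or.inr (Or.inr ⟨h, by omega, by omega, h2, h1⟩)

omit [FiniteDimensional F V] [FiniteDimensional F V'] [FiniteDimensional F W] [Finite F] in
theorem tsi_scalar (h : D.HasTS m) (c : F) : TSI D (algebraMap F _ c) m :=
  tsi_of_smul (c := c) (fun _ => rfl) h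

omit [FiniteDimensional F V] [FiniteDimensional F V'] [FiniteDimensional F W] [Finite F] in
theorem ndi_scalar (h : ∃ A : Submodule F V, (D.restrict A).Iso E) (c : F) :
    NDI D (algebraMap F _ c) E :=
  let ⟨A, h⟩ := h; (ndi_of_smul (c := c) (fun _ => rfl) A).iso h

omit [FiniteDimensional F V] [FiniteDimensional F V'] [FiniteDimensional F W] [Finite F] in
theorem ndi_one (h : ∃ A : Submodule F V, (D.restrict A).Iso E) : NDI D 1 E :=
  map_one (algebraMap F (End F V)) ▸ ndi_scalar h 1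

theorem c_facts {i c : ℕ} (hc : c = if Even i then i else 2 * i) (n : ℕ) :
    n % c % 2 = n % 2 ∧ (i % 2 = 0 → n / i = n / c ∧ i = c) := by
  subst hc
  refine ⟨Nat.mod_mod_of_dvd n ?_, fun h => by simp [Nat.even_iff, h]⟩
  split_ifs with h; exacts [h.two_dvd, dvd_mul_right _ _]

theorem div_add_of_mod {c : ℕ} (h : m % c = n % c) (hc : 0 < c) :
    (n + m - 2 * (n % c)) / c = n / c + m / c := by
  have h1 := Nat.div_add_mod n c
  have h2 := Nat.div_add_mod m c
  exact Nat.div_eq_of_eq_mul_right hc (by rw [mul_add]; omega)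

section Model

variable {ι : Type} [Finite ι] (D : Form (quadKind F) (ι → F))

omit [Finite F] [Finite ι] in
theorem nondegOn_iff (W : Submodule F (ι → F)) :
    Geo.IsNondegenerateOn (QuadraticMap.polar D.Q) W ↔ (D.restrict W).Nondeg :=
  (rep_quad D).nondeg.trans D.nondeg_restrict_iff.symm

theorem quad_model (hm : 0 < m) (he : Even m) (P : Prop) :
    ∃ E : Form (quadKind F) (Fin m → F), E.Nondeg ∧ (E.HasTS (m / 2) ↔ P) ∧
      ∀ W : Submodule F (ι → F), (finrank F W = m ∧ Geo.IsNondegenerateOn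
        (QuadraticMap.polar D.Q) W ∧ (Geo.IsPlusTypeOn D.Q W ↔ P)) ↔ (D.restrict W).Iso E := by
  have h0 : m = 2 * (m / 2) := by have := Nat.even_iff.1 he; omega
  have h1 : finrank F (Fin m → F) = 2 * (m / 2) := by simpa using h0
  obtain ⟨E, hE, h⟩ := exists_quad_type h1 P (by omega)
  refine ⟨E, hE, h, fun W => ?_⟩
  rw [nondegOn_iff]
  refine ⟨fun ⟨a, b, c⟩ => Quad.iso_of_type b hE (a.trans h0) h1 ?_, fun e => ?_⟩
  · rwa [h, ← isPlusTypeOn_iff' (a.trans h0)]
  · have := e.finrank_eq.trans h1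
    exact ⟨this.trans h0.symm, e.symm.nondeg hE, by rw [isPlusTypeOn_iff' this, e.hasTS_iff, h]⟩

omit [Finite F] in
theorem quad_model_iso {W₀ : Submodule F (ι → F)} (h : finrank F W₀ = m ∧
    Geo.IsNondegenerateOn (QuadraticMap.polar D.Q) W₀) (W : Submodule F (ι → F)) :
    (finrank F W = m ∧ Geo.IsNondegenerateOn (QuadraticMap.polar D.Q) W ∧
      Geo.AreIsometricFor D.Q W W₀) ↔ (D.restrict W).Iso (D.restrict W₀) := by
  rw [areIsometricFor_iff, nondegOn_iff]
  exact ⟨fun h => h.2.2, fun e => ⟨e.finrank_eq.trans h.1,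
    e.symm.nondeg ((nondegOn_iff D _).1 h.2), e⟩⟩

end Model

end Cfsg.Lib.Elu
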