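import Cfsg.Agent.Lib.Elu.Ch2

/-!
Unipotent isometries and invariant nondegenerate subspaces in odd characteristic.
-/

set_option autoImplicit false

namespace Cfsg.Lib.Elu

open Module Cfsg.Lib.Forms Cfsg.Lib.Forms.Form Cfsg.Lib.Known Cfsg.Lib.Conj Polynomial

variable {F : Type*} [Field F] {K : Kind (RingHom.id F)} {V V' W W' : Type*}
  [AddCommGroup V] [Module F V] [AddCommGroup V'] [Module F V']
  [AddCommGroup W] [Module F W] [AddCommGroup W'] [Module F W']
  {D : Form K V} {D' : Form K V'} {E : Form K W} {E' : Form K W'} {x y : End F V}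
  {U U' : Submodule F V} {r m n l d e k j : ℕ} {u v : V} {t s : Multiset ℕ}

theorem coe_pow_restrict (h : Inv y U) (k : ℕ) (w : U) :
    (((y.restrict h - 1) ^ k : End F U) w : V) = ((y - 1) ^ k) w := by
  induction k with
  | zero => rfl
  | succ k ih => simp [pow_succ', ← ih]

theorem nil_restrict (h : Inv y U) (hN : IsNilpotent (y - 1)) :
    IsNilpotent (y.restrict h - 1 : End F U) :=
  let ⟨k, hk⟩ := hN
  ⟨k, LinearMap.ext fun w => Subtype.ext (by simp [coe_pow_restrict, hk])⟩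

theorem exists_ker (hN : IsNilpotent (y - 1)) (hU : Inv y U) (hu : u ∈ U) (h0 : u ≠ 0) :
    ∃ w ∈ U, w ≠ 0 ∧ (y - 1) w = 0 := by
  classical
  have : ∃ k : ℕ, ((y - 1) ^ k) u = 0 := let ⟨k, hk⟩ := hN; ⟨k, by simp [hk]⟩
  have h1 := Nat.find_spec this
  have h2 := @Nat.find_min _ _ this
  generalize Nat.find this = k at h1 h2
  rcases k with _ | k
  · exact absurd h1 h0
  · exact ⟨_, coe_pow_restrict hU k ⟨u, hu⟩ ▸ Subtype.mem _, h2 k.lt_succ_self,
      by rwa [pow_succ'] at h1⟩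

theorem pow_eq_zero_iff_le (h : HasED x (unipOf F t)) (k : ℕ) :
    (x - 1) ^ k = 0 ↔ ∀ e ∈ t, e ≤ k := by
  rw [← aeval_X_sub_one (F := F), ← map_pow, h.aeval_eq_zero_iff]
  refine ⟨fun H e he => ?_, fun H a ha => ?_⟩
  · simpa using (pow_dvd_pow_iff irreducible_X_sub_one.ne_zero
      irreducible_X_sub_one.not_isUnit).1 (H (X - 1, e) (mem_unipOf.2 ⟨rfl, he⟩))
  · rw [(mem_unipOf.1 ha).1]; exact pow_dvd_pow _ (H _ (mem_unipOf.1 ha).2)

/-- A cyclic subspace. -/
structure Cy (y : End F V) (u : V) (e : ℕ) (U : Submodule F V) : Prop where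
  inv : Inv y U
  mem : u ∈ U
  soc : ∀ w ∈ U, (y - 1) w = 0 → ∃ c : F, w = c • ((y - 1) ^ e) u
  top : ∀ w ∈ U, ((y - 1) ^ (e + 1)) w = 0

theorem exists_cy (hN : IsNilpotent (y - 1)) (h0 : ((y - 1) ^ e) u ≠ 0)
    (h1 : ((y - 1) ^ (e + 1)) u = 0) : ∃ U, Cy y u e U := by
  obtain ⟨N, rfl⟩ : ∃ N, y = N + 1 := ⟨y - 1, by simp⟩
  rw [add_sub_cancel_right] at *
  have h3 : ∀ (f : F[X]) k v, aeval N f ((N ^ k) v) = (N ^ k) (aeval N f v) := fun f k v => by
    rw [← End.mul_apply, ← End.mul_apply]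
    congr 1
    simpa using congrArg (aeval N) (mul_comm f (X ^ k))
  refine ⟨LinearMap.range (LinearMap.applyₗ u ∘ₗ (aeval N : F[X] →ₐ[F] End F V).toLinearMap),
    ?_, ⟨1, by simp⟩, ?_, ?_⟩
  · rintro _ ⟨f, rfl⟩
    exact ⟨(X + 1) * f, by simp⟩
  · rw [add_sub_cancel_right]
    rintro _ ⟨f, rfl⟩ h
    by_cases hf : f = 0
    · exact ⟨0, by simp [hf]⟩
    obtain ⟨g, hg, h2⟩ := exists_eq_pow_rootMultiplicity_mul_and_not_dvd f hf 0
    generalize rootMultiplicity 0 f = k at hg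
    rw [map_zero, sub_zero] at hg h2
    have h4 : aeval N g = algebraMap F _ (g.coeff 0) + aeval N g.divX * N := by
      conv_lhs => rw [← g.divX_mul_X_add]
      simp [add_comm]
    have h5 : IsUnit (aeval N g) := by
      rw [h4]
      refine IsNilpotent.isUnit_add_left_of_commute ?_ (IsUnit.map _ (Ne.isUnit
        (mt X_dvd_iff.2 h2))) (Algebra.commutes _ _).symm
      exact Commute.isNilpotent_mul_left (LinearMap.ext fun v => by simpa using h3 g.divX 1 v) hN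
    have h6 : ∀ v, aeval N f v = aeval N g ((N ^ k) v) := fun v => by
      rw [hg, mul_comm]; simp
    simp only [LinearMap.comp_apply, AlgHom.toLinearMap_apply, LinearMap.applyₗ_apply_apply,
      h6] at h ⊢
    have h7 : (N ^ (k + 1)) u = 0 := inj_of_isUnit h5 (by
      rw [pow_succ', End.mul_apply, ← h]; simpa using h3 g 1 _)
    have h8 : ∀ a b, a ≤ b → (N ^ a) u = 0 → (N ^ b) u = 0 := fun a b hab h => by
      rw [← Nat.sub_add_cancel hab, pow_add, End.mul_apply, h, map_zero]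
    rcases lt_trichotomy k e with h | rfl | h
    · exact absurd (h8 _ _ h h7) h0
    · refine ⟨g.coeff 0, ?_⟩
      rw [h4, LinearMap.add_apply, End.mul_apply, ← End.mul_apply N, ← pow_succ', h1]
      simp
    · exact ⟨0, by simp [h8 _ _ h h1]⟩
  · rintro _ ⟨f, rfl⟩
    simp [← h3, h1]

variable [FiniteDimensional F V] [FiniteDimensional F V'] [FiniteDimensional F W]
  [FiniteDimensional F W']

theorem hasED_dg (h : IsNilpotent (y - 1)) : HasED y (unipOf F (dg y)) :=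
  let ⟨_, ht⟩ := exists_hasED_unip h
  (dg_unip ht).symm ▸ ht

theorem dg_sim {z : End F V'} (h : Sim y z) : dg y = dg z := by rw [dg, dg, sim_iff_edOf.1 h]

theorem Cy.dg (h : Cy y u e U) (hN : IsNilpotent (y - 1)) (h0 : ((y - 1) ^ e) u ≠ 0) :
    dg (y.restrict h.inv) = {e + 1} := by
  have : Nontrivial U := nontrivial_of_ne ⟨u, h.mem⟩ 0 fun h1 => h0 (by
    rw [show u = 0 from congrArg Subtype.val h1, map_zero])
  have h1 : Reg (y.restrict h.inv - 1 : End F U) := ⟨nil_restrict _ hN, by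
    refine finrank_le_one ⟨((y.restrict h.inv - 1) ^ e : End F U) ⟨u, h.mem⟩, Subtype.ext ?_⟩
      fun w => ?_
    · rw [← End.mul_apply, ← pow_succ', coe_pow_restrict]; exact h.top u h.mem
    · obtain ⟨c, hc⟩ := h.soc w.1 w.1.2 (congrArg Subtype.val w.2)
      exact ⟨c, Subtype.ext (Subtype.ext (by simp [coe_pow_restrict, hc]))⟩⟩
  have h2 := pow_eq_zero_iff_le h1.hasED
  simp only [Multiset.mem_singleton, forall_eq] at h2
  have h3 := (h2 (e + 1)).1 (LinearMap.ext fun w => Subtype.ext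
    ((coe_pow_restrict _ _ _).trans (h.top w w.2)))
  have hm := h.mem
  have hi := h.inv
  have h4 := mt (h2 e).2 fun h => h0 (by
    rw [← coe_pow_restrict hi e ⟨u, hm⟩, h]; rfl)
  rw [dg_unip h1.hasED, show finrank F U = e + 1 by omega]

theorem nondeg_of_soc (hD : D.Nondeg) (hy : IsIsometry D D y) (hN : IsNilpotent (y - 1))
    (hU : Inv y U) (H : ∀ w ∈ U, (y - 1) w = 0 → (∀ v ∈ U, D.B v w = 0) → w = 0) :
    (D.restrict U).Nondeg := by
  rw [D.nondeg_restrict_iff, Submodule.disjoint_def]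
  intro w h1 h2
  by_contra h
  obtain ⟨w, h3, h4, h5⟩ := exists_ker hN (hU.inf (perp_inv (isUnit_of_isIsometry hD hy.B_map)
    hy.B_map hU)) ⟨h1, h2⟩ h
  exact h4 (H w h3.1 h5 h3.2)

theorem exists_beta (hD : D.Nondeg) (hy : IsIsometry D D y) (hN : IsNilpotent (y - 1))
    (h : e + 1 ∈ dg y) : ∃ u v, ((y - 1) ^ (e + 1)) u = 0 ∧ ((y - 1) ^ (e + 1)) v = 0 ∧
      D.B v (((y - 1) ^ e) u) ≠ 0 := by
  obtain ⟨A, A', h1, h2, h3, h4, -⟩ := dg_split (Multiset.singleton_le.2 h)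
  have h5 := pow_eq_zero_iff_le (hasED_dg (nil_restrict h1 hN))
  simp only [h4, Multiset.mem_singleton, forall_eq] at h5
  have h6 : ∀ a : A, ((y - 1) ^ (e + 1)) a = 0 := fun a => by
    rw [← coe_pow_restrict h1, (h5 _).2 le_rfl]; rfl
  obtain ⟨u, hu⟩ := not_forall.1 (mt LinearMap.ext (mt (h5 e).1 (by omega)))
  by_contra H
  push Not at H
  obtain ⟨w, hw⟩ : ((y - 1) ^ e) u ∈ LinearMap.range ((y - 1) ^ (e + 1)) :=
    perp_ker_pow hD hy.B_map _ ▸ fun v hv => H u v (h6 u) hv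
  obtain ⟨a, b, rfl, -⟩ := Submodule.existsUnique_add_of_isCompl h3 w
  rw [map_add, h6, zero_add, ← coe_pow_restrict h1, ← coe_pow_restrict h2] at hw
  exact hu (Subtype.ext (Submodule.disjoint_def.1 h3.disjoint _ (Subtype.mem _)
    (hw ▸ Subtype.mem _)))

/-- There is an invariant nondegenerate subspace of Jordan type `t`. -/
def NDT (D : Form K V) (y : End F V) (t : Multiset ℕ) : Prop :=
  ∃ (U : Submodule F V) (h : Inv y U), (D.restrict U).Nondeg ∧ dg (y.restrict h) = t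

theorem beta_swap (hD : D.Nondeg) (hy : IsIsometry D D y) (hv : ((y - 1) ^ (e + 1)) v = 0) :
    D.B v (((y - 1) ^ e) u) = K.ε * (-1) ^ e * D.B u (((y - 1) ^ e) v) := by
  rw [D.symm, B_pow_swap hD hy.B_map u hv, mul_assoc]; rfl

theorem exists_beta_self (h2 : (2 : F) ≠ 0) (hD : D.Nondeg) (hy : IsIsometry D D y)
    (hN : IsNilpotent (y - 1)) (h : e + 1 ∈ dg y) (hε : K.ε * (-1) ^ e = 1) :
    ∃ u, ((y - 1) ^ (e + 1)) u = 0 ∧ D.B u (((y - 1) ^ e) u) ≠ 0 := by
  obtain ⟨u, v, h3, h4, h5⟩ := exists_beta hD hy hN h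
  by_contra H
  push Not at H
  have := H (u + v) (by rw [map_add, h3, h4, add_zero])
  rw [D.B_add_left, map_add ((y - 1) ^ e), D.B_add_right, D.B_add_right, H u h3, H v h4,
    beta_swap hD hy h3, hε] at this
  exact mul_ne_zero h2 h5 (by linear_combination this)

theorem ndt_one (h2 : (2 : F) ≠ 0) (hD : D.Nondeg) (hy : IsIsometry D D y)
    (hN : IsNilpotent (y - 1)) (h : e + 1 ∈ dg y) (hε : K.ε * (-1) ^ e = 1) : NDT D y {e + 1} := by
  obtain ⟨u, h3, h4⟩ := exists_beta_self h2 hD hy hN h hε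
  have h0 : ((y - 1) ^ e) u ≠ 0 := fun e => h4 (by simp [e])
  obtain ⟨U, hU⟩ := exists_cy hN h0 h3
  refine ⟨U, hU.inv, nondeg_of_soc hD hy hN hU.inv fun w h5 h6 h7 => ?_, hU.dg hN h0⟩
  obtain ⟨c, rfl⟩ := hU.soc w h5 h6
  have := h7 u hU.mem
  rw [D.B_smul_right, mul_eq_zero, or_iff_left h4] at this
  rw [this, zero_smul]

theorem ndt_two (h2 : (2 : F) ≠ 0) (hD : D.Nondeg) (hy : IsIsometry D D y)
    (hN : IsNilpotent (y - 1)) (h : e + 1 ∈ dg y) (hε : K.ε * (-1) ^ e = -1) :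
    NDT D y ({e + 1} + {e + 1}) := by
  obtain ⟨u, v, h3, h4, h5⟩ := exists_beta hD hy hN h
  have h6 : D.B u (((y - 1) ^ e) v) ≠ 0 := fun e => h5 (by rw [beta_swap hD hy h4, e, mul_zero])
  have h7 : ∀ w, ((y - 1) ^ (e + 1)) w = 0 → D.B w (((y - 1) ^ e) w) = 0 := fun w hw => by
    have := beta_swap (u := w) hD hy hw
    rw [hε] at this
    exact (mul_eq_zero.1 (by linear_combination this)).resolve_left h2
  have h0 : ((y - 1) ^ e) u ≠ 0 := fun e => h5 (by simp [e])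
  have h0' : ((y - 1) ^ e) v ≠ 0 := fun e => h6 (by simp [e])
  obtain ⟨A, hA⟩ := exists_cy hN h0 h3
  obtain ⟨B, hB⟩ := exists_cy hN h0' h4
  have key : ∀ a ∈ A, ∀ b ∈ B, (y - 1) a = 0 → (y - 1) b = 0 → D.B u (a + b) = 0 →
      D.B v (a + b) = 0 → a = 0 ∧ b = 0 := fun a ha b hb h8 h9 h10 h11 => by
    obtain ⟨c, rfl⟩ := hA.soc a ha h8
    obtain ⟨c', rfl⟩ := hB.soc b hb h9
    simp only [D.B_add_right, D.B_smul_right, h7 u h3, h7 v h4, mul_zero, zero_add, add_zero,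
      mul_eq_zero, h5, h6, or_false] at h10 h11
    simp [h10, h11]
  have hd : Disjoint A B := Submodule.disjoint_def.2 fun w h8 h9 => by
    by_contra h10
    obtain ⟨w, h11, h12, h13⟩ := exists_ker hN (hA.inv.inf hB.inv) ⟨h8, h9⟩ h10
    exact h12 (key w h11.1 (-w) (B.neg_mem h11.2) h13 (by rw [map_neg, h13, neg_zero]) (by simp) (by simp)).1
  have hN' : ∀ {T : Submodule F V}, Inv y T → ∀ w ∈ T, (y - 1) w ∈ T := fun h w hw =>
    Submodule.sub_mem _ (h w hw) hw
  refine ⟨A ⊔ B, hA.inv.sup hB.inv, nondeg_of_soc hD hy hN (hA.inv.sup hB.inv)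
    fun w h8 h9 h10 => ?_, ?_⟩
  · obtain ⟨a, ha, b, hb, rfl⟩ := Submodule.mem_sup.1 h8
    rw [map_add, add_eq_zero_iff_eq_neg] at h9
    have h11 := Submodule.disjoint_def.1 hd _ (hN' hA.inv a ha) (h9 ▸ B.neg_mem (hN' hB.inv b hb))
    have := key a ha b hb h11 (by rwa [h11, zero_eq_neg] at h9 )
      (h10 u (Submodule.mem_sup_left hA.mem)) (h10 v (Submodule.mem_sup_right hB.mem))
    rw [this.1, this.2, add_zero]
  · have e : ∀ T (h : Inv y T) (h' : T ≤ A ⊔ B), dg ((y.restrict (hA.inv.sup hB.inv)).restrict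
        (h.comap (A ⊔ B).subtype fun _ => rfl)) = dg (y.restrict h) := fun T h h' =>
      dg_sim ⟨Submodule.comapSubtypeEquivOfLe h', fun _ => rfl⟩
    rw [dg_isCompl (U := A.comap (A ⊔ B).subtype) (U' := B.comap (A ⊔ B).subtype) ⟨by
      rw [disjoint_iff, ← Submodule.comap_inf, hd.eq_bot, Submodule.comap_bot,
        Submodule.ker_subtype], by
      rw [codisjoint_iff, eq_top_iff]
      rintro ⟨w, hw⟩ -
      obtain ⟨a, ha, b, hb, rfl⟩ := Submodule.mem_sup.1 hw
      exact Submodule.mem_sup.2 ⟨⟨a, Submodule.mem_sup_left ha⟩, ha,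
        ⟨b, Submodule.mem_sup_right hb⟩, hb, rfl⟩⟩ (hA.inv.comap _ fun _ => rfl)
      (hB.inv.comap _ fun _ => rfl), e A hA.inv le_sup_left, e B hB.inv le_sup_right,
      hA.dg hN h0, hB.dg hN h0']

theorem dg_perp (hD : D.Nondeg) (hy : IsIsometry D D y) (h : Inv y U)
    (hU : (D.restrict U).Nondeg) : ∃ h' : Inv y (D.perp U), D.IsOrthCompl U (D.perp U) ∧
      dg y = dg (y.restrict h) + dg (y.restrict h') :=
  have hc := hD.isOrthCompl (D.nondeg_restrict_iff.1 hU)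
  ⟨perp_inv (isUnit_of_isIsometry hD hy.B_map) hy.B_map h, hc, dg_isCompl hc.compl _ _⟩

theorem pos_dg (hN : IsNilpotent (y - 1)) : ∀ a ∈ dg y, 1 ≤ a := pos_of_unip (hasED_dg hN)

/-- The parts satisfying `G` have even multiplicity. -/
def Ev (G : ℕ → Prop) (t : Multiset ℕ) : Prop := ∀ a, G a → Even (t.count a)

theorem Ev.of_add {G : ℕ → Prop} (h : Ev G (s + t)) (h' : Ev G s) : Ev G t := fun a ha => by
  have := h a ha
  rw [Multiset.count_add] at this
  exact (Nat.even_add.1 this).1 (h' a ha)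

theorem ev_self {G : ℕ → Prop} : Ev G (s + s) := fun a _ => ⟨_, Multiset.count_add a s s⟩

theorem ev_single {G : ℕ → Prop} (h : ¬ G j) : Ev G {j} := fun a ha => by
  rw [Multiset.count_singleton, if_neg (by rintro rfl; exact h ha)]; exact Even.zero

theorem Ev.exists_add {G : ℕ → Prop} (h : Ev G t) (hj : j ∈ t) (hG : G j) :
    ∃ s, t = {j} + {j} + s := by
  have := Nat.even_iff.1 (h j hG)
  have := Multiset.count_pos.2 hj
  exact Multiset.le_iff_exists_add.1 (Multiset.le_count_iff_replicate_le.1 (show 2 ≤ _ by omega))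

theorem alt_nd_of_le (h2 : (2 : F) ≠ 0) {V : Type*} [AddCommGroup V] [Module F V]
    [FiniteDimensional F V] {D : Form (altKind F) V} {y : End F V} (hD : D.Nondeg)
    (hy : IsIsometry D D y) (hN : IsNilpotent (y - 1)) (h : t ≤ dg y) (ht : Ev Odd t) :
    ∃ A, Inv y A ∧ (D.restrict A).Nondeg ∧ finrank F A = t.sum := by
  induction hn : t.card using Nat.strong_induction_on generalizing t V with
  | _ n ih =>
  subst hn
  rcases t.empty_or_exists_mem with rfl | ⟨a, ha⟩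
  · exact ⟨⊥, fun v hv => by simp [(Submodule.mem_bot F).1 hv], fun v _ => Subsingleton.elim _ _,
      by simp⟩
  obtain ⟨e, rfl⟩ : ∃ e, a = e + 1 :=
    ⟨a - 1, by have := pos_dg hN a (Multiset.mem_of_le h ha); omega⟩
  obtain ⟨s, t, rfl, h0, h3, U, h4, h5, h6⟩ : ∃ s t', t = s + t' ∧ 0 < s.card ∧ Ev Odd s ∧
      NDT D y s := by
    rcases Nat.even_or_odd e with he | he
    · obtain ⟨s, rfl⟩ := ht.exists_add ha he.add_one
      exact ⟨_, s, rfl, by simp, ev_self, ndt_two h2 hD hy hN (Multiset.mem_of_le h ha)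
        (by simp [he.neg_one_pow])⟩
    · obtain ⟨s, rfl⟩ := Multiset.exists_cons_of_mem ha
      exact ⟨{e + 1}, s, rfl, by simp, ev_single (Nat.not_odd_iff_even.2 he.add_one),
        ndt_one h2 hD hy hN (Multiset.mem_of_le h ha) (by simp [he.neg_one_pow])⟩
  obtain ⟨h7, hc, h8⟩ := dg_perp hD hy h4 h5
  rw [h8, h6, add_le_add_iff_left] at h
  obtain ⟨A, a1, a2, a3⟩ := ih _ (by simp [h0]) (hc.symm.nondeg_left hD) (isIsometry_restrict hy h7)
    (nil_restrict h7 hN) h (ht.of_add h3) rfl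
  obtain ⟨B, b1, b2⟩ := NDI.glue hc (ndi_top _ (y.restrict h4)) ⟨A, Iso.refl _, a1⟩
  exact ⟨B, b2, b1.symm.nondeg (h5.prod a2), by
    rw [b1.finrank_eq, finrank_prod, a3, ← sum_dg (y.restrict h4), h6, Multiset.sum_add]⟩

theorem hasTS_of_two {D : Form (quadKind F) V} (h2 : (2 : F) ≠ 0) (hD : D.Nondeg)
    (hy : IsIsometry D D y) (hN : IsNilpotent (y - 1)) (h : ∀ a ∈ dg y, a = 2) :
    D.HasTS (finrank F V / 2) := by
  have h1 := (pow_eq_zero_iff_le (hasED_dg hN) 2).2 fun a ha => (h a ha).le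
  have h3 := finrank_ker_of_hasED (hasED_dg hN) 1
  have h4 := sum_dg y
  rw [edCnt_unipOf, Multiset.eq_replicate_card.2 h] at h3
  rw [Multiset.eq_replicate_card.2 h] at h4
  have h5 := LinearMap.finrank_range_add_finrank_ker ((y - 1) ^ 1)
  refine ⟨LinearMap.range ((y - 1) ^ 1), by simp at h3 h4 h5 ⊢; omega, isTS_quad fun v hv => ?_⟩
  have h6 : v ∈ LinearMap.ker ((y - 1) ^ 1) := by
    obtain ⟨w, rfl⟩ := hv
    rw [LinearMap.mem_ker, ← End.mul_apply, ← pow_add, h1]; rfl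
  have := (perp_ker_pow hD hy.B_map 1 ▸ hv : v ∈ D.perp _) v h6
  rwa [quad_B_self, mul_eq_zero, or_iff_right h2] at this

variable [Finite F]

theorem exists_dg_of_real (hD : D.Nondeg) (ht : RealT K t) (hn : t.sum = finrank F V)
    (H : ∀ D' : Form K V, D'.Nondeg → D'.Iso D) :
    ∃ y : End F V, IsIsometry D D y ∧ HasED y (unipOf F t) := by
  obtain ⟨n, x, h1, h2⟩ := ht
  obtain ⟨y, hy⟩ := exists_unip (F := F) (pos_of_unip h1) hn
  obtain ⟨D', h3, h4⟩ := h2.of_sim (hy.sim h1)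
  obtain ⟨g, hg⟩ := exists_isom_isoC hD (H D' h3) h4
  exact ⟨_, g.2, hy.of_sim hg.sim.symm⟩

theorem quad_real {D : Form (quadKind F) V} (h2 : (2 : F) ≠ 0) (hD : D.Nondeg)
    (h1 : ∀ a ∈ t, 1 ≤ a) (ht : Ev Even t) (hn : t.sum = finrank F V)
    (h : (∃ j ∈ t, Odd j) ∨ D.HasTS (finrank F V / 2)) :
    ∃ y : End F V, IsIsometry D D y ∧ HasED y (unipOf F t) := by
  by_cases h3 : ∃ j ∈ t, Odd j
  · obtain ⟨j, hj, h3⟩ := h3
    obtain ⟨s, rfl⟩ := Multiset.exists_cons_of_mem hj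
    have h4 := h1 j hj
    obtain ⟨n, x, h5, C, h6, h7⟩ := realT_of_good (K := quadKind F) Odd
      (fun _ _ => realT_quad_odd h2) s (fun e he => h1 e (by simp [he])) fun a _ ha =>
        Ev.of_add (s := {j}) ht (ev_single (Nat.not_even_iff_odd.2 h3)) a (Nat.not_odd_iff_even.1 ha)
    have h8 := sum_of_unip h5
    rw [Multiset.sum_cons] at hn
    obtain ⟨l, A, h9, e⟩ := cp_quad.compl h6 hD (by omega)
    have h10 := e.finrank_eq
    rw [finrank_prod] at h10
    obtain ⟨g, hg⟩ := Conj.exists_reg h9 (n := j) (by omega) h4 (Or.inr h3)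
    have := nontrivial_of_finrank_pos (R := F) (M := Fin l → F) (by omega)
    obtain ⟨k, hk⟩ := exists_isom_isoC hD e (isIsometry_prodMap h7 (isIsometry_nat g))
    refine ⟨_, k.2, HasED.of_sim ?_ hk.sim.symm⟩
    have := hasED_prod h5 hg.hasED
    rw [show finrank F (Fin l → F) = j by omega] at this
    rw [← Multiset.singleton_add, add_comm]
    simpa [unipOf] using this
  · obtain ⟨s, rfl⟩ : ∃ s, t = s + s := by
      obtain ⟨A, s, h4, rfl⟩ := exists_nodup_add t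
      obtain rfl : A = 0 := Multiset.eq_zero_of_forall_notMem fun a ha => by
        have := Ev.of_add (add_comm A _ ▸ ht) ev_self a (Nat.not_odd_iff_even.1 fun h =>
          h3 ⟨a, by simp [ha], h⟩)
        simp [Multiset.count_eq_one_of_mem h4 ha] at this
      exact ⟨s, zero_add _⟩
    obtain ⟨x, hx⟩ := exists_hasED_fin (F := F) (t := s) fun e he => h1 e (by simp [he])
    obtain ⟨C, h4, h5, h6⟩ := (selfDual_of_unip (quadKind F).σ_bijective.2
      (unip_of_hasED hx)).exists_dbl (quadKind F)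
    rw [Multiset.sum_add] at hn
    obtain ⟨k, hk⟩ := exists_isom_isoC hD (Quad.iso_of_type h4 hD (m := s.sum) (by simp [two_mul])
      (by omega) (iff_of_true (by simpa using h6)
        ((show finrank F V / 2 = s.sum by omega) ▸ h.resolve_left h3))) h5
    exact ⟨_, k.2, HasED.of_sim (by simpa [unipOf] using hasED_prod hx hx) hk.sim.symm⟩

variable (p : ℕ) [Fact p.Prime] [CharP F p]

omit [Finite F] [FiniteDimensional F V] in
theorem pow_char_of_le (h : HasED y (unipOf F t)) (ht : ∀ a ∈ t, 0 < a ∧ a ≤ p) : y ^ p = 1 := by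
  simpa using (unip_pow_iff p h 1).2 fun a ha => by simpa using (ht a ha).2

theorem alt_unip_nd {D : Form (altKind F) V} {E : Form (altKind F) W} (h2 : (2 : F) ≠ 0)
    (hD : D.Nondeg) (hE : E.Nondeg) :
    (∀ y : End F V, IsIsometry D D y → y ^ p = 1 → NDI D y E) ↔ ∀ μ : Multiset ℕ,
      (∀ a ∈ μ, 0 < a ∧ a ≤ p) → (∀ a, Odd a → Even (μ.count a)) → μ.sum = finrank F V →
        ∃ ν ≤ μ, ν.sum = finrank F W ∧ ∀ a, Odd a → Even (ν.count a) := by
  refine ⟨fun H μ h3 h4 h5 => ?_, fun H y hy h3 => ?_⟩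
  · obtain ⟨y, hy, h6⟩ := exists_dg_of_real hD (realT_of_good Even (fun _ => realT_alt) μ
      (fun a ha => (h3 a ha).1) fun a _ ha => h4 a (Nat.not_even_iff_odd.1 ha)) h5
      fun _ h => Symp.iso h hD rfl
    obtain ⟨U, h7, h8⟩ := H y hy (pow_char_of_le p h6 h3)
    have h9 := h7.symm.nondeg hE
    obtain ⟨_, -, h10⟩ := dg_perp hD hy h8 h9
    rw [dg_unip h6] at h10
    exact ⟨_, h10 ▸ Multiset.le_add_right _ _, (sum_dg _).trans h7.finrank_eq, fun a =>
      even_count_alt h9 (Symp.B_self _) (isIsometry_restrict hy h8).B_map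
        (hasED_dg (nil_restrict h8 (unip_of_hasED h6)))⟩
  · have hN := nil_of_pow_char p h3
    obtain ⟨ν, h4, h5, h6⟩ := H (dg y) (fun a ha => ⟨pos_dg hN a ha, by
      simpa using (unip_pow_iff p (hasED_dg hN) 1).1 (by rwa [pow_one]) a ha⟩)
      (fun a => even_count_alt hD (Symp.B_self _) hy.B_map (hasED_dg hN)) (sum_dg y)
    obtain ⟨A, h7, h8, h9⟩ := alt_nd_of_le h2 hD hy hN h4 h6
    exact ⟨A, Symp.iso h8 hE (h9.trans h5), h7⟩

section Quad

variable {D : Form (quadKind F) V} {E : Form (quadKind F) W} {C : Form (quadKind F) W'}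

omit [Finite F] in
theorem quad_ndi_dg (h2 : (2 : F) ≠ 0) (hD : D.Nondeg) (hE : E.Nondeg) (i : (E.prod C).Iso D)
    (hy : IsIsometry D D y) (h : HasED y (unipOf F t)) (H : NDI D y E) :
    ∃ ν s, t = ν + s ∧ ν.sum = finrank F W ∧ Ev Even ν ∧
      ((∀ a ∈ ν, a = 2) → E.HasTS (finrank F W / 2)) ∧
      ((∀ a ∈ s, a = 2) → C.HasTS (finrank F W' / 2)) := by
  obtain ⟨U, h7, h8⟩ := H
  have h9 := h7.symm.nondeg hE
  obtain ⟨h10, hc, h11⟩ := dg_perp hD hy h8 h9
  have hN := unip_of_hasED h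
  have h12 := iso_cancel hD i h7
  refine ⟨_, _, (dg_unip h).symm.trans h11, (sum_dg _).trans h7.finrank_eq, fun a ha => ?_,
    fun h => ?_, fun h => ?_⟩
  · rcases a.eq_zero_or_pos with rfl | h0
    · rw [Multiset.count_eq_zero.2 fun h => by simpa using pos_dg (nil_restrict h8 hN) 0 h]
      exact Even.zero
    · exact even_count_quad h2 h9 (isIsometry_restrict hy h8).B_map
        (hasED_dg (nil_restrict h8 hN)) ha h0
  · rw [← h7.hasTS_iff, ← h7.finrank_eq]
    exact hasTS_of_two h2 h9 (isIsometry_restrict hy h8) (nil_restrict h8 hN) h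
  · rw [← h12.hasTS_iff, ← h12.finrank_eq]
    exact hasTS_of_two h2 (hc.symm.nondeg_left hD) (isIsometry_restrict hy h10)
      (nil_restrict h10 hN) h

theorem quad_nec (h2 : (2 : F) ≠ 0) (hD : D.Nondeg) (hE : E.Nondeg)
    (hm : finrank F W < finrank F V) (H : ∀ y : End F V, IsIsometry D D y → y ^ p = 1 → NDI D y E)
    (h1 : ∀ a ∈ t, 0 < a ∧ a ≤ p) (ht : Ev Even t) (hn : t.sum = finrank F V)
    (h : (∃ j ∈ t, Odd j) ∨ D.HasTS (finrank F V / 2)) :
    ∃ ν ≤ t, ν.sum = finrank F W ∧ Ev Even ν := by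
  obtain ⟨y, hy, h3⟩ := quad_real h2 hD (fun a ha => (h1 a ha).1) ht hn h
  obtain ⟨l, C, -, i⟩ := cp_quad.compl hE hD hm
  obtain ⟨ν, s, rfl, h4, h5, -⟩ := quad_ndi_dg h2 hD hE i hy h3 (H y hy (pow_char_of_le p h3 h1))
  exact ⟨ν, Multiset.le_add_right _ _, h4, h5⟩

theorem split_two {o ν : Multiset ℕ} (ho : ∀ a ∈ o, Odd a)
    (h : o + Multiset.replicate k 2 = ν + s) (hν : Ev Even ν) : ∃ a b j, o = a + b ∧
      ν = a + Multiset.replicate (2 * j) 2 ∧ (b = 0 → ∀ c ∈ s, c = 2) := by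
  obtain ⟨j, hj⟩ := hν 2 even_two
  refine ⟨ν.filter (· ≠ 2), s.filter (· ≠ 2), j, ?_, ?_, fun h c hc => ?_⟩
  · rw [← Multiset.filter_add, ← h, Multiset.filter_add, Multiset.filter_eq_self.2 fun a ha e =>
      absurd (e ▸ ho a ha) (by decide), Multiset.filter_eq_nil.2 fun a ha => by
        simpa using Multiset.eq_of_mem_replicate ha, add_zero]
  · rw [two_mul, ← hj, ← Multiset.filter_eq', add_comm, Multiset.filter_add_not]
  · simpa using Multiset.filter_eq_nil.1 h c hc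

theorem ev_odd_add {o : Multiset ℕ} (ho : ∀ a ∈ o, Odd a) :
    Ev Even (o + Multiset.replicate (2 * k) 2) := fun a ha => by
  rw [Multiset.count_add, Multiset.count_eq_zero.2 fun h => Nat.not_odd_iff_even.2 ha (ho a h),
    Multiset.count_replicate]
  split_ifs <;> simp

include p in
omit [Finite F] in
theorem three_le_char (h2 : (2 : F) ≠ 0) : 3 ≤ p := by
  have := (Fact.out : p.Prime).two_le
  rcases this.eq_or_lt with rfl | h
  exacts [absurd (CharP.cast_eq_zero F 2) h2, h]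

theorem quad_real_odd (h2 : (2 : F) ≠ 0) (hD : D.Nondeg) {o : Multiset ℕ}
    (ho : ∀ a ∈ o, a = 1 ∨ a = 3) (hn : o.sum + 4 * k = finrank F V)
    (h : o ≠ 0 ∨ D.HasTS (finrank F V / 2)) : ∃ y : End F V, IsIsometry D D y ∧ y ^ p = 1 ∧
      HasED y (unipOf F (o + Multiset.replicate (2 * k) 2)) := by
  have h3 := three_le_char p h2
  have h4 : ∀ a ∈ o, Odd a := fun a ha => by rcases ho a ha with rfl | rfl <;> decide
  have h5 : ∀ a ∈ o + Multiset.replicate (2 * k) 2, 0 < a ∧ a ≤ p := fun a ha => by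
    rcases Multiset.mem_add.1 ha with h | h
    · have := ho a h; omega
    · have := Multiset.eq_of_mem_replicate h; omega
  obtain ⟨y, hy, h6⟩ := quad_real h2 hD (fun a ha => (h5 a ha).1) (ev_odd_add h4)
    (by simp; omega) (h.imp_left fun h => let ⟨a, ha⟩ := Multiset.exists_mem_of_ne_zero h
      ⟨a, by simp [ha], h4 a ha⟩)
  exact ⟨y, hy, pow_char_of_le p h6 h5, h6⟩

theorem quad_nec_odd (h2 : (2 : F) ≠ 0) (hD : D.Nondeg) (hE : E.Nondeg) (i : (E.prod C).Iso D)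
    (H : ∀ y : End F V, IsIsometry D D y → y ^ p = 1 → NDI D y E) {o : Multiset ℕ}
    (ho : ∀ a ∈ o, a = 1 ∨ a = 3) (hn : o.sum + 4 * k = finrank F V)
    (h : o ≠ 0 ∨ D.HasTS (finrank F V / 2)) : ∃ a b j, o = a + b ∧ a.sum + 4 * j = finrank F W ∧
      (a = 0 → E.HasTS (finrank F W / 2)) ∧ (b = 0 → C.HasTS (finrank F W' / 2)) := by
  obtain ⟨y, hy, h3, h4⟩ := quad_real_odd p h2 hD ho hn h
  obtain ⟨ν, s, h5, h6, h7, h8, h9⟩ := quad_ndi_dg h2 hD hE i hy h4 (H y hy h3)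
  obtain ⟨a, b, j, rfl, rfl, h10⟩ := split_two
    (fun a ha => by rcases ho a ha with rfl | rfl <;> decide) h5 h7
  exact ⟨a, b, j, rfl, by simp at h6; omega, fun e => h8 fun c hc =>
    Multiset.eq_of_mem_replicate (by simpa [e] using hc), fun e => h9 (h10 e)⟩

theorem single_split {a : ℕ} (h : {a} = s + t) : s = 0 ∨ s = {a} :=
  Multiset.le_singleton.1 (h ▸ Multiset.le_add_right _ _)

theorem pair_split {a b : ℕ} (h : {a, b} = s + t) : s = 0 ∨ t = 0 ∨ s = {a} ∨ s = {b} := by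
  have h1 := congrArg Multiset.card h
  simp only [Multiset.insert_eq_cons, Multiset.card_cons, Multiset.card_singleton,
    Multiset.card_add] at h1
  rcases (show s.card = 0 ∨ t.card = 0 ∨ s.card = 1 by omega) with h2 | h2 | h2
  · exact Or.inl (Multiset.card_eq_zero.1 h2)
  · exact Or.inr (Or.inl (Multiset.card_eq_zero.1 h2))
  · obtain ⟨c, rfl⟩ := Multiset.card_eq_one.1 h2
    have : c ∈ ({a, b} : Multiset ℕ) := by simp [h]
    simp only [Multiset.insert_eq_cons, Multiset.mem_cons, Multiset.mem_singleton] at this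
    rcases this with rfl | rfl <;> simp

theorem quad_unip0 (h2 : (2 : F) ≠ 0) (hD : D.Nondeg) (hE : E.Nondeg)
    (hm : finrank F W < finrank F V) (H : ∀ y : End F V, IsIsometry D D y → y ^ p = 1 → NDI D y E)
    (hn : finrank F V % 4 = 0) (h : D.HasTS (finrank F V / 2)) :
    finrank F W % 4 = 0 ∧ E.HasTS (finrank F W / 2) := by
  obtain ⟨l, C, -, i⟩ := cp_quad.compl hE hD hm
  obtain ⟨a, b, j, h3, h4, h5, -⟩ := quad_nec_odd p h2 hD hE i H (o := 0) (k := finrank F V / 4)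
    (by simp) (by simp; omega) (Or.inr h)
  obtain rfl : a = 0 := (add_eq_zero.1 h3.symm).1
  exact ⟨by simp at h4; omega, h5 rfl⟩

theorem quad_unip1 (h2 : (2 : F) ≠ 0) (hD : D.Nondeg) (hE : E.Nondeg)
    (hm : finrank F W < finrank F V) (H : ∀ y : End F V, IsIsometry D D y → y ^ p = 1 → NDI D y E)
    (hn : finrank F V % 2 = 1) (he : finrank F W % 2 = 0) :
    finrank F W % 4 = 0 ∧ E.HasTS (finrank F W / 2) := by
  obtain ⟨l, C, -, i⟩ := cp_quad.compl hE hD hm
  obtain ⟨a, b, j, h3, h4, h5, -⟩ := quad_nec_odd p h2 hD hE i H (o := {finrank F V % 4})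
    (k := finrank F V / 4) (by simp; omega) (by simp; omega) (Or.inl (by simp))
  rcases single_split h3 with rfl | rfl
  · exact ⟨by simp at h4; omega, h5 rfl⟩
  · simp at h4; omega

theorem quad_unip2 (h2 : (2 : F) ≠ 0) (hD : D.Nondeg) (hE : E.Nondeg) (i : (E.prod C).Iso D)
    (H : ∀ y : End F V, IsIsometry D D y → y ^ p = 1 → NDI D y E) {a b : ℕ} (ha : a = 1 ∨ a = 3)
    (hb : b = 1 ∨ b = 3) (hn : a + b + 4 * k = finrank F V) :
    (finrank F W % 4 = 0 ∧ E.HasTS (finrank F W / 2)) ∨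
      (finrank F W % 4 = finrank F V % 4 ∧ C.HasTS (finrank F W' / 2)) ∨
      finrank F W % 4 = a ∨ finrank F W % 4 = b := by
  obtain ⟨s, t, j, h3, h4, h5, h6⟩ := quad_nec_odd p h2 hD hE i H (o := {a, b}) (k := k)
    (by simp [ha, hb]) (by simp; omega) (Or.inl (by simp))
  rcases pair_split h3 with rfl | rfl | rfl | rfl
  · exact Or.inl ⟨by simp at h4; omega, h5 rfl⟩
  · exact Or.inr (Or.inl ⟨by simp [← add_zero s ▸ h3] at h4; omega, h6 rfl⟩)
  · simp at h4; omega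
  · simp at h4; omega

omit [Finite F] in
theorem fix_split (hD : D.Nondeg) (hy : IsIsometry D D y) (hN : IsNilpotent (y - 1))
    (h : y v = v) (hv : D.B v v ≠ 0) :
    ∃ h' : Inv y (D.perp (F ∙ v)), dg y = {1} + dg (y.restrict h') := by
  have h1 : Inv y (F ∙ v) := Inv.of_le_eig (c := 1) ((Submodule.span_singleton_le_iff_mem _ _).2
    (mem_eig.2 (by rwa [one_smul])))
  obtain ⟨h3, -, h4⟩ := dg_perp hD hy h1 (nondeg_span_singleton hv)
  have h5 := sum_dg (y.restrict h1)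
  have h6 := pos_dg (nil_restrict h1 hN)
  rw [finrank_span_singleton (by rintro rfl; simp at hv)] at h5
  have h7 := Multiset.card_nsmul_le_sum h6
  obtain ⟨a, ha⟩ := Multiset.card_eq_one.1 (le_antisymm (by simpa [h5] using h7)
    (Multiset.card_pos.2 fun e => by simp [e] at h5))
  rw [ha, Multiset.sum_singleton] at h5
  exact ⟨h3, by rw [h4, ha, h5]⟩

omit [Finite F] in
theorem exists_fix (h2 : (2 : F) ≠ 0) (hD : D.Nondeg) (hy : IsIsometry D D y)
    (hN : IsNilpotent (y - 1)) : (∃ v, y v = v ∧ D.Q v ≠ 0) ↔ 1 ∈ dg y := by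
  refine ⟨fun ⟨v, h, hv⟩ => ?_, fun h => ?_⟩
  · obtain ⟨_, h3⟩ := fix_split hD hy hN h (quad_B_ne_zero h2 hv)
    simp [h3]
  · obtain ⟨v, h3, h4⟩ := exists_beta_self (e := 0) h2 hD hy hN h (by simp)
    exact ⟨v, by simpa [sub_eq_zero] using h3, fun e => h4 (D.B_self_of_Q e)⟩

theorem chi_fix_eq (h2 : (2 : F) ≠ 0) (hD : D.Nondeg) (hy : IsIsometry D D y)
    (hN : IsNilpotent (y - 1)) (h : (dg y).count 1 = 1) (h3 : y u = u) (h4 : y v = v)
    (hu : D.Q u ≠ 0) (hv : D.Q v ≠ 0) : chi (D.Q u) = chi (D.Q v) := by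
  have h5 := quad_B_ne_zero h2 hv
  obtain ⟨h6, h7⟩ := fix_split hD hy hN h4 h5
  have hc := isOrthCompl_span_singleton h5
  obtain ⟨⟨_, a⟩, w, rfl⟩ := hc.exists_add u
  obtain ⟨c, rfl⟩ := Submodule.mem_span_singleton.1 a
  have h8 : D.Q w = 0 := by
    by_contra h9
    have := (exists_fix h2 (hc.symm.nondeg_left hD) (isIsometry_restrict hy h6)
      (nil_restrict h6 hN)).1 ⟨w, Subtype.ext (by simpa [h4] using h3), h9⟩
    rw [h7, Multiset.count_add, Multiset.count_singleton_self] at h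
    have := Multiset.count_pos.2 this
    omega
  have h9 : D.Q (c • v + w) = c ^ 2 * D.Q v := by
    rw [D.Q_add, w.2 _ a, h8, D.Q_smul]; simp [sq]
  rw [h9] at hu ⊢
  exact chi_sq_mul hv (by rintro rfl; simp at hu)

theorem disc_of_ndi (h2 : (2 : F) ≠ 0) (hD : D.Nondeg) (hE : E.Nondeg) (hy : IsIsometry D D y)
    (h : HasED y (unipOf F ({3, 1} + Multiset.replicate (2 * k) 2))) (hm : finrank F W % 4 = 1)
    (H : NDI D y E) : ∃ v, y v = v ∧ D.Q v ≠ 0 ∧ disc hE = chi (D.Q v) := by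
  obtain ⟨U, h7, h8⟩ := H
  have h9 := h7.symm.nondeg hE
  obtain ⟨h10, hc, h11⟩ := dg_perp hD hy h8 h9
  have hN := nil_restrict h8 (unip_of_hasED h)
  have hy' := isIsometry_restrict hy h8
  obtain ⟨a, b, j, h12, h13, -⟩ := split_two (by simp [Nat.odd_iff]) ((dg_unip h).symm.trans h11)
    fun a ha => by
      rcases a.eq_zero_or_pos with rfl | h0
      · rw [Multiset.count_eq_zero.2 fun h => by simpa using pos_dg hN 0 h]; exact Even.zero
      · exact even_count_quad h2 h9 hy'.B_map (hasED_dg hN) ha h0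
  have h14 := (sum_dg (y.restrict h8)).trans h7.finrank_eq
  rw [h13] at h14
  obtain rfl : a = {1} := by
    rcases pair_split h12 with rfl | rfl | rfl | rfl
    · simp at h14; omega
    · simp [← add_zero a ▸ h12] at h14; omega
    · simp at h14; omega
    · rfl
  obtain ⟨v, h15, h16⟩ := (exists_fix h2 h9 hy' hN).2 (by simp [h13])
  have h17 := quad_B_ne_zero h2 h16
  obtain ⟨h18, h19⟩ := fix_split h9 hy' hN h15 h17
  rw [h13, add_right_inj] at h19
  have h20 := nondeg_perp_singleton h9 h17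
  have h21 := hasTS_of_two h2 h20 (isIsometry_restrict hy' h18) (nil_restrict h18 hN)
    fun a ha => Multiset.eq_of_mem_replicate (h19 ▸ ha)
  have h22 := sum_dg ((y.restrict h8).restrict h18)
  rw [← h19] at h22
  have h23 : finrank F ((D.restrict U).perp (F ∙ v)) = 2 * (2 * j) := by simp at h22; omega
  rw [h23, Nat.mul_div_cancel_left _ two_pos, hasTS_iff_disc h20 h2 h23] at h21
  exact ⟨v, congrArg Subtype.val h15, h16, by
    rw [← h7.disc_eq h9 hE, disc_eq_perp h9 h2 h16, h21, pow_mul]; simp⟩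

theorem quad_unip31 (h2 : (2 : F) ≠ 0) (hD : D.Nondeg) (hE : E.Nondeg)
    (hm : finrank F W < finrank F V) (hn : finrank F V % 4 = 0) (ho : finrank F W % 2 = 1) :
    ¬ ∀ y : End F V, IsIsometry D D y → y ^ p = 1 → NDI D y E := fun H => by
  obtain ⟨n, C, hC, hn', H⟩ : ∃ (n : ℕ) (C : Form (quadKind F) (Fin n → F)), C.Nondeg ∧
      finrank F (Fin n → F) % 4 = 1 ∧ ∀ y : End F V, IsIsometry D D y → y ^ p = 1 → NDI D y C := by
    by_cases h : finrank F W % 4 = 1
    · obtain ⟨C, e⟩ := exists_iso_fin E rfl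
      exact ⟨_, C, e.symm.nondeg hE, by rwa [e.finrank_eq], fun y a b => (H y a b).iso e.symm⟩
    · obtain ⟨l, C, h3, i⟩ := cp_quad.compl hE hD hm
      have := i.finrank_eq
      rw [finrank_prod] at this
      exact ⟨l, C, h3, by omega, fun y a b => (H y a b).compl hD a i⟩
  obtain ⟨y, hy, h3, h4⟩ := quad_real_odd p h2 hD (o := {3, 1}) (k := finrank F V / 4 - 1)
    (by simp) (by simp; omega) (Or.inl (by simp))
  obtain ⟨c, hc, h5⟩ := exists_chi_eq_unit h2 (-1)
  obtain ⟨g, hg⟩ := exists_isom_isoC hD (Quad.iso_qsmul_of_even hD (m := finrank F V / 2)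
    (by omega) hc) (isIsometry_qsmul hy c)
  obtain ⟨u, u1, u2, u3⟩ := disc_of_ndi h2 hD hC hy h4 hn' (H y hy h3)
  obtain ⟨v, v1, v2, v3⟩ := disc_of_ndi h2 (hD.qsmul hc) hC (isIsometry_qsmul hy c) h4 hn'
    ((H _ g.2 ((sim_pow_scalar (z := 1) hg.sim (by simpa using h3)).trans (map_one _))).isoC hg.symm)
  rw [qsmul_Q] at v2 v3
  have h6 := right_ne_zero_of_mul v2
  rw [u3, chi_mul hc h6, h5, chi_fix_eq h2 hD hy (unip_of_hasED h4) (by
    simp [dg_unip h4, Multiset.count_replicate]) u1 v1 u2 h6] at v3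
  simp at v3

end Quad

end Cfsg.Lib.Elu
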